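import Cfsg.Agent.M12Type.Fix

/-!
The centraliser of the central involution is solvable and is the product of its core and the
normaliser of the subgroup of equal parities.
-/

set_option autoImplicit false
set_option linter.unusedSectionVars false
set_option linter.style.haveILetI false

namespace CfsgLib.M12Type

open Subgroup CfsgLib.GTwoFusion

universe u

theorem normal_map_core {H : Type*} [Group H] [Finite H] (A : Subgroup H) [A.Normal] :
    ((Cfsg.pPrimeCore 2 A).map A.subtype).Normal := by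
  haveI : (Cfsg.pPrimeCore 2 A).Characteristic := characteristic_iff_map_le.mpr fun φ =>
    Solvable.le_pPrimeCore 2 ((Solvable.pPrimeCore_spec (G := A) 2).1.map _ φ.surjective)
      ((Solvable.coprime_card_pPrimeCore (G := A) 2).coprime_dvd_left (card_map_dvd _ _))
  infer_instance

/-- An element with odd-order image over a central subgroup of order two has an associate of odd
order in the core. -/
theorem exists_odd_lift {H : Type*} [Group H] [Finite H] {Z : Subgroup H} [Z.Normal]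
    (hZ : Nat.card Z = 2) (hc : ∀ z ∈ Z, ∀ h, h * z = z * h) {o : H}
    (ho : QuotientGroup.mk' Z o ∈ Cfsg.oddCore (H ⧸ Z)) :
    ∃ z ∈ Z, o * z ∈ Cfsg.pPrimeCore 2 H := by
  set O := Cfsg.oddCore (H ⧸ Z) with hO
  haveI hOn : O.Normal := (Solvable.pPrimeCore_spec (G := H ⧸ Z) 2).1
  set K := O.comap (QuotientGroup.mk' Z) with hK
  haveI hKn : K.Normal := hOn.comap _
  have hZK : Z ≤ K := fun z hz => by
    rw [hK, mem_comap, QuotientGroup.mk'_apply, (QuotientGroup.eq_one_iff z).2 hz]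
    exact one_mem _
  set N := Z.subgroupOf K with hN
  haveI : N.Normal := inferInstance
  have hNc : Nat.card N = 2 := by rw [Nat.card_congr (subgroupOfEquivOfLe hZK).toEquiv, hZ]
  have hNi : Odd N.index := by
    have h1 : N.index = Z.relIndex K := rfl
    have h2 : Z.relIndex K = Nat.card O := by
      have h3 := relIndex_comap (f := QuotientGroup.mk' Z) (H := (⊥ : Subgroup (H ⧸ Z))) (K := K)
      rw [MonoidHom.comap_bot, QuotientGroup.ker_mk', relIndex_bot_left, hK,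
        map_comap_eq_self_of_surjective (QuotientGroup.mk'_surjective Z)] at h3
      exact h3
    rw [h1, h2]
    exact Nat.coprime_two_right.1 (Solvable.coprime_card_pPrimeCore (G := H ⧸ Z) 2)
  obtain ⟨M, hM⟩ := exists_right_complement'_of_coprime (N := N)
    (by rw [hNc]; exact Nat.coprime_two_left.2 hNi)
  have hMi : M.index = 2 := by rw [hM.index_eq_card, hNc]
  haveI hMn : M.Normal := normal_of_index_eq_two hMi
  have hModd : Odd (Nat.card M) := by rw [← hM.symm.index_eq_card]; exact hNi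
  have inM : ∀ k : K, Odd (orderOf k) → k ∈ M := by
    intro k hk
    obtain ⟨j, hj⟩ := hk
    have h1 : (k ^ 2) ^ (j + 1) = k := by
      rw [← pow_mul, show 2 * (j + 1) = orderOf k + 1 by omega, pow_succ, pow_orderOf_eq_one, one_mul]
    rw [← h1]
    exact pow_mem (sq_mem_of_index_two hMi k) _
  have hmn : (M.map K.subtype).Normal := by
    refine ⟨?_⟩
    rintro _ ⟨k, hk, rfl⟩ g
    refine ⟨⟨g * k * g⁻¹, hKn.conj_mem _ k.2 g⟩, inM _ ?_, rfl⟩
    rw [← orderOf_coe]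
    refine odd_orderOf_conj g _ ?_
    rw [orderOf_coe]
    exact hModd.of_dvd_nat (Subgroup.orderOf_dvd_natCard _ hk)
  have hle : M.map K.subtype ≤ Cfsg.pPrimeCore 2 H := Solvable.le_pPrimeCore 2 hmn (by
    rw [card_map_of_injective K.subtype_injective]; exact Nat.coprime_two_right.2 hModd)
  have hoK : o ∈ K := ho
  have hsup : (⟨o, hoK⟩ : K) ∈ N ⊔ M := by rw [hM.sup_eq_top]; exact mem_top _
  obtain ⟨n, hn, k, hk, hnk⟩ := mem_sup_of_normal_left.1 hsup
  refine ⟨(n : H)⁻¹, inv_mem (mem_subgroupOf.1 hn), hle ⟨k, hk, ?_⟩⟩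
  have e : o = n * (k : H) := (congrArg Subtype.val hnk).symm
  have hcn := hc n (mem_subgroupOf.1 hn) (k : H)
  show (k : H) = o * (n : H)⁻¹
  rw [e, ← hcn, mul_inv_cancel_right]

namespace Setup

variable {G : Type u} [Group G] [Finite G] [IsSimpleGroup G] {P : Sylow 2 G} (S : Setup P)

include S in
theorem not_dvd_128 : ¬ 128 ∣ Nat.card G := by
  haveI : Fact (Nat.Prime 2) := ⟨Nat.prime_two⟩
  rintro ⟨j, hj⟩
  have h := card_mul_index (P : Subgroup G)
  rw [S.D.card, hj] at h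
  exact P.not_dvd_index ⟨j, by omega⟩

open Classical in
/-- The centraliser of the central involution is solvable, and each of its elements is an element of
its core times an element normalising the subgroup of equal parities. -/
theorem decomp : Group.IsSolvable (centralizer ({S.z} : Set G)) ∧
    ∀ g, g * S.z = S.z * g → ∃ o ∈ Cfsg.centralizerPPrimeCore 2 S.z, ∃ n, n * S.z = S.z * n ∧
      g = o * n ∧ ∀ q ∈ S.Q, n * q * n⁻¹ ∈ S.Q := by
  haveI : Fact (Nat.Prime 2) := ⟨Nat.prime_two⟩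
  obtain ⟨C0, hC0i, hQC0, h17, hPQ⟩ := S.exists_ker
  haveI hC0n : C0.Normal := normal_of_index_eq_two hC0i
  set el0 : ∀ x, x < 64 → qCode x = true → C0 := fun x hx hq =>
    ⟨⟨S.el x, S.P_le_C (S.el_mem x)⟩, hQC0 (mem_subgroupOf.2 ((S.el_mem_Q_iff hx).2 hq))⟩ with hel0
  set ι : C0 →* G := S.C.subtype.comp C0.subtype with hι
  have hιi : Function.Injective ι := fun a b h => Subtype.ext (Subtype.ext h)
  have hz0 : S.el 10 * S.el 10 = 1 := by rw [S.el_z, ← pow_two, ← S.orderOf_z, pow_orderOf_eq_one]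
  set z0 : C0 := el0 10 (by norm_num) qCode_ok.2.1 with hz0def
  have hz0v : ι z0 = S.z := S.el_z
  have hzc : ∀ c : C0, c * z0 = z0 * c := fun c => hιi (by
    rw [map_mul, map_mul, hz0v]; exact S.mem_C.1 c.1.2)
  set Z := zpowers z0 with hZdef
  have hZmem : ∀ {c}, c ∈ Z ↔ c = 1 ∨ c = z0 := fun {c} => by
    rw [hZdef]
    refine ⟨fun h => ?_, fun h => h.elim (fun e => e ▸ one_mem _) fun e => e ▸ mem_zpowers _⟩
    obtain ⟨k, rfl⟩ := mem_zpowers_iff.1 h
    have h2 : z0 ^ 2 = 1 := hιi (by rw [map_pow, hz0v, map_one, ← S.orderOf_z, pow_orderOf_eq_one])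
    rcases Int.even_or_odd k with ⟨j, rfl⟩ | ⟨j, rfl⟩
    · left; rw [← two_mul, zpow_mul, zpow_ofNat, h2, one_zpow]
    · right; rw [zpow_add, zpow_mul, zpow_ofNat, h2, one_zpow, one_mul, zpow_one]
  haveI hZn : Z.Normal := ⟨fun n hn g => by
    rcases hZmem.1 hn with rfl | rfl
    · simp
    · rw [hzc, mul_inv_cancel_right]; exact mem_zpowers _⟩
  have hZ2 : Nat.card Z = 2 := by
    rw [hZdef, Nat.card_zpowers, ← orderOf_injective ι hιi, hz0v, S.orderOf_z]
  set π := QuotientGroup.mk' Z with hπ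
  have hπeq : ∀ {x y : Nat} (hx : x < 64) (hqx : qCode x = true) (hy : y < 64) (hqy : qCode y = true),
      π (el0 x hx hqx) = π (el0 y hy hqy) ↔ cn x = cn y := by
    intro x y hx hqx hy hqy
    rw [hπ, QuotientGroup.mk'_apply, QuotientGroup.mk'_apply, QuotientGroup.eq, hZmem,
      inv_mul_eq_one, inv_mul_eq_iff_eq_mul]
    have e1 : el0 x hx hqx = el0 y hy hqy ↔ x = y :=
      ⟨fun h => S.el_inj hx hy (congrArg ι h), fun h => by subst h; rfl⟩
    have e2 : el0 y hy hqy = el0 x hx hqx * z0 ↔ y = m x 10 :=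
      ⟨fun h => S.el_inj hy (m_ok x hx 10 (by norm_num)) (by
          rw [← S.el_mul]; exact congrArg ι h),
        fun h => hιi (by subst h; rw [map_mul, hz0v, ← S.el_z]; exact (S.el_mul x 10).symm)⟩
    rw [e1, e2]
    obtain ⟨-, -, -, hcn⟩ := cn_ok
    constructor
    · rintro (rfl | rfl)
      · rfl
      · exact (hcn x hx hqx).2.2.1.symm
    · intro h
      rcases (hcn x hx hqx).2.1 with e | e <;> rcases (hcn y hy hqy).2.1 with e' | e'
      · exact Or.inl (by rw [e, e', h])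
      · exact Or.inr (e'.trans (by rw [← h, ← e]))
      · refine Or.inr (e'.trans (h.symm.trans ?_))
        have hc : cn x < 64 := lt_of_le_of_lt (min_le_left _ _) hx
        have : S.el (cn x) = S.el (m x 10) := by
          conv_rhs => rw [e, ← S.el_mul, ← S.el_mul, mul_assoc, hz0, mul_one]
        exact S.el_inj hc (m_ok x hx 10 (by norm_num)) this
      · exact Or.inl (by rw [e, e', h])
  have hcnQ : ∀ {x}, x < 64 → qCode x = true → cn x ∈ cnList := fun hx hq =>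
    List.contains_iff_mem.1 (cn_ok.2.2.2 _ hx hq).1
  have hcnlt : ∀ {x}, x ∈ cnList → x < 64 ∧ qCode x = true ∧ cn x = x := fun h => by
    simpa [cnList, and_assoc] using h
  set Q0 : Subgroup C0 := S.Q.comap ι with hQ0
  have hQ0mem : ∀ {c : C0}, c ∈ Q0 → ∃ x hx hq, el0 x hx hq = c := fun {c} ⟨x, hx, hq, e⟩ =>
    ⟨x, hx, hq, hιi e⟩
  have hQ0c : Nat.card Q0 = 32 := by
    rw [← S.card_Q, ← card_map_of_injective hιi (K := Q0), map_comap_eq_self]
    intro g hg
    exact ⟨⟨⟨g, S.P_le_C (S.Q_le hg)⟩, hQC0 (mem_subgroupOf.2 hg)⟩, rfl⟩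
  have hQ0i : ¬ 2 ∣ Q0.index := by
    rintro ⟨j, hj⟩
    refine S.not_dvd_128 (dvd_trans ⟨j, ?_⟩ (card_subgroup_dvd_card S.C))
    rw [← card_mul_index C0, hC0i, ← card_mul_index Q0, hQ0c, hj]; ring
  have hQ0p : IsPGroup 2 Q0 := IsPGroup.of_card (n := 5) (by rw [hQ0c]; norm_num)
  set TS : Sylow 2 C0 := hQ0p.toSylow hQ0i with hTS
  set T : Sylow 2 (C0 ⧸ Z) := TS.mapSurjective (QuotientGroup.mk'_surjective Z) with hT
  have hTmem : ∀ {v : C0 ⧸ Z}, v ∈ (T : Subgroup (C0 ⧸ Z)) ↔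
      ∃ x hx hq, π (el0 x hx hq) = v := by
    intro v
    constructor
    · rintro ⟨c, hc, rfl⟩
      obtain ⟨x, hx, hq, rfl⟩ := hQ0mem (c := c) hc
      exact ⟨x, hx, hq, rfl⟩
    · rintro ⟨x, hx, hq, rfl⟩
      exact ⟨el0 x hx hq, show el0 x hx hq ∈ Q0 from ⟨x, hx, hq, rfl⟩, rfl⟩
  have hTc : Nat.card (T : Subgroup (C0 ⧸ Z)) = 16 := by
    let f : cnList.toFinset → (T : Subgroup (C0 ⧸ Z)) := fun x =>
      ⟨π (el0 x (hcnlt (List.mem_toFinset.1 x.2)).1 (hcnlt (List.mem_toFinset.1 x.2)).2.1),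
        hTmem.2 ⟨x.1, (hcnlt (List.mem_toFinset.1 x.2)).1, (hcnlt (List.mem_toFinset.1 x.2)).2.1, rfl⟩⟩
    have hf : Function.Bijective f := by
      refine ⟨fun a b e => Subtype.ext ?_, ?_⟩
      · have := (hπeq (hcnlt (List.mem_toFinset.1 a.2)).1 (hcnlt (List.mem_toFinset.1 a.2)).2.1
          (hcnlt (List.mem_toFinset.1 b.2)).1 (hcnlt (List.mem_toFinset.1 b.2)).2.1).1 (congrArg Subtype.val e)
        rwa [(hcnlt (List.mem_toFinset.1 a.2)).2.2, (hcnlt (List.mem_toFinset.1 b.2)).2.2] at this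
      · rintro ⟨v, hv⟩
        obtain ⟨x, hx, hq, rfl⟩ := hTmem.1 hv
        refine ⟨⟨cn x, List.mem_toFinset.2 (hcnQ hx hq)⟩, Subtype.ext ((hπeq (hcnlt (hcnQ hx hq)).1 (hcnlt (hcnQ hx hq)).2.1 hx hq).2 ?_)⟩
        exact (hcnlt (hcnQ hx hq)).2.2
    rw [← Nat.card_eq_of_bijective f hf, Nat.card_eq_finsetCard, List.toFinset_card_of_nodup cn_ok.2.1,
      cn_ok.1]
  have hmul : ∀ {x y : Nat} (hx : x < 64) (hqx : qCode x = true) (hy : y < 64) (hqy : qCode y = true),
      el0 x hx hqx * el0 y hy hqy = el0 (m x y) (m_ok x hx y hy)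
        ((qCode_ok.2.2.2 x hx hqx).2.2.1 y hy hqy) := fun {x y} hx hqx hy hqy =>
    hιi (by rw [map_mul]; exact S.el_mul x y)
  have hexp : ∀ v ∈ (T : Subgroup (C0 ⧸ Z)), v * v = 1 := by
    intro v hv
    obtain ⟨x, hx, hq, rfl⟩ := hTmem.1 hv
    rw [← map_mul, hmul hx hq hx hq, hπ, QuotientGroup.mk'_apply, QuotientGroup.eq_one_iff, hZmem]
    rcases (qCode_ok.2.2.2 x hx hq).2.1 with e | e
    · left
      exact hιi (by rw [map_one]; show S.el (m x x) = 1; rw [e, S.el_zero])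
    · right
      exact hιi (by show S.el (m x x) = S.el 10; rw [e])
  have hord : ∀ {x : Nat} (hx : x < 64) (hq : qCode x = true), cn x ≠ 0 →
      orderOf (π (el0 x hx hq)) = 2 := fun {x} hx hq hne => by
    refine orderOf_eq_prime (by rw [pow_two]; exact hexp _ (hTmem.2 ⟨x, hx, hq, rfl⟩)) fun e => hne ?_
    have h0 : el0 0 (by norm_num) qCode_ok.1 = 1 := hιi (by rw [map_one]; exact S.el_zero)
    rw [← map_one π, ← h0, hπeq hx hq (by norm_num) qCode_ok.1] at e
    rw [e, cn_ok.2.2.1]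
  have hnc : ∃ a b : C0 ⧸ Z, orderOf a = 2 ∧ orderOf b = 2 ∧ ¬ IsConj a b := by
    refine ⟨π (el0 2 (by norm_num) (by decide)), π (el0 5 (by norm_num) (by decide)),
      hord (show 2 < 64 by norm_num) (show qCode 2 = true by decide) (by decide),
      hord (show 5 < 64 by norm_num) (show qCode 5 = true by decide) (by decide), fun h => ?_⟩
    obtain ⟨v, hv⟩ := isConj_iff.1 h
    obtain ⟨c, rfl⟩ := QuotientGroup.mk'_surjective Z v
    rw [← map_inv, ← map_mul, ← map_mul, QuotientGroup.mk'_apply, QuotientGroup.mk'_apply,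
      QuotientGroup.eq, hZmem, inv_mul_eq_one, inv_mul_eq_iff_eq_mul] at hv
    have hsq : ∀ a b : C0, a = b ∨ a = b * z0 → b * b = a * a := by
      rintro a b (rfl | rfl)
      · rfl
      · rw [mul_assoc, ← mul_assoc z0, ← hzc, mul_assoc, show z0 * z0 = 1 from
          hιi (by rw [map_mul, hz0v, map_one, ← pow_two, ← S.orderOf_z, pow_orderOf_eq_one]), mul_one]
    have h2 : el0 2 (by norm_num) (by decide) * el0 2 (by norm_num) (by decide) = 1 := hιi (by
      rw [map_one, hmul (show 2 < 64 by norm_num) (show qCode 2 = true by decide) (show 2 < 64 by norm_num) (show qCode 2 = true by decide)]; show S.el (m 2 2) = 1; rw [show m 2 2 = 0 by decide, S.el_zero])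
    have h5 := hsq (el0 5 (by norm_num) (by decide)) (c * el0 2 (by norm_num) (by decide) * c⁻¹)
      (hv.imp (fun e => e.symm) id)
    rw [conj_mul, h2, mul_one, mul_inv_cancel, hmul (show 5 < 64 by norm_num) (show qCode 5 = true by decide) (show 5 < 64 by norm_num) (show qCode 5 = true by decide)] at h5
    have := congrArg ι h5
    rw [map_one] at this
    exact absurd ((S.el_eq_one_iff (m_ok 5 (by norm_num) 5 (by norm_num))).1 this.symm) (by decide)
  have hfix : ∀ n ∈ normalizer ((T : Subgroup (C0 ⧸ Z)) : Set (C0 ⧸ Z)), Odd (orderOf n) →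
      ∀ e ∈ (T : Subgroup (C0 ⧸ Z)), e ≠ 1 → n * e = e * n →
        ∀ x ∈ (T : Subgroup (C0 ⧸ Z)), n * x = x * n := by
    intro n hn hno e he he1 hne
    obtain ⟨c, rfl⟩ := QuotientGroup.mk'_surjective Z n
    intro v hv
    obtain ⟨x, hx, hq, rfl⟩ := hTmem.1 hv
    obtain ⟨y, hy, hqy, rfl⟩ := hTmem.1 he
    have coset : ∀ (a : C0) {b : Nat} (hb : b < 64) (hqb : qCode b = true),
        π a = π (el0 b hb hqb) → ι a = S.el b ∨ ι a = S.el b * S.z := fun a b hb hqb h => by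
      rw [hπ, QuotientGroup.mk'_apply, QuotientGroup.mk'_apply, QuotientGroup.eq, hZmem,
        inv_mul_eq_one, inv_mul_eq_iff_eq_mul] at h
      rcases h with h | h
      · exact Or.inl (by rw [h]; rfl)
      · refine Or.inr ?_
        have e0 := congrArg ι h
        rw [map_mul, hz0v] at e0
        rw [show S.el b = ι a * S.z from e0, mul_assoc, ← S.el_z, hz0, mul_one]
    have hQ' : ∀ q ∈ S.Q, ι c * q * (ι c)⁻¹ ∈ S.Q := by
      rintro _ ⟨b, hb, hqb, rfl⟩
      obtain ⟨d, hd, hqd, hde⟩ := hTmem.1 ((mem_normalizer_iff.1 hn _).1 (hTmem.2 ⟨b, hb, hqb, rfl⟩))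
      rw [← map_inv, ← map_mul, ← map_mul] at hde
      rw [show ι c * S.el b * (ι c)⁻¹ = ι (c * el0 b hb hqb * c⁻¹) by rw [map_mul, map_mul, map_inv]; rfl]
      rcases coset _ hd hqd hde.symm with h | h <;> rw [h]
      · exact ⟨d, hd, hqd, rfl⟩
      · exact mul_mem ((S.el_mem_Q_iff hd).2 hqd) S.z_mem_Q
    have hfx : ι c * S.el y * (ι c)⁻¹ = S.el y ∨ ι c * S.el y * (ι c)⁻¹ = S.el y * S.z := by
      rw [show ι c * S.el y * (ι c)⁻¹ = ι (c * el0 y hy hqy * c⁻¹) by rw [map_mul, map_mul, map_inv]; rfl]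
      refine coset _ hy hqy ?_
      rw [map_mul, map_mul, map_inv, hne, mul_inv_cancel_right]
    have hy0 : cn y ≠ 0 := fun e0 => he1 (by
      rw [← map_one π, ← show el0 0 (by norm_num) qCode_ok.1 = 1 from hιi (by rw [map_one]; exact S.el_zero),
        hπeq hy hqy (by norm_num) qCode_ok.1, e0, cn_ok.2.2.1])
    have h4 : π c ^ 4 ∈ centralizer ({π (el0 x hx hq)} : Set (C0 ⧸ Z)) := by
      refine mem_centralizer_singleton_iff.2 (mul_inv_eq_iff_eq_mul.1 ?_)
      rw [← map_pow, ← map_inv, ← map_mul, ← map_mul, hπ, QuotientGroup.mk'_apply,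
        QuotientGroup.mk'_apply, QuotientGroup.eq, hZmem, inv_mul_eq_one, inv_mul_eq_iff_eq_mul]
      have e4 : ι (c ^ 4 * el0 x hx hq * (c ^ 4)⁻¹) = ι c ^ 4 * S.el x * (ι c ^ 4)⁻¹ := by
        rw [map_mul, map_mul, map_inv, map_pow]; rfl
      rcases S.four_fix c.1.2 hQ' hy hqy hy0 hfx _ ((S.el_mem_Q_iff hx).2 hq) with h | h
      · exact Or.inl (hιi (e4.trans h))
      · refine Or.inr (hιi ?_)
        rw [map_mul, hz0v, e4]
        change ι c ^ 4 * S.el x * (ι c ^ 4)⁻¹ = S.el x * S.z at h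
        rw [h, mul_assoc, ← S.el_z, hz0, mul_one]
        rfl
    have ho : π c ^ orderOf (π c) ∈ centralizer ({π (el0 x hx hq)} : Set (C0 ⧸ Z)) := by
      rw [pow_orderOf_eq_one]; exact one_mem _
    exact mem_centralizer_singleton_iff.1 (mem_of_pow_mem
      ((Nat.coprime_two_left.2 hno).pow_left 2 : Nat.Coprime (2 ^ 2) (orderOf (π c))) h4 ho)
  obtain ⟨hsolX, hRn⟩ := four_sylow T hTc hexp hnc hfix
  haveI := hRn
  haveI hZsol : Group.IsSolvable Z := Group.isSolvable_of_comm fun a b => Subtype.ext (by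
    show (a : C0) * b = b * a
    rcases hZmem.1 a.2 with e | e <;> rw [e]
    · rw [one_mul, mul_one]
    · exact (hzc b).symm)
  haveI hsol0 : Group.IsSolvable C0 :=
    (Group.isSolvable_iff_subgroup_quotient Z).mpr ⟨hZsol, hsolX⟩
  haveI hsolQ : Group.IsSolvable (S.C ⧸ C0) := by
    haveI : Fact (Nat.Prime 2) := ⟨Nat.prime_two⟩
    haveI : IsCyclic (S.C ⧸ C0) := isCyclic_of_prime_card (p := 2) (by rw [← index_eq_card, hC0i])
    exact Group.isSolvable_of_comm fun a b => IsCyclic.commGroup.mul_comm a b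
  refine ⟨(Group.isSolvable_iff_subgroup_quotient C0).mpr ⟨hsol0, hsolQ⟩, fun g hg => ?_⟩
  have h17n : ∀ q ∈ S.Q, S.el 17 * q * (S.el 17)⁻¹ ∈ S.Q := by
    intro q hq
    haveI : (S.Q.subgroupOf (P : Subgroup G)).Normal := normal_of_index_eq_two S.index_Q
    exact mem_subgroupOf.1 (Subgroup.Normal.conj_mem ‹_› ⟨q, S.Q_le hq⟩ (mem_subgroupOf.2 hq) ⟨_, S.el_mem 17⟩)
  set gC : S.C := ⟨g, S.mem_C.2 hg⟩
  obtain ⟨p, hp, hgp, hpC⟩ : ∃ p : S.C, (∀ q ∈ S.Q, (p : G) * q * (p : G)⁻¹ ∈ S.Q) ∧ gC * p⁻¹ ∈ C0 ∧ True := by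
    by_cases h : gC ∈ C0
    · exact ⟨1, fun q hq => by simpa using hq, by simpa using h, trivial⟩
    · refine ⟨⟨S.el 17, S.P_le_C (S.el_mem 17)⟩, h17n, ?_, trivial⟩
      rw [mul_mem_iff_of_index_two hC0i, inv_mem_iff]
      exact iff_of_false h h17
  set c0 : C0 := ⟨gC * p⁻¹, hgp⟩
  have hO : (Cfsg.oddCore (C0 ⧸ Z)).Normal := (Solvable.pPrimeCore_spec (G := C0 ⧸ Z) 2).1
  have htop := Sylow.normalizer_sup_eq_top' (N := Cfsg.oddCore (C0 ⧸ Z) ⊔ (T : Subgroup (C0 ⧸ Z))) T le_sup_right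
  obtain ⟨r, hr, n, hn, hrn⟩ := mem_sup_of_normal_right.1 (show π c0 ∈ normalizer (T : Set (C0 ⧸ Z)) ⊔
    (Cfsg.oddCore (C0 ⧸ Z) ⊔ (T : Subgroup (C0 ⧸ Z))) by rw [htop]; exact mem_top _)
  obtain ⟨o, ho, t, ht, hot⟩ := mem_sup_of_normal_left.1 hn
  obtain ⟨o0, ho0⟩ := QuotientGroup.mk'_surjective Z (r * o * r⁻¹)
  obtain ⟨z1, hz1, ho1⟩ := exists_odd_lift hZ2 (fun v hv h => by
    rcases hZmem.1 hv with rfl | rfl
    · simp
    · exact hzc h) (show π o0 ∈ Cfsg.oddCore (C0 ⧸ Z) from ho0 ▸ hO.conj_mem o ho r)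
  obtain ⟨k, hk⟩ : ∃ k : C0, k = (o0 * z1)⁻¹ * c0 := ⟨_, rfl⟩
  have hπk : π k ∈ normalizer (T : Set (C0 ⧸ Z)) := by
    have e : π k = r * t := by
      have hz1' : π z1 = 1 := by rw [hπ, QuotientGroup.mk'_apply]; exact (QuotientGroup.eq_one_iff z1).2 hz1
      rw [hk, map_mul, map_inv, map_mul, hz1', mul_one, hπ, ho0, ← hπ, ← hrn, ← hot]
      group
    rw [e]
    exact mul_mem hr (le_normalizer ht)
  refine ⟨ι (o0 * z1), ?_, ι k * (p : G), ?_, ?_, fun q hq => ?_⟩
  · have hle : (Cfsg.pPrimeCore 2 C0).map C0.subtype ≤ Cfsg.pPrimeCore 2 S.C :=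
      Solvable.le_pPrimeCore 2 (normal_map_core C0) (by
        rw [card_map_of_injective C0.subtype_injective]
        exact Solvable.coprime_card_pPrimeCore (G := C0) 2)
    exact ⟨((o0 * z1 : C0) : S.C), hle (mem_map_of_mem _ ho1), rfl⟩
  · exact S.mem_C.1 (mul_mem k.1.2 p.2)
  · rw [← mul_assoc, ← map_mul, hk, mul_inv_cancel_left]
    show g = (gC * p⁻¹ : S.C).1 * (p : G)
    rw [← Subgroup.coe_mul, inv_mul_cancel_right]
  · obtain ⟨y, hy, hqy, hye⟩ := hp q hq
    obtain ⟨w, hw, hqw, hwe⟩ := hTmem.1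
      ((mem_normalizer_iff.1 hπk _).1 (hTmem.2 ⟨y, hy, hqy, rfl⟩))
    rw [← map_inv, ← map_mul, ← map_mul, hπ, QuotientGroup.mk'_apply, QuotientGroup.mk'_apply,
      QuotientGroup.eq, hZmem, inv_mul_eq_one, inv_mul_eq_iff_eq_mul] at hwe
    have e : ι k * (p : G) * q * (ι k * (p : G))⁻¹ = ι (k * el0 y hy hqy * k⁻¹) := by
      rw [map_mul, map_mul, map_inv, show ι (el0 y hy hqy) = S.el y from rfl, hye]
      group
    rw [e]
    rcases hwe with hwe | hwe
    · rw [← hwe]; exact ⟨w, hw, hqw, rfl⟩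
    · rw [hwe, map_mul, hz0v]
      exact mul_mem (show ι (el0 w hw hqw) ∈ S.Q from ⟨w, hw, hqw, rfl⟩) S.z_mem_Q

end Setup

end CfsgLib.M12Type
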