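import Cfsg.Agent.M12Type.FunctorData
import Cfsg.Agent.M12Type.LocalQuot
import Cfsg.Agent.SFTCor.Equivariant

/-!
The signalizer functor: the centralisers of the central involutions of the normaliser of its value
lie in that normaliser.
-/

set_option autoImplicit false
set_option linter.unusedSectionVars false
set_option linter.style.haveILetI false

namespace CfsgLib.M12Type

open Subgroup CfsgLib.GTwoFusion

universe u

variable {G : Type u} [Group G] [Finite G] [IsSimpleGroup G] {P : Sylow 2 G}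

/-- The core of the centraliser. -/
abbrev θ (x : G) : Subgroup G := Cfsg.centralizerPPrimeCore 2 x

theorem θ_conj_mem {g a x : G} (hx : x ∈ θ a) : g * x * g⁻¹ ∈ θ (g * a * g⁻¹) := by
  haveI : Fact (Nat.Prime 2) := ⟨Nat.prime_two⟩
  show g * x * g⁻¹ ∈ Cfsg.centralizerPPrimeCore 2 (g * a * g⁻¹)
  rw [SFTCor.centralizerPPrimeCore_conj]
  exact ⟨x, hx, rfl⟩

theorem θ_comm {a x : G} (hx : x ∈ θ a) : x * a = a * x :=
  mem_centralizer_singleton_iff.1 (Signalizer.mem_centralizerPPrimeCore_le hx)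

/-- The join of the cores over a four group. -/
def WF (a b : G) : Subgroup G := θ a ⊔ θ b ⊔ θ (a * b)

theorem WF_conj {g a b : G} {x : G} (hx : x ∈ WF a b) :
    g * x * g⁻¹ ∈ WF (g * a * g⁻¹) (g * b * g⁻¹) := by
  have h : (WF a b).map (MulAut.conj g).toMonoidHom ≤ WF (g * a * g⁻¹) (g * b * g⁻¹) := by
    rw [WF, Subgroup.map_sup, Subgroup.map_sup]
    have hle : ∀ c : G, (θ c).map (MulAut.conj g).toMonoidHom ≤ θ (g * c * g⁻¹) := fun c => by
      rintro _ ⟨y, hy, rfl⟩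
      exact θ_conj_mem hy
    unfold WF
    rw [conj_mul]
    exact sup_le_sup (sup_le_sup (hle a) (hle b)) (hle (a * b))
  exact h ⟨x, hx, rfl⟩

theorem WF_comm {a b : G} (hab : a * b = b * a) : WF a b = WF b a := by
  rw [WF, WF, sup_comm (θ a), hab]

/-- The four group generated by two commuting involutions. -/
def four {a b : G} (ha : a * a = 1) (hb : b * b = 1) (hab : a * b = b * a) : Subgroup G where
  carrier := {g | g = 1 ∨ g = a ∨ g = b ∨ g = a * b}
  one_mem' := Or.inl rfl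
  mul_mem' := by
    have ba : b * a = a * b := hab.symm
    have aab : a * (a * b) = b := by rw [← mul_assoc, ha, one_mul]
    have bab : b * (a * b) = a := by rw [← mul_assoc, ba, mul_assoc, hb, mul_one]
    have aba : a * b * a = b := by rw [mul_assoc, ba, aab]
    have abb : a * b * b = a := by rw [mul_assoc, hb, mul_one]
    have abab : a * b * (a * b) = 1 := by rw [← mul_assoc, aba, hb]
    rintro g h (rfl | rfl | rfl | rfl) (rfl | rfl | rfl | rfl)
    · exact Or.inl (one_mul _)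
    · exact Or.inr (Or.inl (one_mul _))
    · exact Or.inr (Or.inr (Or.inl (one_mul _)))
    · exact Or.inr (Or.inr (Or.inr (one_mul _)))
    · exact Or.inr (Or.inl (mul_one _))
    · exact Or.inl ha
    · exact Or.inr (Or.inr (Or.inr rfl))
    · exact Or.inr (Or.inr (Or.inl aab))
    · exact Or.inr (Or.inr (Or.inl (mul_one _)))
    · exact Or.inr (Or.inr (Or.inr ba))
    · exact Or.inl hb
    · exact Or.inr (Or.inl bab)
    · exact Or.inr (Or.inr (Or.inr (mul_one _)))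
    · exact Or.inr (Or.inr (Or.inl aba))
    · exact Or.inr (Or.inl abb)
    · exact Or.inl abab
  inv_mem' := by
    rintro g (rfl | rfl | rfl | rfl)
    · exact Or.inl inv_one
    · exact Or.inr (Or.inl (inv_eq_of_mul_eq_one_right ha))
    · exact Or.inr (Or.inr (Or.inl (inv_eq_of_mul_eq_one_right hb)))
    · refine Or.inr (Or.inr (Or.inr ?_))
      rw [_root_.mul_inv_rev, inv_eq_of_mul_eq_one_right ha, inv_eq_of_mul_eq_one_right hb, hab]

theorem card_four {a b : G} (ha : a * a = 1) (hb : b * b = 1) (hab : a * b = b * a) (ha1 : a ≠ 1)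
    (hb1 : b ≠ 1) (hne : a ≠ b) : 2 ^ 2 ≤ Nat.card (four ha hb hab) := by
  classical
  have h3 : a * b ≠ 1 := fun e => hne (by
    rw [eq_inv_of_mul_eq_one_left e, inv_eq_of_mul_eq_one_right hb])
  let L : List G := [1, a, b, a * b]
  have hnd : L.Nodup := by
    refine List.nodup_cons.2 ⟨?_, List.nodup_cons.2 ⟨?_, List.nodup_cons.2 ⟨?_, List.nodup_singleton _⟩⟩⟩ <;>
      simp only [List.mem_cons, List.not_mem_nil, or_false, not_or]
    · exact ⟨ha1.symm, hb1.symm, h3.symm⟩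
    · exact ⟨hne, fun e => hb1 (mul_left_cancel (a := a) (by rw [mul_one]; exact e.symm))⟩
    · exact fun e => ha1 (mul_right_cancel (b := b) (by rw [one_mul]; exact e.symm))
  let f : L.toFinset → four ha hb hab := fun x => ⟨x, by
    have h := List.mem_toFinset.1 x.2
    simp only [L, List.mem_cons, List.not_mem_nil, or_false] at h
    exact h⟩
  have h4 := Nat.card_le_card_of_injective f fun x y e =>
    Subtype.ext (congrArg (fun t : four ha hb hab => (t : G)) e)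
  rw [Nat.card_eq_finsetCard, List.toFinset_card_of_nodup hnd] at h4
  simpa [L] using h4

namespace Setup

variable (S : Setup P)

theorem mul_self_el {x : Nat} (h : m x x = 0) : S.el x * S.el x = 1 := by
  rw [S.el_mul, h, S.el_zero]

theorem solvable_of_z {y : G} (hy : IsConj S.z y) : Group.IsSolvable (centralizer ({y} : Set G)) := by
  obtain ⟨g, rfl⟩ := isConj_iff.1 hy
  haveI := S.decomp.1
  let f : centralizer ({S.z} : Set G) →* centralizer ({g * S.z * g⁻¹} : Set G) :=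
    ((MulAut.conj g).toMonoidHom.comp (centralizer ({S.z} : Set G)).subtype).codRestrict _ fun x => by
      refine mem_centralizer_singleton_iff.2 ?_
      show g * (x : G) * g⁻¹ * (g * S.z * g⁻¹) = g * S.z * g⁻¹ * (g * (x : G) * g⁻¹)
      rw [conj_mul, conj_mul, mem_centralizer_singleton_iff.1 x.2]
  refine Group.isSolvable_of_surjective (f := f) fun x => ?_
  refine ⟨⟨g⁻¹ * x * g, mem_centralizer_singleton_iff.2 ?_⟩, Subtype.ext ?_⟩
  · have h := mem_centralizer_singleton_iff.1 x.2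
    calc g⁻¹ * x * g * S.z = g⁻¹ * ((x : G) * (g * S.z * g⁻¹)) * g := by group
      _ = S.z * (g⁻¹ * x * g) := by rw [h]; group
  · show g * (g⁻¹ * x * g) * g⁻¹ = (x : G)
    group

theorem balance {x y : G} (hx : x * x = 1) (hxy : x * y = y * x) (hy : IsConj S.z y) :
    θ x ⊓ centralizer {y} ≤ θ y := by
  haveI : Fact (Nat.Prime 2) := ⟨Nat.prime_two⟩
  exact Signalizer.centralizerPPrimeCore_inf_le (by rw [pow_two, hx]) hxy (S.solvable_of_z hy)

/-- The subgroup of a pure list. -/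
def ofPure {r : Bool} {L : List Nat} (hL : pureList r L = true) : Subgroup G where
  carrier := {g | ∃ x ∈ L, S.el x = g}
  one_mem' := by
    simp only [pureList, Bool.and_eq_true, List.contains_iff_mem] at hL
    exact ⟨0, hL.1.1.1.2, S.el_zero⟩
  mul_mem' := by
    rintro _ _ ⟨x, hx, rfl⟩ ⟨y, hy, rfl⟩
    simp only [pureList, Bool.and_eq_true, List.all_eq_true, List.contains_iff_mem] at hL
    exact ⟨m x y, (hL.2 x hx y hy).1, (S.el_mul x y).symm⟩
  inv_mem' := by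
    rintro _ ⟨x, hx, rfl⟩
    simp only [pureList, Bool.and_eq_true, List.all_eq_true, Nat.beq_eq] at hL
    exact ⟨x, hx, (inv_eq_of_mul_eq_one_right (S.mul_self_el (hL.1.1.2 x hx).1.2)).symm⟩

theorem pure_spec {L : List Nat} (hL : pureList S.r L = true) :
    L.Nodup ∧ L.length = 8 ∧ (∀ x ∈ L, x < 64 ∧ m x x = 0 ∧ (x = 0 ∨ IsConj S.z (S.el x))) ∧
      ∀ x ∈ L, ∀ y ∈ L, m x y ∈ L ∧ S.el x * S.el y = S.el y * S.el x := by
  simp only [pureList, Bool.and_eq_true, List.all_eq_true, Nat.beq_eq, Nat.blt_eq, Bool.or_eq_true,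
    beq_iff_eq, decide_eq_true_iff, List.contains_iff_mem] at hL
  obtain ⟨⟨⟨⟨h8, -⟩, hx⟩, hnd⟩, hm⟩ := hL
  refine ⟨hnd, h8, fun x h => ⟨(hx x h).1.1, (hx x h).1.2, (hx x h).2.imp id
    (S.isConj_z_iff (hx x h).1.1).2⟩, fun x hxL y hyL => ⟨(hm x hxL y hyL).1, ?_⟩⟩
  rw [S.el_mul, S.el_mul, (hm x hxL y hyL).2]

/-- The functor of a pure list is the join over any of its four groups, and is odd. -/
theorem WF_pure {L : List Nat} (hL : pureList S.r L = true) :
    Odd (Nat.card ↥(⨆ e : {e : G // e ∈ S.ofPure hL ∧ e ≠ 1}, θ (e : G))) ∧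
    (∀ e ∈ S.ofPure hL, e ≠ 1 →
      (⨆ e : {e : G // e ∈ S.ofPure hL ∧ e ≠ 1}, θ (e : G)) ⊓ centralizer {e} = θ e) ∧
    ∀ a ∈ L, ∀ b ∈ L, a ≠ 0 → b ≠ 0 → a ≠ b →
      WF (S.el a) (S.el b) = ⨆ e : {e : G // e ∈ S.ofPure hL ∧ e ≠ 1}, θ (e : G) := by
  haveI : Fact (Nat.Prime 2) := ⟨Nat.prime_two⟩
  obtain ⟨hnd, h8, hLx, hLm⟩ := S.pure_spec hL
  set A := S.ofPure hL with hA
  have hAmem : ∀ {g}, g ∈ A ↔ ∃ x ∈ L, S.el x = g := Iff.rfl
  have hsq : ∀ g ∈ A, g * g = 1 := by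
    rintro _ ⟨x, hx, rfl⟩
    exact S.mul_self_el (hLx x hx).2.1
  have hAc : ∀ g ∈ A, ∀ h ∈ A, g * h = h * g := by
    rintro _ ⟨x, hx, rfl⟩ _ ⟨y, hy, rfl⟩
    exact (hLm x hx y hy).2
  have hB : ∀ g ∈ A, g ≠ 1 → IsConj S.z g := by
    rintro _ ⟨x, hx, rfl⟩ h1
    exact (hLx x hx).2.2.resolve_left fun e => h1 (by rw [e, S.el_zero])
  have hcard : Nat.card A = 8 := by
    classical
    let f : L.toFinset → A := fun x => ⟨S.el x, x, List.mem_toFinset.1 x.2, rfl⟩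
    have hf : Function.Bijective f := by
      refine ⟨fun a b e => Subtype.ext (S.el_inj (hLx a (List.mem_toFinset.1 a.2)).1
        (hLx b (List.mem_toFinset.1 b.2)).1 (congrArg Subtype.val e)), ?_⟩
      rintro ⟨g, x, hx, rfl⟩
      exact ⟨⟨x, List.mem_toFinset.2 hx⟩, rfl⟩
    rw [← Nat.card_eq_of_bijective f hf, Nat.card_eq_finsetCard, List.toFinset_card_of_nodup hnd, h8]
  have hinv : ∀ a ∈ A, ∀ b ∈ A, ∀ x ∈ θ a, b * x * b⁻¹ ∈ θ a := fun a ha b hb x hx => by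
    have h := θ_conj_mem (g := b) hx
    rwa [hAc b hb a ha, mul_inv_cancel_right] at h
  obtain ⟨hW2, hWC⟩ := Cfsg.Agent.S0217.result (p := 2) A hAc (fun a ha => by rw [pow_two, hsq a ha])
    (by rw [hcard]; norm_num) (fun a => θ a) (fun a _ _ => Signalizer.mem_centralizerPPrimeCore_le)
    (fun a _ _ h => Nat.not_even_iff_odd.2 (cpc_odd a) (even_iff_two_dvd.2 h))
    (fun a ha _ b hb x hx => hinv a ha b hb x hx) (fun a _ _ => Cfsg.Agent.S0205.result (cpc_odd a))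
    (fun a ha _ b hb hb1 => S.balance (hsq a ha) (hAc a ha b hb) (hB b hb hb1))
  set W := ⨆ e : {e : G // e ∈ A ∧ e ≠ 1}, θ (e : G) with hW
  refine ⟨Nat.not_even_iff_odd.1 fun h => hW2 (even_iff_two_dvd.1 h), fun e he he1 => hWC e he he1,
    fun a ha b hb ha0 hb0 hab => ?_⟩
  have hne : ∀ {x}, x ∈ L → x ≠ 0 → S.el x ≠ 1 := fun hx hx0 e => hx0 ((S.el_eq_one_iff (hLx _ hx).1).1 e)
  have hab' : m a b ≠ 0 := fun e => hab (by
    refine S.el_inj (hLx a ha).1 (hLx b hb).1 ?_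
    have h1 : S.el a * S.el b = 1 := by rw [S.el_mul, e, S.el_zero]
    rw [eq_inv_of_mul_eq_one_left h1, inv_eq_of_mul_eq_one_right (S.mul_self_el (hLx b hb).2.1)])
  have hθW : ∀ {g}, g ∈ A → g ≠ 1 → θ g ≤ W := fun {g} hg hg1 =>
    le_iSup_of_le (f := fun e : {e : G // e ∈ A ∧ e ≠ 1} => θ (e : G)) ⟨g, hg, hg1⟩ le_rfl
  refine le_antisymm (sup_le (sup_le (hθW ⟨a, ha, rfl⟩ (hne ha ha0)) (hθW ⟨b, hb, rfl⟩ (hne hb hb0)))
    (hθW ⟨m a b, (hLm a ha b hb).1, (S.el_mul a b).symm⟩ (by rw [S.el_mul]; exact hne (hLm a ha b hb).1 hab'))) ?_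
  set U := four (hsq _ ⟨a, ha, rfl⟩) (hsq _ ⟨b, hb, rfl⟩) (hLm a ha b hb).2 with hU
  have hUA : U ≤ A := by
    rintro g (rfl | rfl | rfl | rfl)
    · exact one_mem _
    · exact ⟨a, ha, rfl⟩
    · exact ⟨b, hb, rfl⟩
    · exact ⟨m a b, (hLm a ha b hb).1, (S.el_mul a b).symm⟩
  have hU2 : 2 ^ 2 ≤ Nat.card U := card_four _ _ _ (hne ha ha0) (hne hb hb0)
    fun e => hab (S.el_inj (hLx a ha).1 (hLx b hb).1 e)
  have hel : Cfsg.IsElementaryAbelian 2 A :=
    ⟨⟨⟨fun x y => Subtype.ext (hAc x x.2 y y.2)⟩⟩, fun g hg => by rw [pow_two, hsq g hg]⟩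
  refine Signalizer.le_of_forall_centralizer hel hUA hU2 ?_ hW2 fun g hg hg1 => ?_
  · refine hUA.trans (Signalizer.le_normalizer_of_conj_mem fun g hg x hx => ?_)
    induction hx using Subgroup.iSup_induction' with
    | hp e x hx => exact hθW e.2.1 e.2.2 (hinv e e.2.1 g hg x hx)
    | h1 => simp
    | hmul x y _ _ hx hy => rw [← conj_mul]; exact mul_mem hx hy
  · rw [hWC g (hUA hg) hg1]
    rcases hg with rfl | rfl | rfl | rfl
    · exact absurd rfl hg1
    · exact le_sup_of_le_left le_sup_left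
    · exact le_sup_of_le_left le_sup_right
    · exact le_sup_right

/-- The value of the functor. -/
def W : Subgroup G := WF (S.el 2) (S.el 8)

/-- Its normaliser. -/
def M : Subgroup G := normalizer (S.W : Set G)

theorem W_of_pure {L : List Nat} (hL : pureList S.r L = true) (h2 : 2 ∈ L) (h8 : 8 ∈ L) {a b : Nat}
    (ha : a ∈ L) (hb : b ∈ L) (ha0 : a ≠ 0) (hb0 : b ≠ 0) (hab : a ≠ b) :
    WF (S.el a) (S.el b) = S.W :=
  ((S.WF_pure hL).2.2 a ha b hb ha0 hb0 hab).trans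
    ((S.WF_pure hL).2.2 2 h2 8 h8 (by norm_num) (by norm_num) (by norm_num)).symm

theorem W_of_eList {a b : Nat} (ha : a ∈ eList) (hb : b ∈ eList) (ha0 : a ≠ 0) (hb0 : b ≠ 0)
    (hab : a ≠ b) : WF (S.el a) (S.el b) = S.W :=
  S.W_of_pure (pure_eList S.r) (by decide) (by decide) ha hb ha0 hb0 hab

theorem odd_W : Odd (Nat.card S.W) := by
  have h := S.WF_pure (pure_eList S.r)
  rw [show S.W = _ from h.2.2 2 (by decide) 8 (by decide) (by norm_num) (by norm_num) (by norm_num)]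
  exact h.1

/-- The core of the centraliser of an involution of the elementary abelian group of order eight. -/
theorem W_inf {e : Nat} (he : e ∈ eList) (he0 : e ≠ 0) : S.W ⊓ centralizer {S.el e} = θ (S.el e) := by
  have h := S.WF_pure (pure_eList S.r)
  rw [show S.W = _ from h.2.2 2 (by decide) 8 (by decide) (by norm_num) (by norm_num) (by norm_num)]
  exact h.2.1 _ ⟨e, he, rfl⟩ fun e' => he0 ((S.el_eq_one_iff ((S.pure_spec (pure_eList S.r)).2.2.1 e he).1).1 e')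

theorem W_z {p : Nat} (hp : p < 64) (hz : IsConj S.z (S.el p)) (hne : p ≠ 10) :
    WF S.z (S.el p) = S.W := by
  rw [← S.el_z]
  have h10 : (10 : Nat) ∈ eList := by decide
  rcases pure_above S.r p hp ((S.isConj_z_iff hp).1 hz) with rfl | rfl | rfl | ⟨hL, hc⟩
  · exact S.W_of_eList h10 (by decide) (by norm_num) (by norm_num) hne.symm
  · exact S.W_of_eList h10 (by decide) (by norm_num) (by norm_num) hne.symm
  · exact absurd rfl hne
  · refine S.W_of_pure hL (by simp [aboveV]) (by simp [aboveV]) (by simp [aboveV])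
      (List.contains_iff_mem.1 hc) (by norm_num) (fun e => ?_) hne.symm
    rw [e, S.el_zero, isConj_one_left] at hz
    · exact Invol.ne_one S.orderOf_z hz

theorem C_le_M : S.C ≤ S.M := by
  refine Signalizer.le_normalizer_of_conj_mem fun g hg x hx => ?_
  obtain ⟨o, ho, n, hn, rfl, hQ⟩ := S.decomp.2 g (S.mem_C.1 hg)
  have hθ : θ S.z ≤ S.W := by
    rw [W, WF, S.el_mul, show m 2 8 = 10 by decide, S.el_z]
    exact le_sup_right
  suffices h : n * x * n⁻¹ ∈ S.W by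
    rw [show o * n * x * (o * n)⁻¹ = o * (n * x * n⁻¹) * o⁻¹ by group]
    exact mul_mem (mul_mem (hθ ho) h) (inv_mem (hθ ho))
  have hE : ∀ y ∈ eList, y ≠ 0 → ∃ v ∈ eList, v ≠ 0 ∧ n * S.el y * n⁻¹ = S.el v := by
    intro y hy hy0
    obtain ⟨hlt, hq, hz⟩ := (eList_ok S.r).2.1 y hy
    have hzy := (S.isConj_z_iff hlt).2 (hz.resolve_left hy0)
    obtain ⟨v, hv, hqv, hve⟩ := hQ _ ((S.el_mem_Q_iff hlt).2 hq)
    have hzv : IsConj S.z (S.el v) := hve ▸ hzy.trans (isConj_iff.2 ⟨n, rfl⟩)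
    refine ⟨v, List.contains_iff_mem.1 ((eList_ok S.r).1 v hv hqv ((S.isConj_z_iff hv).1 hzv)),
      fun e => ?_, hve.symm⟩
    rw [e, S.el_zero, isConj_one_left] at hzv
    exact Invol.ne_one S.orderOf_z hzv
  obtain ⟨u, hu, hu0, hue⟩ := hE 2 (by decide) (by norm_num)
  obtain ⟨v, hv, hv0, hve⟩ := hE 8 (by decide) (by norm_num)
  have h' : n * x * n⁻¹ ∈ WF (n * S.el 2 * n⁻¹) (n * S.el 8 * n⁻¹) := WF_conj hx
  rw [hue, hve] at h'
  rwa [S.W_of_eList hu hv hu0 hv0 ?_] at h'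
  rintro rfl
  have := mul_left_cancel (mul_right_cancel (hue.trans hve.symm))
  exact absurd (S.el_inj (by norm_num) (by norm_num) this) (by norm_num)

theorem P_le_M : (P : Subgroup G) ≤ S.M := S.P_le_C.trans S.C_le_M

/-- A central involution of the Sylow subgroup is a conjugate of `z` in `M`. -/
theorem exists_mem_M_z {c : G} (hc : c ∈ (P : Subgroup G)) (hzc : IsConj S.z c) :
    ∃ g ∈ S.M, g * S.z * g⁻¹ = c := by
  haveI : Fact (Nat.Prime 2) := ⟨Nat.prime_two⟩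
  obtain ⟨g, hg⟩ := isConj_iff.1 hzc
  have hyC : g⁻¹ * S.z * g ∈ S.C := S.mem_C.2 (by
    have h : S.z * c = c * S.z := S.z_comm hc
    rw [← hg] at h
    calc g⁻¹ * S.z * g * S.z = g⁻¹ * (S.z * (g * S.z * g⁻¹)) * g := by group
      _ = S.z * (g⁻¹ * S.z * g) := by rw [h]; group)
  have ho : orderOf (g⁻¹ * S.z * g) = 2 := by
    have h := Invol.orderOf_conj_eq g⁻¹ S.z
    rw [inv_inv] at h
    rw [h, S.orderOf_z]
  have hp : IsPGroup 2 (zpowers (⟨_, hyC⟩ : S.C)) :=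
    IsPGroup.of_card (n := 1) (by rw [Nat.card_zpowers, ← orderOf_coe, pow_one]; exact ho)
  obtain ⟨R, hR⟩ := hp.exists_le_sylow
  obtain ⟨k, hk⟩ := MulAction.exists_smul_eq S.C R (P.subtype S.P_le_C)
  have hkP : (k : G) * (g⁻¹ * S.z * g) * (k : G)⁻¹ ∈ (P : Subgroup G) := by
    have : k * ⟨_, hyC⟩ * k⁻¹ ∈ (P.subtype S.P_le_C : Subgroup S.C) := by
      rw [← hk]
      exact ⟨_, hR (mem_zpowers _), rfl⟩
    exact this
  have hkz : (k : G)⁻¹ * S.z * (k : G) = S.z := by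
    rw [mul_assoc, ← S.mem_C.1 k.2, inv_mul_cancel_left]
  set g' := g * (k : G)⁻¹ with hg'
  have hg'z : g' * S.z * g'⁻¹ = c := by
    calc g' * S.z * g'⁻¹ = g * ((k : G)⁻¹ * S.z * (k : G)) * g⁻¹ := by rw [hg']; group
      _ = c := by rw [hkz, hg]
  obtain ⟨y, hy, hye⟩ := S.exists_el hkP
  have hg'y : g' * S.el y * g'⁻¹ = S.z := by rw [hye, hg']; group
  refine ⟨g', ?_, hg'z⟩
  have hzy : IsConj S.z (S.el y) := IsConj.symm (isConj_iff.2 ⟨g', hg'y⟩)
  obtain ⟨x, hx, rfl⟩ := S.exists_el hc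
  by_cases hy10 : y = 10
  · rw [hy10, S.el_z] at hg'y
    exact S.C_le_M (S.mem_C.2 (mul_inv_eq_iff_eq_mul.1 hg'y))
  have hx10 : x ≠ 10 := fun e => hy10 (S.el_inj hy (by norm_num) (by
    rw [e, S.el_z] at hg'z
    rw [S.el_z]
    exact mul_left_cancel (mul_right_cancel (hg'y.trans hg'z.symm))))
  have h : ∀ w ∈ S.W, g' * w * g'⁻¹ ∈ S.W := fun w hw => by
    rw [← S.W_z hy hzy hy10] at hw
    have h' : g' * w * g'⁻¹ ∈ WF (g' * S.z * g'⁻¹) (g' * S.el y * g'⁻¹) := WF_conj hw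
    rwa [hg'z, hg'y, WF_comm (S.z_comm hc).symm, S.W_z hx hzc hx10] at h'
  exact Subgroup.mem_normalizer_fintype h

/-- An element of `M` conjugating an element into the Sylow subgroup. -/
theorem exists_mem_M_sylow {x : G} (hx : x ∈ S.M) (ho : orderOf x = 2) :
    ∃ g ∈ S.M, g * x * g⁻¹ ∈ (P : Subgroup G) := by
  haveI : Fact (Nat.Prime 2) := ⟨Nat.prime_two⟩
  have hp : IsPGroup 2 (zpowers (⟨x, hx⟩ : S.M)) :=
    IsPGroup.of_card (n := 1) (by rw [Nat.card_zpowers, ← orderOf_coe, pow_one]; exact ho)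
  obtain ⟨R, hR⟩ := hp.exists_le_sylow
  obtain ⟨k, hk⟩ := MulAction.exists_smul_eq S.M R (P.subtype S.P_le_M)
  refine ⟨k, k.2, ?_⟩
  have : k * ⟨x, hx⟩ * k⁻¹ ∈ (P.subtype S.P_le_M : Subgroup S.M) := by
    rw [← hk]
    exact ⟨_, hR (mem_zpowers _), rfl⟩
  exact this

theorem exists_conj_z_M {x : G} (hx : x ∈ S.M) (hzx : IsConj S.z x) :
    ∃ g ∈ S.M, g * S.z * g⁻¹ = x := by
  obtain ⟨q, hq⟩ := isConj_iff.1 hzx
  obtain ⟨h, hh, hP⟩ := S.exists_mem_M_sylow hx (by rw [← hq, Invol.orderOf_conj_eq, S.orderOf_z])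
  obtain ⟨g, hg, hge⟩ := S.exists_mem_M_z hP (hzx.trans (isConj_iff.2 ⟨h, rfl⟩))
  refine ⟨h⁻¹ * g, mul_mem (inv_mem hh) hg, ?_⟩
  calc h⁻¹ * g * S.z * (h⁻¹ * g)⁻¹ = h⁻¹ * (g * S.z * g⁻¹) * h := by group
    _ = x := by rw [hge]; group

/-- `M` contains every element carrying a central involution of `M` into `M`. -/
theorem mem_M_of_conj {x g : G} (hx : x ∈ S.M) (hzx : IsConj S.z x) (hgx : g * x * g⁻¹ ∈ S.M) :
    g ∈ S.M := by
  obtain ⟨p, hp, rfl⟩ := S.exists_conj_z_M hx hzx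
  obtain ⟨q, hq, hqe⟩ := S.exists_conj_z_M hgx (hzx.trans (isConj_iff.2 ⟨g, rfl⟩))
  have hC : q⁻¹ * g * p ∈ S.C := S.mem_C.2 (mul_inv_eq_iff_eq_mul.1 (by
    calc q⁻¹ * g * p * S.z * (q⁻¹ * g * p)⁻¹ = q⁻¹ * (g * (p * S.z * p⁻¹) * g⁻¹) * q := by group
      _ = S.z := by rw [← hqe]; group))
  have h := mul_mem (mul_mem hq (S.C_le_M hC)) (inv_mem hp)
  rwa [show q * (q⁻¹ * g * p) * p⁻¹ = g by group] at h

theorem cent_le_M {x : G} (hx : x ∈ S.M) (hzx : IsConj S.z x) : centralizer ({x} : Set G) ≤ S.M :=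
  fun g hg => S.mem_M_of_conj hx hzx (by
    rw [mem_centralizer_singleton_iff.1 hg, mul_inv_cancel_right]; exact hx)

theorem isPGroup_cent : IsPGroup 2 ↥((P : Subgroup G) ⊓ centralizer ({S.D.s} : Set G)) :=
  P.isPGroup'.to_le inf_le_left

theorem card_cent : Nat.card ↥((P : Subgroup G) ⊓ centralizer ({S.D.s} : Set G)) = 16 := by
  classical
  set L := (List.range 64).filter fun x => m x 16 == m 16 x with hL
  have hmem : ∀ {x}, x ∈ L.toFinset ↔ x < 64 ∧ m x 16 = m 16 x := by simp [hL]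
  let f : L.toFinset → ↥((P : Subgroup G) ⊓ centralizer ({S.D.s} : Set G)) := fun x =>
    ⟨S.el x, S.el_mem x, mem_centralizer_singleton_iff.2 (by
      rw [← S.el_s, S.el_mul, S.el_mul, (hmem.1 x.2).2])⟩
  have hf : Function.Bijective f := by
    refine ⟨fun a b e => Subtype.ext (S.el_inj (hmem.1 a.2).1 (hmem.1 b.2).1 (congrArg Subtype.val e)), ?_⟩
    rintro ⟨g, hg, hgc⟩
    obtain ⟨x, hx, rfl⟩ := S.exists_el hg
    refine ⟨⟨x, hmem.2 ⟨hx, ?_⟩⟩, rfl⟩
    have := mem_centralizer_singleton_iff.1 hgc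
    rw [← S.el_s] at this
    exact (S.el_commute_iff hx (by norm_num)).1 this
  rw [← Nat.card_eq_of_bijective f hf, Nat.card_eq_finsetCard,
    List.toFinset_card_of_nodup (List.nodup_range.filter _)]
  exact centS_card.1

/-- The Sylow subgroup of the centraliser of the swap. -/
noncomputable def RS : Sylow 2 ↥(centralizer ({S.D.s} : Set G)) :=
  (IsPGroup.of_card (n := 4) (by
    rw [Nat.card_congr (subgroupOfEquivOfLe
      (inf_le_right : (P : Subgroup G) ⊓ centralizer ({S.D.s} : Set G) ≤ _)).toEquiv, S.card_cent]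
    norm_num) : IsPGroup 2 (((P : Subgroup G) ⊓ centralizer ({S.D.s} : Set G)).subgroupOf
      (centralizer ({S.D.s} : Set G)))).toSylow (by
    rintro ⟨j, hj⟩
    obtain ⟨k, hk, hkc⟩ := (count S.D S.s_nz).2
    have h := card_mul_index (((P : Subgroup G) ⊓ centralizer ({S.D.s} : Set G)).subgroupOf
      (centralizer ({S.D.s} : Set G)))
    rw [Nat.card_congr (subgroupOfEquivOfLe
      (inf_le_right : (P : Subgroup G) ⊓ centralizer ({S.D.s} : Set G) ≤ _)).toEquiv, S.card_cent, hkc, hj] at h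
    exact Nat.not_even_iff_odd.2 hk (even_iff_two_dvd.2 ⟨j, by omega⟩))

theorem mem_RS {g : ↥(centralizer ({S.D.s} : Set G))} :
    g ∈ (S.RS : Subgroup ↥(centralizer ({S.D.s} : Set G))) ↔ (g : G) ∈ (P : Subgroup G) :=
  ⟨fun h => (mem_subgroupOf.1 (show g ∈ (((P : Subgroup G) ⊓ centralizer ({S.D.s} : Set G)).subgroupOf _) from h)).1,
    fun h => show g ∈ (((P : Subgroup G) ⊓ centralizer ({S.D.s} : Set G)).subgroupOf _) from
      mem_subgroupOf.2 ⟨h, g.2⟩⟩

/-- A non-central involution of `M` is a conjugate of the swap in `M`. -/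
theorem exists_conj_s_M {x : G} (hx : x ∈ S.M) (hsx : IsConj S.D.s x) :
    ∃ g ∈ S.M, g * S.D.s * g⁻¹ = x := by
  haveI : Fact (Nat.Prime 2) := ⟨Nat.prime_two⟩
  obtain ⟨q, hq⟩ := isConj_iff.1 hsx
  obtain ⟨h, hh, hP⟩ := S.exists_mem_M_sylow hx (by rw [← hq, Invol.orderOf_conj_eq, orderOf_s S.D])
  obtain ⟨c, hc, hce⟩ := S.exists_el hP
  have hsc : IsConj S.D.s (S.el c) := by rw [hce]; exact hsx.trans (isConj_iff.2 ⟨h, rfl⟩)
  obtain ⟨hA, hU, hB⟩ := fours_ok S.r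
  obtain ⟨⟨u, v⟩, huv, hcu, hcv⟩ := hA c hc ((S.isConj_s_iff hc).1 hsc)
  obtain ⟨hu, hv, huE, hvE, hu0, hv0, hne, hzu, hzv⟩ := hU _ huv
  dsimp only at hcu hcv hu hv huE hvE hu0 hv0 hne hzu hzv
  have hmuv := (eList_ok S.r).2.2.1 u huE v hvE
  have huu := (eList_ok S.r).2.2.2 u huE
  have hvv := (eList_ok S.r).2.2.2 v hvE
  obtain ⟨g, hg⟩ := isConj_iff.1 hsc.symm
  have gC : ∀ y, m c y = m y c → g * S.el y * g⁻¹ ∈ centralizer ({S.D.s} : Set G) := fun y hy =>
    mem_centralizer_singleton_iff.2 (by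
      rw [← hg, conj_mul, conj_mul, S.el_mul, S.el_mul, hy])
  set U := four (S.mul_self_el huu) (S.mul_self_el hvv)
    (show S.el u * S.el v = S.el v * S.el u by rw [S.el_mul, S.el_mul, hmuv.2]) with hUdef
  have hUmem : ∀ y ∈ U, ∃ e ∈ ([0, u, v, m u v] : List Nat), S.el e = y := by
    rintro y (rfl | rfl | rfl | rfl)
    · exact ⟨0, by simp, S.el_zero⟩
    · exact ⟨u, by simp, rfl⟩
    · exact ⟨v, by simp, rfl⟩
    · exact ⟨m u v, by simp, (S.el_mul u v).symm⟩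
  have hUp : IsPGroup 2 (U.map (MulAut.conj g).toMonoidHom) :=
    (P.isPGroup'.to_le (fun y hy => by obtain ⟨e, -, rfl⟩ := hUmem y hy; exact S.el_mem e : U ≤ (P : Subgroup G))).map _
  have hUC : U.map (MulAut.conj g).toMonoidHom ≤ centralizer ({S.D.s} : Set G) := by
    rintro _ ⟨y, hy, rfl⟩
    obtain ⟨e, he, rfl⟩ := hUmem y hy
    refine gC e ?_
    simp only [List.mem_cons, List.not_mem_nil, or_false] at he
    rcases he with rfl | rfl | rfl | rfl
    · rw [(inv_ok c hc).2.2.2, (inv_ok c hc).2.2.1]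
    · exact hcu
    · exact hcv
    · refine (S.el_commute_iff hc (m_ok u hu v hv)).1 ?_
      rw [← S.el_mul u v, ← mul_assoc, S.el_mul c u, hcu, ← S.el_mul, mul_assoc, S.el_mul c v, hcv,
        ← S.el_mul, mul_assoc]
  have hUp' : IsPGroup 2 ((U.map (MulAut.conj g).toMonoidHom).subgroupOf (centralizer ({S.D.s} : Set G))) :=
    hUp.comap_of_injective _ (subtype_injective _)
  obtain ⟨R, hR⟩ := hUp'.exists_le_sylow
  obtain ⟨k, hk⟩ := MulAction.exists_smul_eq ↥(centralizer ({S.D.s} : Set G)) R S.RS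
  have key : ∀ e, S.el e ∈ U → IsConj S.z (S.el e) →
      ∃ f ∈ eList, f ≠ 0 ∧ ((k : G) * g) * S.el e * ((k : G) * g)⁻¹ = S.el f := by
    intro e he hze
    have hgeC : g * S.el e * g⁻¹ ∈ centralizer ({S.D.s} : Set G) := hUC ⟨_, he, rfl⟩
    have h1 : k * ⟨_, hgeC⟩ * k⁻¹ ∈ (S.RS : Subgroup ↥(centralizer ({S.D.s} : Set G))) := by
      rw [← hk]
      exact ⟨⟨_, hgeC⟩, hR (mem_subgroupOf.2 ⟨_, he, rfl⟩), rfl⟩
    obtain ⟨f, hf, hfe⟩ := S.exists_el (S.mem_RS.1 h1)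
    have hfe' : ((k : G) * g) * S.el e * ((k : G) * g)⁻¹ = S.el f := by
      rw [hfe]
      show _ = (k : G) * (g * S.el e * g⁻¹) * (k : G)⁻¹
      group
    have hcs : m f 16 = m 16 f := (S.el_commute_iff hf (by norm_num)).1 (by
      rw [hfe, S.el_s]
      exact mem_centralizer_singleton_iff.1 (k * ⟨_, hgeC⟩ * k⁻¹).2)
    have hzf : IsConj S.z (S.el f) := hze.trans (isConj_iff.2 ⟨_, hfe'⟩)
    rcases hB f hf hcs ((S.isConj_z_iff hf).1 hzf) with rfl | rfl | rfl <;>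
      exact ⟨_, by decide, by norm_num, hfe'⟩
  obtain ⟨u', hu'E, hu'0, hu'e⟩ := key u (Or.inr (Or.inl rfl)) ((S.isConj_z_iff hu).2 hzu)
  obtain ⟨v', hv'E, hv'0, hv'e⟩ := key v (Or.inr (Or.inr (Or.inl rfl))) ((S.isConj_z_iff hv).2 hzv)
  have hne' : u' ≠ v' := by
    rintro rfl
    exact hne (S.el_inj hu hv (mul_left_cancel (mul_right_cancel (hu'e.trans hv'e.symm))))
  have hkg : (k : G) * g ∈ S.M := by
    refine Subgroup.mem_normalizer_fintype fun w hw => ?_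
    rw [SetLike.mem_coe, ← S.W_of_eList huE hvE hu0 hv0 hne] at hw
    have h' : ((k : G) * g) * w * ((k : G) * g)⁻¹ ∈
        WF (((k : G) * g) * S.el u * ((k : G) * g)⁻¹) (((k : G) * g) * S.el v * ((k : G) * g)⁻¹) := WF_conj hw
    rw [hu'e, hv'e, S.W_of_eList hu'E hv'E hu'0 hv'0 hne'] at h'
    exact h'
  refine ⟨h⁻¹ * ((k : G) * g)⁻¹, mul_mem (inv_mem hh) (inv_mem hkg), ?_⟩
  have hkgc : ((k : G) * g) * S.el c * ((k : G) * g)⁻¹ = S.D.s := by
    calc ((k : G) * g) * S.el c * ((k : G) * g)⁻¹ = (k : G) * (g * S.el c * g⁻¹) * (k : G)⁻¹ := by group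
      _ = S.D.s := by rw [hg, mem_centralizer_singleton_iff.1 k.2, mul_inv_cancel_right]
  calc h⁻¹ * ((k : G) * g)⁻¹ * S.D.s * (h⁻¹ * ((k : G) * g)⁻¹)⁻¹
      = h⁻¹ * (((k : G) * g)⁻¹ * (((k : G) * g) * S.el c * ((k : G) * g)⁻¹) * ((k : G) * g)) * h := by
        rw [hkgc]; group
    _ = x := by rw [hce]; group

end Setup

end CfsgLib.M12Type
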