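import Cfsg.Agent.M12Type.CentSData
import Cfsg.Agent.M12Type.Functor
import Cfsg.Agent.S1221

/-!
The centraliser of a non-central involution lies in the normaliser of the value of the functor.
-/

set_option autoImplicit false
set_option linter.unusedSectionVars false
set_option linter.style.haveILetI false

namespace CfsgLib.M12Type

open Subgroup CfsgLib.GTwoFusion

universe u

theorem pow_odd_mul_two {A : Type*} [Group A] {g : A} (hg : Odd (orderOf g)) (ψ : A →* Multiplicative (ZMod 2)) :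
    ψ g = 1 := by
  obtain ⟨j, hj⟩ := hg
  have h2 : ∀ x : Multiplicative (ZMod 2), x ^ 2 = 1 := by decide
  have h := congrArg ψ (pow_orderOf_eq_one g)
  rw [map_pow, map_one, hj, pow_succ, pow_mul, h2, one_pow, one_mul] at h
  exact h

variable {G : Type u} [Group G] [Finite G] [IsSimpleGroup G] {P : Sylow 2 G}

namespace Setup

variable (S : Setup P)

theorem mem_rList {x : Nat} (hx : x < 64) :
    x ∈ rList ↔ S.el x ∈ centralizer ({S.D.s} : Set G) := by
  rw [mem_centralizer_singleton_iff, ← S.el_s, S.el_commute_iff hx (by norm_num)]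
  simp [rList, hx]

theorem rList_lt {x : Nat} (hx : x ∈ rList) : x < 64 := by
  simp only [rList, List.mem_filter, List.mem_range] at hx
  exact hx.1

/-- The subgroup of a list of codes. -/
def kSub {K : List Nat} (hK : K ∈ [k1, k2]) : Subgroup G where
  carrier := {g | ∃ x ∈ K, S.el x = g}
  one_mem' := ⟨0, List.contains_iff_mem.1 (kList_ok K hK).2.2.1, S.el_zero⟩
  mul_mem' := by
    rintro _ _ ⟨x, hx, rfl⟩ ⟨y, hy, rfl⟩
    exact ⟨m x y, List.contains_iff_mem.1 (((kList_ok K hK).2.2.2 x hx).2.2.2 y hy), (S.el_mul x y).symm⟩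
  inv_mem' := by
    rintro _ ⟨x, hx, rfl⟩
    obtain ⟨h1, -, h3, -⟩ := (kList_ok K hK).2.2.2 x hx
    exact ⟨inv x, List.contains_iff_mem.1 h3, (S.el_inv h1).symm⟩

theorem mem_kSub {K : List Nat} (hK : K ∈ [k1, k2]) {x : Nat} (hx : x < 64) :
    S.el x ∈ S.kSub hK ↔ K.contains x = true :=
  ⟨fun ⟨y, hy, e⟩ => List.contains_iff_mem.2 (S.el_inj ((kList_ok K hK).2.2.2 y hy).1 hx e ▸ hy),
    fun h => ⟨x, List.contains_iff_mem.1 h, rfl⟩⟩

theorem sigS_conj {c : G} (hc : c * S.D.s = S.D.s * c) {x y : Nat} (hx : x < 64) (hy : y < 64)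
    (h : c * S.el x * c⁻¹ = S.el y) : sigS S.r y = sigS S.r x := by
  have h16 : c * S.el 16 * c⁻¹ = S.el 16 := by rw [S.el_s, hc, mul_inv_cancel_right]
  have h0 : c * S.el 0 * c⁻¹ = S.el 0 := by rw [S.el_zero, mul_one, mul_inv_cancel]
  have key : ∀ {a b d : Nat}, a < 64 → b < 64 → d < 64 → c * S.el d * c⁻¹ = S.el d →
      c * S.el a * c⁻¹ = S.el b → (b == d) = (a == d) := by
    intro a b d ha hb hd hfix hab
    rw [Bool.eq_iff_iff, beq_iff_eq, beq_iff_eq]
    constructor
    · rintro rfl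
      exact S.el_inj ha hd (mul_left_cancel (mul_right_cancel (hab.trans hfix.symm)))
    · rintro rfl
      exact S.el_inj hb hd (hab.symm.trans hfix)
  have h2 : c * S.el (m x x) * c⁻¹ = S.el (m y y) := by rw [← S.el_mul, ← S.el_mul, ← h]; group
  have h3 : c * S.el (m 16 x) * c⁻¹ = S.el (m 16 y) := by
    rw [← S.el_mul, ← S.el_mul, ← conj_mul, h16, h]
  have cl : ∀ {a b : Nat}, a < 64 → b < 64 → c * S.el a * c⁻¹ = S.el b →
      sCode S.r b = sCode S.r a := fun ha hb hab => by
    rw [Bool.eq_iff_iff, ← S.isConj_s_iff hb, ← S.isConj_s_iff ha]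
    have he : IsConj _ _ := isConj_iff.2 ⟨c, hab⟩
    exact ⟨fun h => h.trans he.symm, fun h => h.trans he⟩
  unfold sigS
  rw [key hx hy (by norm_num) h0 h, key hx hy (by norm_num) h16 h,
    key (m_ok x hx x hx) (m_ok y hy y hy) (by norm_num) h0 h2, cl hx hy h,
    cl (m_ok 16 (by norm_num) x hx) (m_ok 16 (by norm_num) y hy) h3]

theorem stableS_trans {uK : Nat × List Nat} (h : uK ∈ stableS) (hK : uK.2 ∈ [k1, k2])
    {u : ↥(centralizer ({S.D.s} : Set G))} (hu : (u : G) = S.el uK.1) :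
    Stable (S.RS : Subgroup ↥(centralizer ({S.D.s} : Set G)))
      ((S.kSub hK).subgroupOf (centralizer ({S.D.s} : Set G))) u := by
  intro k c hc
  have hok := List.all_eq_true.1 (stableS_ok S.r) uK h
  rw [Bool.and_eq_true, Bool.and_eq_true, Nat.blt_eq] at hok
  obtain ⟨⟨hx, -⟩, hst⟩ := hok
  obtain ⟨y, hy, hye⟩ := S.exists_el (S.mem_RS.1 hc)
  have hu' : ((u ^ k : ↥(centralizer ({S.D.s} : Set G))) : G) = S.el (pw uK.1 (k % 8)) := by
    rw [SubgroupClass.coe_pow, hu, S.el_pow hx]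
  have hlt := (pw_ok uK.1 hx).2 (k % 8) (Nat.mod_lt _ (by norm_num))
  have he : (c : G) * S.el (pw uK.1 (k % 8)) * (c : G)⁻¹ = S.el y := by rw [← hu', hye]; rfl
  have hyR : y ∈ rList := (S.mem_rList hy).2 (hye ▸ (c * u ^ k * c⁻¹).2)
  have h' := List.all_eq_true.1 (List.all_eq_true.1 hst (k % 8)
    (List.mem_range.2 (Nat.mod_lt _ (by norm_num)))) y hyR
  rw [beq_iff_eq.2 (S.sigS_conj (mem_centralizer_singleton_iff.1 c.2) hlt hy he), Bool.not_true,
    Bool.false_or, beq_iff_eq] at h'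
  rw [mem_subgroupOf, mem_subgroupOf, ← hye, hu', S.mem_kSub hK hy, S.mem_kSub hK hlt, h']

theorem exists_transfer {K : List Nat} (hK : K ∈ [k1, k2]) :
    ∃ ψ : ↥(centralizer ({S.D.s} : Set G)) →* Multiplicative (ZMod 2),
      ∀ x (hx : x ∈ rList), (x, K) ∈ stableS →
        (ψ ⟨S.el x, (S.mem_rList (rList_lt hx)).1 hx⟩ = 1 ↔ K.contains x = true) := by
  have hodd : Odd (S.RS : Subgroup ↥(centralizer ({S.D.s} : Set G))).index := by
    haveI : Fact (Nat.Prime 2) := ⟨Nat.prime_two⟩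
    exact Nat.not_even_iff_odd.1 fun h => S.RS.not_dvd_index (even_iff_two_dvd.1 h)
  obtain ⟨hnd, h8, -, hKx⟩ := kList_ok K hK
  have hKc : S.kSub hK ≤ (P : Subgroup G) ⊓ centralizer ({S.D.s} : Set G) := by
    rintro _ ⟨x, hx, rfl⟩
    exact ⟨S.el_mem x, (S.mem_rList (hKx x hx).1).1 (List.contains_iff_mem.1 (hKx x hx).2.1)⟩
  have hcardK : Nat.card (S.kSub hK) = 8 := by
    classical
    let f : K.toFinset → S.kSub hK := fun x => ⟨S.el x, x, List.mem_toFinset.1 x.2, rfl⟩
    have hf : Function.Bijective f := by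
      refine ⟨fun a b e => Subtype.ext (S.el_inj (hKx a (List.mem_toFinset.1 a.2)).1
        (hKx b (List.mem_toFinset.1 b.2)).1 (congrArg Subtype.val e)), ?_⟩
      rintro ⟨g, x, hx, rfl⟩
      exact ⟨⟨x, List.mem_toFinset.2 hx⟩, rfl⟩
    rw [← Nat.card_eq_of_bijective f hf, Nat.card_eq_finsetCard, List.toFinset_card_of_nodup hnd, h8]
  have hrel : ((S.kSub hK).subgroupOf (centralizer ({S.D.s} : Set G))).relIndex
      (S.RS : Subgroup ↥(centralizer ({S.D.s} : Set G))) = 2 := by
    show ((S.kSub hK).subgroupOf (centralizer ({S.D.s} : Set G))).relIndex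
      (((P : Subgroup G) ⊓ centralizer ({S.D.s} : Set G)).subgroupOf (centralizer ({S.D.s} : Set G))) = 2
    rw [relIndex_subgroupOf inf_le_right]
    have h := card_mul_index ((S.kSub hK).subgroupOf ((P : Subgroup G) ⊓ centralizer ({S.D.s} : Set G)))
    rw [Nat.card_congr (subgroupOfEquivOfLe hKc).toEquiv, hcardK, S.card_cent] at h
    show ((S.kSub hK).subgroupOf ((P : Subgroup G) ⊓ centralizer ({S.D.s} : Set G))).index = 2
    omega
  obtain ⟨ψ, hψ⟩ := exists_parity_hom _ _ hodd hrel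
  refine ⟨ψ, fun x hx hst => ?_⟩
  rw [hψ ⟨S.el x, _⟩ (S.mem_RS.2 (S.el_mem x)) (S.stableS_trans hst hK rfl), mem_subgroupOf,
    S.mem_kSub hK (rList_lt hx)]

/-- The normal subgroup with four group as Sylow subgroup. -/
theorem exists_X : ∃ X : Subgroup ↥(centralizer ({S.D.s} : Set G)), X.Normal ∧
    (∀ g, Odd (orderOf g) → g ∈ X) ∧
    (∀ g, ∃ r : ↥(centralizer ({S.D.s} : Set G)), (r : G) ∈ (P : Subgroup G) ∧ r⁻¹ * g ∈ X) ∧
    (∀ e ∈ [0, 10, 32, 42], ∀ h : S.el e ∈ centralizer ({S.D.s} : Set G), (⟨S.el e, h⟩ : ↥(centralizer ({S.D.s} : Set G))) ∈ X) ∧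
    ∀ g ∈ X, ∀ x < 64, (g : G) = S.el x → x ∈ [0, 10, 32, 42] := by
  obtain ⟨ψ1, h1⟩ := S.exists_transfer (K := k1) (by simp)
  obtain ⟨ψ2, h2⟩ := S.exists_transfer (K := k2) (by simp)
  have r16 : 16 ∈ rList := by decide
  have r5 : 5 ∈ rList := by decide
  have r10 : 10 ∈ rList := by decide
  have r32 : 32 ∈ rList := by decide
  have a16 := (h1 16 r16 (by simp [stableS])).2 (by decide)
  have a10 := (h1 10 r10 (by simp [stableS])).2 (by decide)
  have a32 := (h1 32 r32 (by simp [stableS])).2 (by decide)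
  have a5 := mt (h1 5 r5 (by simp [stableS])).1 (by decide)
  have b10 := (h2 10 r10 (by simp [stableS])).2 (by decide)
  have b32 := (h2 32 r32 (by simp [stableS])).2 (by decide)
  have b16 := mt (h2 16 r16 (by simp [stableS])).1 (by decide)
  have two : ∀ u v : Multiplicative (ZMod 2), u ≠ 1 → v ≠ 1 → u = v := by decide
  have two' : ∀ u : Multiplicative (ZMod 2), u⁻¹ = u ∧ u * u = 1 := by decide
  set c : ∀ e, e ∈ rList → ↥(centralizer ({S.D.s} : Set G)) := fun e he =>
    ⟨S.el e, (S.mem_rList (rList_lt he)).1 he⟩ with hc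
  have hX4 : ∀ e, ∀ he : e ∈ rList, e ∈ [0, 10, 32, 42] → ψ1 (c e he) = 1 ∧ ψ2 (c e he) = 1 := by
    intro e he h4
    simp only [List.mem_cons, List.not_mem_nil, or_false] at h4
    rcases h4 with rfl | rfl | rfl | rfl
    · rw [show c 0 he = 1 from Subtype.ext S.el_zero, map_one, map_one]; exact ⟨rfl, rfl⟩
    · exact ⟨a10, b10⟩
    · exact ⟨a32, b32⟩
    · rw [show c 42 he = c 10 r10 * c 32 r32 from Subtype.ext (by
        show S.el 42 = S.el 10 * S.el 32
        rw [S.el_mul]; rfl), map_mul, map_mul, a10, a32, b10, b32]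
      decide
  refine ⟨ψ1.ker ⊓ ψ2.ker, inferInstance, fun g hg => ⟨pow_odd_mul_two hg ψ1, pow_odd_mul_two hg ψ2⟩,
    fun g => ?_, fun e he h => ?_, fun g hg x hx hgx => ?_⟩
  · by_cases p1 : ψ1 g = 1
    · by_cases p2 : ψ2 g = 1
      · exact ⟨1, one_mem _, by simpa using And.intro p1 p2⟩
      · refine ⟨c 16 r16, S.el_mem 16, ?_, ?_⟩
        · show ψ1 _ = 1
          rw [map_mul, map_inv, a16, p1]; simp
        · show ψ2 _ = 1
          rw [map_mul, map_inv, two _ _ b16 p2, inv_mul_cancel]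
    · by_cases p2 : ψ2 g = ψ2 (c 5 r5)
      · refine ⟨c 5 r5, S.el_mem 5, ?_, ?_⟩
        · show ψ1 _ = 1
          rw [map_mul, map_inv, two _ _ a5 p1, inv_mul_cancel]
        · show ψ2 _ = 1
          rw [map_mul, map_inv, p2, inv_mul_cancel]
      · refine ⟨c 5 r5 * c 16 r16, mul_mem (S.el_mem 5) (S.el_mem 16), ?_, ?_⟩
        · show ψ1 _ = 1
          rw [map_mul, map_inv, map_mul, a16, mul_one, two _ _ a5 p1, inv_mul_cancel]
        · show ψ2 _ = 1
          rw [map_mul, map_inv, map_mul]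
          generalize ψ2 g = u at p2 ⊢
          generalize ψ2 (c 5 r5) = v at p2 ⊢
          generalize ψ2 (c 16 r16) = w at b16 ⊢
          revert b16 p2 u v w
          decide
  · obtain ⟨hk, -⟩ := (vList_ok S.r)
    have he' : e ∈ rList := by fin_cases he <;> decide
    exact hX4 e he' he
  · have hxR : x ∈ rList := (S.mem_rList hx).2 (hgx ▸ g.2)
    have hg1 : ψ1 (c x hxR) = 1 := by rw [show c x hxR = g from Subtype.ext hgx.symm]; exact hg.1
    have hg2 : ψ2 (c x hxR) = 1 := by rw [show c x hxR = g from Subtype.ext hgx.symm]; exact hg.2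
    have hk1 : k1.contains x = true := by
      obtain ⟨y, hy, e⟩ := meet_ok.2 x hxR
      have hyR : y ∈ rList := List.contains_iff_mem.1 ((kList_ok k1 (by simp)).2.2.2 y hy).2.1
      have hy1 : ψ1 (c y hyR) = 1 := by
        rcases meet_ok.1 y hyR (List.contains_iff_mem.2 hy) with h4 | ⟨v, hv, rfl⟩
        · exact (hX4 y hyR (List.contains_iff_mem.1 h4)).1
        · have hvR : v ∈ rList := by fin_cases hv <;> decide
          rw [show c (m 16 v) hyR = c 16 r16 * c v hvR from Subtype.ext (S.el_mul 16 v).symm, map_mul,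
            a16, (hX4 v hvR hv).1, one_mul]
      rcases e with rfl | rfl
      · exact List.contains_iff_mem.2 hy
      · exfalso
        rw [show c (m 5 y) hxR = c 5 r5 * c y hyR from Subtype.ext (S.el_mul 5 y).symm, map_mul, hy1,
          mul_one] at hg1
        exact a5 hg1
    rcases meet_ok.1 x hxR hk1 with h4 | ⟨v, hv, rfl⟩
    · exact List.contains_iff_mem.1 h4
    · exfalso
      have hvR : v ∈ rList := by fin_cases hv <;> decide
      rw [show c (m 16 v) hxR = c 16 r16 * c v hvR from Subtype.ext (S.el_mul 16 v).symm, map_mul,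
        (hX4 v hvR hv).2, mul_one] at hg2
      exact b16 hg2

theorem s_mem_M : S.D.s ∈ S.M := S.P_le_M S.D.s_mem

theorem z_comm_s : S.z * S.D.s = S.D.s * S.z := S.z_comm S.D.s_mem

theorem s_sq' : S.D.s * S.D.s = 1 := S.D.s_sq

/-- Every involution of the normal subgroup is central. -/
theorem conj_z_of_mem_X {X : Subgroup ↥(centralizer ({S.D.s} : Set G))} (hn : X.Normal)
    (hX : ∀ g ∈ X, ∀ x < 64, (g : G) = S.el x → x ∈ [0, 10, 32, 42]) {g : ↥(centralizer ({S.D.s} : Set G))}
    (hg : g ∈ X) (ho : orderOf (g : G) = 2) : IsConj S.z (g : G) := by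
  haveI : Fact (Nat.Prime 2) := ⟨Nat.prime_two⟩
  have hp : IsPGroup 2 (zpowers g) :=
    IsPGroup.of_card (n := 1) (by rw [Nat.card_zpowers, ← orderOf_coe, pow_one]; exact ho)
  obtain ⟨R, hR⟩ := hp.exists_le_sylow
  obtain ⟨k, hk⟩ := MulAction.exists_smul_eq ↥(centralizer ({S.D.s} : Set G)) R S.RS
  have h1 : k * g * k⁻¹ ∈ (S.RS : Subgroup ↥(centralizer ({S.D.s} : Set G))) := by
    rw [← hk]
    exact ⟨g, hR (mem_zpowers _), rfl⟩
  obtain ⟨x, hx, hxe⟩ := S.exists_el (S.mem_RS.1 h1)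
  have h4 := hX _ (hn.conj_mem g hg k) x hx hxe.symm
  have he : (k : G) * (g : G) * (k : G)⁻¹ = S.el x := hxe.symm
  have hx0 : x ≠ 0 := by
    rintro rfl
    rw [S.el_zero, conj_eq_one_iff] at he
    exact Invol.ne_one ho he
  have hzx : IsConj S.z (S.el x) := (S.isConj_z_iff hx).2
    (((eList_ok S.r).2.1 x ((vList_ok S.r).1 x h4)).2.2.resolve_left hx0)
  exact hzx.trans (IsConj.symm (isConj_iff.2 ⟨(k : G), he⟩))

/-- The value of the functor meets the centraliser of the swap in its core. -/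
theorem W_inf_s : S.W ⊓ centralizer ({S.D.s} : Set G) = θ S.D.s := by
  haveI : Fact (Nat.Prime 2) := ⟨Nat.prime_two⟩
  refine le_antisymm ?_ ?_
  · obtain ⟨X, hXn, hXodd, hXR, hX4, hXP⟩ := S.exists_X
    let H := centralizer ({S.D.s} : Set G)
    have hH : H = centralizer ({S.D.s} : Set G) := rfl
    set D := (S.W).subgroupOf H with hD
    have hDodd : Odd (Nat.card D) := by
      have h : Nat.card ↥((S.W.subgroupOf H).map H.subtype) ∣ Nat.card S.W :=
        card_dvd_of_le (by rw [subgroupOf_map_subtype]; exact inf_le_left)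
      rw [card_map_of_injective H.subtype_injective] at h
      exact S.odd_W.of_dvd_nat h
    have hDX : D ≤ X := fun g hg => hXodd g (hDodd.of_dvd_nat (Subgroup.orderOf_dvd_natCard _ hg))
    set MH := S.M.subgroupOf H with hMH
    have hDM : MH ≤ normalizer (D : Set ↥H) := fun g hg => mem_normalizer_iff.2 fun d =>
      mem_normalizer_iff.1 (mem_subgroupOf.1 hg) (d : G)
    have hDle : D ≤ Cfsg.pPrimeCore 2 ↥H := by
      by_cases hXM : X ≤ MH
      · refine Solvable.le_pPrimeCore 2 (normalizer_eq_top_iff.1 (top_le_iff.1 fun g _ => ?_))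
          (Nat.coprime_two_right.2 hDodd)
        obtain ⟨r, hr, hrg⟩ := hXR g
        rw [show g = r * (r⁻¹ * g) by group]
        exact hDM (mul_mem (show r ∈ MH from S.P_le_M hr) (hXM hrg))
      · set HX := MH.subgroupOf X with hHX
        have hse : Cfsg.IsStronglyEmbedded HX := by
          refine ⟨fun e => hXM (subgroupOf_eq_top.1 e), ?_, fun g hg => Nat.not_even_iff_odd.1 fun hev => hg ?_⟩
          · have h10 : S.el 10 ∈ H := by rw [S.el_z, hH, mem_centralizer_singleton_iff]; exact S.z_comm_s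
            let w : HX := ⟨⟨⟨S.el 10, h10⟩, hX4 10 (by simp) h10⟩,
              mem_subgroupOf.2 (mem_subgroupOf.2 (S.P_le_M (S.el_mem 10)))⟩
            have hw : orderOf w = 2 := by
              rw [← orderOf_coe, ← orderOf_coe, ← orderOf_coe]
              show orderOf (S.el 10) = 2
              rw [S.el_z, S.orderOf_z]
            exact even_iff_two_dvd.2 (hw ▸ orderOf_dvd_natCard w)
          obtain ⟨w, ho⟩ := exists_prime_orderOf_dvd_card' 2 (even_iff_two_dvd.1 hev)
          rw [← orderOf_coe] at ho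
          obtain ⟨u, hu, hus⟩ := w.2.2
          have hgu : ((g : ↥H) : G) * ((u : ↥H) : G) * ((g : ↥H) : G)⁻¹ = (((w : X) : ↥H) : G) :=
            congrArg (fun t : X => ((t : ↥H) : G)) hus
          have hwo : orderOf (((w : X) : ↥H) : G) = 2 := by rw [orderOf_coe, orderOf_coe]; exact ho
          refine mem_subgroupOf.2 (mem_subgroupOf.2 (S.mem_M_of_conj (x := ((u : ↥H) : G))
            (mem_subgroupOf.1 (mem_subgroupOf.1 hu)) (S.conj_z_of_mem_X hXn hXP u.2 ?_) ?_))
          · exact (Invol.orderOf_conj_eq _ _).symm.trans ((congrArg orderOf hgu).trans hwo)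
          · rw [hgu]
            exact mem_subgroupOf.1 (mem_subgroupOf.1 w.2.1)
        have hDM' : D ≤ MH := fun d hd =>
          mem_subgroupOf.2 (le_normalizer (H := S.W) (mem_subgroupOf.1 hd))
        set D' := D.subgroupOf X with hD'
        set D'' := D'.subgroupOf HX with hD''
        haveI : D''.Normal := ⟨fun d hd n => mem_subgroupOf.2 (mem_subgroupOf.2
          ((mem_normalizer_iff.1 (hDM (mem_subgroupOf.1 n.2)) _).1 (mem_subgroupOf.1 (mem_subgroupOf.1 hd))))⟩
        have hc : Nat.card D'' ∣ Nat.card D := by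
          have h1 : (D''.map HX.subtype).map X.subtype ≤ D := by
            rintro _ ⟨_, ⟨d, hd, rfl⟩, rfl⟩
            exact mem_subgroupOf.1 (mem_subgroupOf.1 hd)
          have h2 := card_dvd_of_le h1
          rwa [card_map_of_injective X.subtype_injective, card_map_of_injective HX.subtype_injective] at h2
        have h1 : D'' ≤ Cfsg.oddCore HX :=
          Solvable.le_pPrimeCore 2 inferInstance (Nat.coprime_two_right.2 (hDodd.of_dvd_nat hc))
        have h2 := Cfsg.Agent.S1221.result HX hse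
        haveI := hXn
        have h3 : (Cfsg.pPrimeCore 2 X).map X.subtype ≤ Cfsg.pPrimeCore 2 ↥H :=
          Solvable.le_pPrimeCore 2 (normal_map_core X) (by
            rw [card_map_of_injective X.subtype_injective]
            exact Solvable.coprime_card_pPrimeCore (G := X) 2)
        intro d hd
        have hdX := hDX hd
        have hdHX : (⟨d, hdX⟩ : X) ∈ HX := mem_subgroupOf.2 (hDM' hd)
        exact h3 ⟨⟨d, hdX⟩, h2 ⟨⟨_, hdHX⟩, h1 (mem_subgroupOf.2 (mem_subgroupOf.2 hd)), rfl⟩, rfl⟩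
    intro g hg
    exact ⟨⟨g, hg.2⟩, hDle (mem_subgroupOf.2 hg.1), rfl⟩
  · refine le_inf ?_ Signalizer.mem_centralizerPPrimeCore_le
    have h10 : S.el 10 * S.el 10 = 1 := S.mul_self_el ((eList_ok S.r).2.2.2 10 (by decide))
    have h32 : S.el 32 * S.el 32 = 1 := S.mul_self_el ((eList_ok S.r).2.2.2 32 (by decide))
    have hc : S.el 10 * S.el 32 = S.el 32 * S.el 10 := by
      rw [S.el_mul, S.el_mul]; exact congrArg _ (by decide)
    set U := four h10 h32 hc with hU
    have hUel : Cfsg.IsElementaryAbelian 2 U := by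
      refine ⟨⟨⟨fun a b => Subtype.ext ?_⟩⟩, ?_⟩
      · show (a : G) * b = b * a
        obtain ⟨a, ha⟩ := a
        obtain ⟨b, hb⟩ := b
        show a * b = b * a
        rcases ha with rfl | rfl | rfl | rfl <;> rcases hb with rfl | rfl | rfl | rfl <;>
          simp only [one_mul, mul_one, hc, ← mul_assoc] <;> simp only [mul_assoc, hc]
      · rintro g (rfl | rfl | rfl | rfl)
        · exact one_pow 2
        · rw [pow_two, h10]
        · rw [pow_two, h32]
        · rw [pow_two, S.el_mul, S.el_mul, show m (m 10 32) (m 10 32) = 0 by decide, S.el_zero]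
    have hU2 := card_four h10 h32 hc (fun e => absurd ((S.el_eq_one_iff (by norm_num)).1 e) (by norm_num))
      (fun e => absurd ((S.el_eq_one_iff (by norm_num)).1 e) (by norm_num))
      (fun e => absurd (S.el_inj (by norm_num) (by norm_num) e) (by norm_num))
    have hUs : ∀ g ∈ U, ∃ e ∈ [0, 10, 32, 42], S.el e = g := by
      rintro g (rfl | rfl | rfl | rfl)
      · exact ⟨0, by simp, S.el_zero⟩
      · exact ⟨10, by simp, rfl⟩
      · exact ⟨32, by simp, rfl⟩
      · exact ⟨42, by simp, by rw [S.el_mul]; rfl⟩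
    have hUC : U ≤ centralizer ({S.D.s} : Set G) := fun g hg => by
      obtain ⟨e, he, rfl⟩ := hUs g hg
      refine (S.mem_rList (by fin_cases he <;> norm_num)).1 ?_
      fin_cases he <;> decide
    refine Signalizer.le_of_forall_centralizer (A := U) hUel le_rfl hU2
      (hUC.trans (Signalizer.centralizer_le_normalizer_centralizerPPrimeCore _))
      (fun h => Nat.not_even_iff_odd.2 (cpc_odd S.D.s) (even_iff_two_dvd.2 h)) fun g hg hg1 => ?_
    obtain ⟨e, he, rfl⟩ := hUs g hg
    have he0 : e ≠ 0 := fun h => hg1 (by rw [h, S.el_zero])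
    have heE := (vList_ok S.r).1 e he
    obtain ⟨hlt, -, hz⟩ := (eList_ok S.r).2.1 e heE
    refine (S.balance S.s_sq' (mem_centralizer_singleton_iff.1 (hUC hg)).symm
      ((S.isConj_z_iff hlt).2 (hz.resolve_left he0))).trans ?_
    rw [← S.W_inf heE he0]
    exact inf_le_left

theorem W_inf_A {f : G} (hf : f ∈ S.M) (hsf : IsConj S.D.s f) :
    S.W ⊓ centralizer ({f} : Set G) ≤ θ f := by
  obtain ⟨g, hg, rfl⟩ := S.exists_conj_s_M hf hsf
  intro x hx
  have h1 : g⁻¹ * x * g ∈ S.W ⊓ centralizer ({S.D.s} : Set G) := by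
    refine mem_inf.2 ⟨?_, mem_centralizer_singleton_iff.2 ?_⟩
    · have := (mem_normalizer_iff.1 (inv_mem hg) x).1 hx.1
      rwa [inv_inv] at this
    · have h := mem_centralizer_singleton_iff.1 hx.2
      calc g⁻¹ * x * g * S.D.s = g⁻¹ * (x * (g * S.D.s * g⁻¹)) * g := by group
        _ = S.D.s * (g⁻¹ * x * g) := by rw [h]; group
  rw [S.W_inf_s] at h1
  have h2 := θ_conj_mem (g := g) h1
  rwa [show g * (g⁻¹ * x * g) * g⁻¹ = x by group] at h2

theorem θ_A_le {f : G} (hf : f ∈ S.M) (hsf : IsConj S.D.s f) : θ f ≤ S.W := by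
  obtain ⟨g, hg, rfl⟩ := S.exists_conj_s_M hf hsf
  intro x hx
  have h2 := θ_conj_mem (g := g⁻¹) hx
  rw [show g⁻¹ * (g * S.D.s * g⁻¹) * (g⁻¹)⁻¹ = S.D.s by group] at h2
  have h3 : g⁻¹ * x * (g⁻¹)⁻¹ ∈ S.W := ((le_of_eq S.W_inf_s.symm) h2).1
  exact (mem_normalizer_iff.1 (inv_mem hg) x).2 h3

/-- A four group of non-central involutions of `M` has its centraliser in `M`. -/
theorem cent_pair_le {a b : G} (ha : a ∈ S.M) (hb : b ∈ S.M) (hab : a * b = b * a)
    (hA : IsConj S.D.s a) (hB : IsConj S.D.s b) (hAB : IsConj S.D.s (a * b)) {g : G}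
    (hga : g * a = a * g) (hgb : g * b = b * g) : g ∈ S.M := by
  haveI : Fact (Nat.Prime 2) := ⟨Nat.prime_two⟩
  have ord : ∀ {f}, IsConj S.D.s f → orderOf f = 2 := fun h => by
    obtain ⟨q, hq⟩ := isConj_iff.1 h
    rw [← hq, Invol.orderOf_conj_eq, orderOf_s S.D]
  have sq : ∀ {f}, IsConj S.D.s f → f * f = 1 := fun h => Invol.mul_self_eq_one (ord h)
  set U := four (sq hA) (sq hB) hab with hU
  have hU2 := card_four (sq hA) (sq hB) hab (Invol.ne_one (ord hA)) (Invol.ne_one (ord hB)) (fun e => by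
    have h1 : a * b = 1 := by rw [← e]; exact sq hA
    exact Invol.ne_one (ord hAB) h1)
  have hUel : Cfsg.IsElementaryAbelian 2 U := by
    refine ⟨⟨⟨fun x y => Subtype.ext ?_⟩⟩, ?_⟩
    · show (x : G) * y = y * x
      obtain ⟨x, hx⟩ := x
      obtain ⟨y, hy⟩ := y
      show x * y = y * x
      rcases hx with rfl | rfl | rfl | rfl <;> rcases hy with rfl | rfl | rfl | rfl <;>
        simp only [one_mul, mul_one, hab, ← mul_assoc] <;> simp only [mul_assoc, hab]
    · rintro f (rfl | rfl | rfl | rfl)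
      · exact one_pow 2
      · rw [pow_two, sq hA]
      · rw [pow_two, sq hB]
      · rw [pow_two, sq hAB]
  have hUM : U ≤ S.M := by
    rintro f (rfl | rfl | rfl | rfl)
    · exact one_mem _
    · exact ha
    · exact hb
    · exact mul_mem ha hb
  refine Subgroup.mem_normalizer_fintype fun x hx => ?_
  have hle : S.W ≤ S.W.comap (MulAut.conj g).toMonoidHom := by
    refine Signalizer.le_of_forall_centralizer (A := U) hUel le_rfl hU2 hUM
      (fun h => Nat.not_even_iff_odd.2 S.odd_W (even_iff_two_dvd.2 h)) fun f hf hf1 => ?_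
    have hfA : IsConj S.D.s f ∧ g * f = f * g := by
      rcases hf with rfl | rfl | rfl | rfl
      · exact absurd rfl hf1
      · exact ⟨hA, hga⟩
      · exact ⟨hB, hgb⟩
      · exact ⟨hAB, by rw [← mul_assoc, hga, mul_assoc, hgb, mul_assoc]⟩
    intro x hx
    have h1 := S.W_inf_A (hUM hf) hfA.1 hx
    have h2 := θ_conj_mem (g := g) h1
    rw [hfA.2, mul_inv_cancel_right] at h2
    exact S.θ_A_le (hUM hf) hfA.1 h2
  exact hle hx

theorem ord_A {u : G} (hu : IsConj S.D.s u) : orderOf u = 2 := by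
  obtain ⟨q, hq⟩ := isConj_iff.1 hu
  rw [← hq, Invol.orderOf_conj_eq, orderOf_s S.D]

/-- The swap is not a square in its centraliser. -/
theorem not_square {y : G} (hys : y * S.D.s = S.D.s * y) : y * y ≠ S.D.s := by
  haveI : Fact (Nat.Prime 2) := ⟨Nat.prime_two⟩
  intro hy2
  set H := centralizer ({S.D.s} : Set G) with hH
  have hyH : y ∈ H := mem_centralizer_singleton_iff.2 hys
  have hp : IsPGroup 2 (zpowers (⟨y, hyH⟩ : H)) := by
    have h4 : y ^ (2 ^ 2) = 1 := by
      rw [show (2 : ℕ) ^ 2 = 2 * 2 from rfl, pow_mul, pow_two, pow_two, hy2, S.s_sq']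
    obtain ⟨i, -, hi⟩ := (Nat.dvd_prime_pow Nat.prime_two).1 (orderOf_dvd_of_pow_eq_one h4)
    exact IsPGroup.of_card (n := i) (by rw [Nat.card_zpowers, ← orderOf_coe]; exact hi)
  obtain ⟨R, hR⟩ := hp.exists_le_sylow
  obtain ⟨q, hq⟩ := MulAction.exists_smul_eq ↥H R S.RS
  have h1 : q * ⟨y, hyH⟩ * q⁻¹ ∈ (S.RS : Subgroup ↥H) := by
    rw [← hq]
    exact ⟨_, hR (mem_zpowers _), rfl⟩
  obtain ⟨x, hx, hxe⟩ := S.exists_el (S.mem_RS.1 h1)
  have hxR : x ∈ rList := (S.mem_rList hx).2 (hxe ▸ (q * ⟨y, hyH⟩ * q⁻¹).2)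
  have hxe' : S.el x = (q : G) * y * (q : G)⁻¹ := hxe
  have hxx : S.el (m x x) = S.el 16 := by
    rw [← S.el_mul, hxe', conj_mul, hy2, mem_centralizer_singleton_iff.1 q.2, mul_inv_cancel_right, S.el_s]
  have h := List.all_eq_true.1 square_S x hxR
  rw [S.el_inj (m_ok x hx x hx) (by norm_num) hxx] at h
  simp at h

/-- The central involution of the dihedral group generated by `z` and a non-central involution. -/
theorem exists_c {u : G} (hu : IsConj S.D.s u) :
    ∃ c, orderOf c = 2 ∧ c * S.z = S.z * c ∧ u * c = c * u ∧ c = (S.z * u) ^ (orderOf (S.z * u) / 2) := by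
  obtain ⟨h1, h2, h3⟩ := Invol.half_props S.orderOf_z (S.ord_A hu)
    (Invol.even_orderOf_mul_of_not_isConj S.orderOf_z (S.ord_A hu) fun h => S.not_both h hu)
  exact ⟨_, h1, h2.eq, h3.eq.symm, rfl⟩

/-- An involution commuting with the swap, with product non-central too, lies in `M`. -/
theorem mem_M_of_pair {u : G} (hus : u * S.D.s = S.D.s * u) (hu : IsConj S.D.s u)
    (hsu : IsConj S.D.s (S.D.s * u)) : u ∈ S.M := by
  haveI : Fact (Nat.Prime 2) := ⟨Nat.prime_two⟩
  obtain ⟨c, hco, hcz, huc, hc⟩ := S.exists_c hu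
  have hcM : c ∈ S.M := S.C_le_M (S.mem_C.2 hcz)
  have hcomm : Commute (S.z * u) S.D.s := Commute.mul_left S.z_comm_s hus
  have hcs : c * S.D.s = S.D.s * c := by rw [hc]; exact (hcomm.pow_left _).eq
  have hne : c ≠ S.D.s := by
    intro e
    rcases Nat.even_or_odd (orderOf (S.z * u) / 2) with ⟨k, hk⟩ | ⟨k, hk⟩
    · refine S.not_square (y := (S.z * u) ^ k) (hcomm.pow_left k).eq ?_
      rw [← pow_add, ← hk, ← hc, e]
    · refine S.not_both ?_ hsu
      have hp : (S.z * u) ^ (2 * k + 1) = S.D.s := by rw [← hk, ← hc, e]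
      have huu : u * u = 1 := Invol.mul_self_eq_one (S.ord_A hu)
      have hz2 := Invol.mul_self_eq_one S.orderOf_z
      have hinv := Invol.conj_mul_inv S.orderOf_z (S.ord_A hu)
      have h1 : S.z * (S.z * u) ^ k * S.z⁻¹ = ((S.z * u) ^ k)⁻¹ := by rw [← conj_pow, hinv, inv_pow]
      refine isConj_iff.2 ⟨(S.z * u) ^ k, ?_⟩
      rw [← hp, ← h1, Invol.inv_eq_self S.orderOf_z]
      calc (S.z * u) ^ k * S.z * (S.z * (S.z * u) ^ k * S.z)
          = (S.z * u) ^ k * ((S.z * S.z) * ((S.z * u) ^ k * S.z)) := by simp only [mul_assoc]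
        _ = (S.z * u) ^ (2 * k) * S.z := by rw [hz2, one_mul, ← mul_assoc, ← pow_add, two_mul]
        _ = (S.z * u) ^ (2 * k + 1) * u := by
          rw [pow_succ, mul_assoc, mul_assoc, huu, mul_one]
  have hscM : S.D.s * c ∈ S.M := mul_mem S.s_mem_M hcM
  have hscu : u * (S.D.s * c) = S.D.s * c * u := by rw [← mul_assoc, hus, mul_assoc, huc, mul_assoc]
  have hsco : orderOf (S.D.s * c) = 2 := Invol.orderOf_eq_two
    (by rw [mul_assoc, ← mul_assoc c, hcs, mul_assoc, Invol.mul_self_eq_one hco, mul_one, S.s_sq'])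
    fun e => hne ((eq_inv_of_mul_eq_one_right e).trans (inv_eq_of_mul_eq_one_right S.s_sq'))
  rcases S.conj_z_or_s hco with hB | hA
  · exact S.cent_le_M hcM hB (mem_centralizer_singleton_iff.2 huc)
  rcases S.conj_z_or_s hsco with hB | hA'
  · exact S.cent_le_M hscM hB (mem_centralizer_singleton_iff.2 hscu)
  exact S.cent_pair_le S.s_mem_M hcM hcs.symm (IsConj.refl _) hA hA' hus huc

/-- The centraliser of the swap lies in `M`. -/
theorem centS_le_M : centralizer ({S.D.s} : Set G) ≤ S.M := by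
  intro g hg
  have hgs := mem_centralizer_singleton_iff.1 hg
  have key : ∀ u, u ∈ [37, 47] → g * S.el u * g⁻¹ ∈ S.M := by
    intro u hu
    obtain ⟨h1, h2, h3⟩ := (vList_ok S.r).2 u hu
    have hlt : u < 64 := by fin_cases hu <;> norm_num
    refine S.mem_M_of_pair ?_ (((S.isConj_s_iff hlt).2 h1).trans (isConj_iff.2 ⟨g, rfl⟩)) ?_
    · have e : S.el u * S.D.s = S.D.s * S.el u := by rw [← S.el_s, S.el_mul, S.el_mul, h3]
      calc g * S.el u * g⁻¹ * S.D.s = g * (S.el u * S.D.s) * g⁻¹ := by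
            rw [mul_assoc, show g⁻¹ * S.D.s = S.D.s * g⁻¹ from
              (Commute.inv_left (show Commute g S.D.s from hgs)).eq]
            group
        _ = S.D.s * (g * S.el u * g⁻¹) := by rw [e, ← mul_assoc, hgs]; group
    · have h := ((S.isConj_s_iff (m_ok 16 (by norm_num) u hlt)).2 h2).trans
        (isConj_iff.2 ⟨g, rfl⟩)
      rw [← S.el_mul, ← conj_mul, S.el_s, hgs, mul_inv_cancel_right] at h
      exact h
  refine S.mem_M_of_conj (x := S.z) (S.P_le_M (S.el_z ▸ S.el_mem 10)) (IsConj.refl _) ?_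
  have e : S.z = S.el 37 * S.el 47 := by rw [S.el_mul, ← S.el_z]; rfl
  rw [e, ← conj_mul]
  exact mul_mem (key 37 (by simp)) (key 47 (by simp))

/-- Every non-central involution lies in `M`. -/
theorem mem_M_of_A {u : G} (hu : IsConj S.D.s u) : u ∈ S.M := by
  obtain ⟨c, hco, hcz, huc, -⟩ := S.exists_c hu
  have hcM : c ∈ S.M := S.C_le_M (S.mem_C.2 hcz)
  rcases S.conj_z_or_s hco with hB | hA
  · exact S.cent_le_M hcM hB (mem_centralizer_singleton_iff.2 huc)
  · obtain ⟨g, hg, rfl⟩ := S.exists_conj_s_M hcM hA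
    have h : g⁻¹ * u * g ∈ S.M := S.centS_le_M (mem_centralizer_singleton_iff.2 (by
      calc g⁻¹ * u * g * S.D.s = g⁻¹ * (u * (g * S.D.s * g⁻¹)) * g := by group
        _ = S.D.s * (g⁻¹ * u * g) := by rw [huc]; group))
    have h' := mul_mem (mul_mem hg h) (inv_mem hg)
    rwa [show g * (g⁻¹ * u * g) * g⁻¹ = u by group] at h'

/-- The core of the centraliser of the central involution is trivial. -/
theorem core_z : θ S.z = ⊥ := by
  set N := Subgroup.normalClosure ({S.D.s} : Set G) with hN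
  have hNM : N ≤ S.M := by
    refine (closure_le _).2 fun x hx => ?_
    simp only [Group.mem_conjugatesOfSet_iff, Set.mem_singleton_iff, exists_eq_left] at hx
    exact S.mem_M_of_A hx
  have hNtop : N = ⊤ := by
    refine ((inferInstance : N.Normal).eq_bot_or_eq_top).resolve_left fun e => ?_
    have h : S.D.s ∈ N := subset_normalClosure rfl
    rw [e, mem_bot] at h
    exact S.D.s_ne h
  have hM : normalizer (S.W : Set G) = ⊤ := top_le_iff.1 (hNtop ▸ hNM)
  have hW : S.W = ⊥ := by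
    refine ((normalizer_eq_top_iff.1 hM).eq_bot_or_eq_top).resolve_right fun e => ?_
    have h := S.odd_W
    rw [e, card_top] at h
    exact absurd (h.of_dvd_nat (S.orderOf_z ▸ orderOf_dvd_natCard S.z)) (by decide)
  refine le_bot_iff.1 (hW ▸ ?_)
  rw [W, WF, S.el_mul, show m 2 8 = 10 by decide, S.el_z]
  exact le_sup_right

end Setup

end CfsgLib.M12Type
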