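import Cfsg.Agent.M12Type.LocalData

/-!
Finite checks for the centraliser of the swap.
-/

set_option autoImplicit false
set_option linter.unusedSectionVars false
set_option maxRecDepth 100000

namespace CfsgLib.M12Type

/-- The codes of the centraliser of the swap. -/
def rList : List Nat := (List.range 64).filter fun x => m x 16 == m 16 x

/-- The first maximal subgroup. -/
def k1 : List Nat := [0, 10, 16, 26, 32, 42, 48, 58]

/-- The second maximal subgroup. -/
def k2 : List Nat := [0, 5, 10, 15, 32, 37, 42, 47]

/-- Invariants of a code under an automorphism fixing the swap. -/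
def sigS (r : Bool) (x : Nat) : Bool × Bool × Bool × Bool × Bool :=
  (x == 0, x == 16, m x x == 0, Setup.sCode r x, Setup.sCode r (m 16 x))

theorem kList_ok : ∀ K ∈ [k1, k2], K.Nodup ∧ K.length = 8 ∧ K.contains 0 = true ∧
    ∀ x ∈ K, x < 64 ∧ rList.contains x = true ∧ K.contains (inv x) = true ∧
      ∀ y ∈ K, K.contains (m x y) = true := by decide +kernel

/-- The pairs to which the transfers are applied. -/
def stableS : List (Nat × List Nat) :=
  [(16, k1), (10, k1), (32, k1), (5, k1), (16, k2), (10, k2), (32, k2)]

theorem stableS_ok : ∀ r : Bool, (stableS.all fun uK => Nat.blt uK.1 64 && rList.contains uK.1 &&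
    (List.range 8).all fun k => rList.all fun y =>
      !(sigS r y == sigS r (pw uK.1 k)) || (uK.2.contains y == uK.2.contains (pw uK.1 k))) = true := by
  decide +kernel

theorem meet_ok : (∀ x ∈ rList, k1.contains x = true → [0, 10, 32, 42].contains x = true ∨
      ∃ y ∈ [0, 10, 32, 42], x = m 16 y) ∧
    (∀ x ∈ rList, ∃ y ∈ k1, x = y ∨ x = m 5 y) := by decide +kernel

theorem vList_ok : ∀ r : Bool, (∀ x ∈ [0, 10, 32, 42], x ∈ eList) ∧
    ∀ u ∈ [37, 47], Setup.sCode r u = true ∧ Setup.sCode r (m 16 u) = true ∧ m 16 u = m u 16 := by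
  decide +kernel

theorem square_S : (rList.all fun x => !(Nat.beq (m x x) 16)) = true := by decide +kernel

end CfsgLib.M12Type
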