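import Cfsg.Agent.GTwoFusion.Classes

/-!
Codes for the Sylow subgroup of order 64: the number `i + 4 j + 16 a + 32 b` stands for
`t i j * s ^ a * w ^ b`.
-/

set_option autoImplicit false
set_option linter.unusedSectionVars false

namespace CfsgLib.M12Type

open Subgroup CfsgLib.GTwoFusion

/-- The first coordinate. -/
def ci (x : Nat) : Nat := x % 4
/-- The second coordinate. -/
def cj (x : Nat) : Nat := x / 4 % 4
/-- The exponent of the swap. -/
def ca (x : Nat) : Nat := x / 16 % 2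
/-- The exponent of the inversion. -/
def cb (x : Nat) : Nat := x / 32 % 2

/-- The code with given coordinates. -/
def mk (i j a b : Nat) : Nat := i % 4 + 4 * (j % 4) + 16 * (a % 2) + 32 * (b % 2)

/-- Multiplication of codes. -/
def m (x y : Nat) : Nat :=
  let k := if cb x = 1 then 4 - ci y else ci y
  let l := if cb x = 1 then 4 - cj y else cj y
  mk (ci x + (if ca x = 1 then l else k)) (cj x + (if ca x = 1 then k else l))
    (ca x + ca y) (cb x + cb y)

/-- The inverse of a code. -/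
def inv (x : Nat) : Nat :=
  let y := mk (if ca x = 1 then cj x else ci x) (if ca x = 1 then ci x else cj x) 0 0
  mk (if cb x = 1 then ci y else 4 - ci y) (if cb x = 1 then cj y else 4 - cj y) (ca x) (cb x)

/-- Conjugation of codes. -/
def conj (g x : Nat) : Nat := m (m g x) (inv g)

/-- The codes of `z`, `s`, `w`, `t 1 1 * w`. -/
def cz : Nat := mk 2 2 0 0

theorem m_ok : ∀ x < 64, ∀ y < 64, m x y < 64 := by decide +kernel

theorem inv_ok : ∀ x < 64, inv x < 64 ∧ m x (inv x) = 0 ∧ m 0 x = x ∧ m x 0 = x := by decide +kernel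

theorem conj_ok : ∀ x < 64, ∀ y < 64, conj x y < 64 := by decide +kernel

theorem coord_lt (x : Nat) : ci x < 4 ∧ cj x < 4 ∧ ca x < 2 ∧ cb x < 2 :=
  ⟨Nat.mod_lt _ (by norm_num), Nat.mod_lt _ (by norm_num), Nat.mod_lt _ (by norm_num),
    Nat.mod_lt _ (by norm_num)⟩

section El

variable {G : Type*} [Group G] {P : Subgroup G} (D : Shape P 1)

/-- The element of a code. -/
def elN (x : Nat) : G :=
  D.t ((ci x : Nat) : ZMod (4 * 1)) ((cj x : Nat) : ZMod (4 * 1)) * (D.s ^ ca x * D.w ^ cb x)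

theorem elN_mem (x : Nat) : elN D x ∈ P :=
  mul_mem (D.t_mem _ _) (mul_mem (pow_mem D.s_mem _) (pow_mem D.w_mem _))

theorem elN_mk (i j a b : Nat) :
    elN D (mk i j a b) = D.t (i : ZMod (4 * 1)) (j : ZMod (4 * 1)) * (D.s ^ a * D.w ^ b) := by
  have h1 : ci (mk i j a b) = i % 4 := by unfold ci mk; omega
  have h2 : cj (mk i j a b) = j % 4 := by unfold cj mk; omega
  have h3 : ca (mk i j a b) = a % 2 := by unfold ca mk; omega
  have h4 : cb (mk i j a b) = b % 2 := by unfold cb mk; omega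
  rw [elN, h1, h2, h3, h4, ← pow_eq_pow_mod a (show D.s ^ 2 = 1 by rw [pow_two, D.s_sq]),
    ← pow_eq_pow_mod b (show D.w ^ 2 = 1 by rw [pow_two, D.w_sq])]
  congr 1
  have e : ∀ n : ℕ, ((n % 4 : ℕ) : ZMod (4 * 1)) = (n : ZMod (4 * 1)) := fun n => ZMod.natCast_mod n 4
  rw [e, e]

theorem elN_zero : elN D 0 = 1 := by
  simp [elN, ci, cj, ca, cb, D.t_zero]

theorem neg_cast (k : Nat) (hk : k ≤ 4) : ((4 - k : Nat) : ZMod (4 * 1)) = -(k : ZMod (4 * 1)) := by
  rw [Nat.cast_sub hk, show ((4 : ℕ) : ZMod (4 * 1)) = 0 from ZMod.natCast_self 4, zero_sub]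

theorem elN_m (x y : Nat) : elN D x * elN D y = elN D (m x y) := by
  obtain ⟨hxi, hxj, hxa, hxb⟩ := coord_lt x
  obtain ⟨hyi, hyj, hya, hyb⟩ := coord_lt y
  unfold m
  simp only [elN_mk]
  unfold elN
  have hsw : ∀ e : Nat, D.w * D.s ^ e = D.s ^ e * D.w := fun e => Commute.pow_right D.sw e
  generalize ci x = i, cj x = j, ca x = a, cb x = b at hxi hxj hxa hxb
  generalize ci y = k, cj y = l, ca y = c, cb y = d at hyi hyj hya hyb
  rcases (show a = 0 ∨ a = 1 by omega) with rfl | rfl <;>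
    rcases (show b = 0 ∨ b = 1 by omega) with rfl | rfl <;>
    simp only [zero_ne_one, if_false, if_true, pow_zero, pow_one, one_mul, mul_one, Nat.cast_add,
      neg_cast _ hyi.le, neg_cast _ hyj.le, zero_add]
  · rw [D.t_t_assoc]
  · rw [mul_assoc (D.t _ _), D.w_t_assoc, D.t_t_assoc, ← mul_assoc D.w, hsw, mul_assoc, ← pow_succ',
      add_comm 1 d]
  · rw [mul_assoc (D.t _ _), D.s_t_assoc, D.t_t_assoc, ← mul_assoc D.s, ← pow_succ', add_comm 1 c]
  · simp only [mul_assoc]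
    rw [D.w_t_assoc, D.s_t_assoc, D.t_t_assoc, ← mul_assoc D.w, hsw]
    simp only [mul_assoc]
    rw [← mul_assoc D.s, ← pow_succ', ← pow_succ', add_comm 1 c, add_comm 1 d]

theorem elN_inv {x : Nat} (hx : x < 64) : (elN D x)⁻¹ = elN D (inv x) :=
  inv_eq_of_mul_eq_one_right (by rw [elN_m, (inv_ok x hx).2.1, elN_zero])

theorem elN_conj {g x : Nat} (hg : g < 64) :
    elN D g * elN D x * (elN D g)⁻¹ = elN D (conj g x) := by
  rw [elN_inv D hg, elN_m, elN_m, conj]

theorem elN_inj {x y : Nat} (hx : x < 64) (hy : y < 64) (h : elN D x = elN D y) : x = y := by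
  obtain ⟨hxi, hxj, hxa, hxb⟩ := coord_lt x
  obtain ⟨hyi, hyj, hya, hyb⟩ := coord_lt y
  have := D.el_injective
    (a₁ := (((ci x : Nat), (cj x : Nat)), (⟨ca x, hxa⟩, ⟨cb x, hxb⟩)))
    (a₂ := (((ci y : Nat), (cj y : Nat)), (⟨ca y, hya⟩, ⟨cb y, hyb⟩))) h
  simp only [Prod.mk.injEq, Fin.mk.injEq] at this
  obtain ⟨⟨e1, e2⟩, e3, e4⟩ := this
  have c : ∀ {u v : Nat}, u < 4 → v < 4 → (u : ZMod (4 * 1)) = v → u = v := fun hu hv e => by
    have := congrArg ZMod.val e
    rwa [ZMod.val_natCast, ZMod.val_natCast, Nat.mod_eq_of_lt hu, Nat.mod_eq_of_lt hv] at this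
  have d1 := c hxi hyi e1
  have d2 := c hxj hyj e2
  unfold ci cj ca cb at *
  omega

theorem exists_elN {g : G} (hg : g ∈ P) : ∃ x < 64, elN D x = g := by
  haveI : NeZero (4 * 1) := ⟨by norm_num⟩
  obtain ⟨i, j, a, b, h⟩ := D.cover g hg
  refine ⟨mk i.val j.val a b, ?_, ?_⟩
  · unfold mk; omega
  · rw [elN_mk, ZMod.natCast_zmod_val, ZMod.natCast_zmod_val, h]

theorem elN_eq_one_iff {x : Nat} (hx : x < 64) : elN D x = 1 ↔ x = 0 :=
  ⟨fun h => elN_inj D hx (by norm_num) (h.trans (elN_zero D).symm), fun h => h ▸ elN_zero D⟩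

theorem elN_commute_iff {x y : Nat} (hx : x < 64) (hy : y < 64) :
    elN D x * elN D y = elN D y * elN D x ↔ m x y = m y x := by
  rw [elN_m, elN_m]
  exact ⟨fun h => elN_inj D (m_ok x hx y hy) (m_ok y hy x hx) h, fun h => by rw [h]⟩

end El

end CfsgLib.M12Type
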