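import Mathlib.Data.List.Basic

/-!
Codes for groups of order 64 with a self-centralising element of order eight, and the finite checks
excluding all but the shape of the Sylow subgroup of the Mathieu group of degree twelve.
-/

set_option autoImplicit false
set_option maxRecDepth 100000

namespace CfsgLib.M12Type.Eight

/-- Multiplication of the codes `i + 8 j + 16 k` of `f ^ i * y ^ j * x ^ k`. -/
def m0 (b u v : Nat) : Nat :=
  ((u % 8 + ((v % 8) * (if u / 16 = 1 then 3 else 1) +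
      (if u / 16 = 1 && v / 8 % 2 = 1 && b = 1 then 4 else 0)) * (if u / 8 % 2 = 1 then 5 else 1)) % 8) +
    8 * ((u / 8 % 2 + v / 8 % 2) % 2) + 16 * ((u / 16 + v / 16) % 2)

/-- A power of a code. -/
def pw0 (b u : Nat) : Nat → Nat
  | 0 => 0
  | n + 1 => m0 b (pw0 b u n) u

/-- The image of a code under the action with given images of `y` and `x`. -/
def img (b Y X u : Nat) : Nat :=
  m0 b (m0 b (pw0 b 15 (u % 8)) (pw0 b Y (u / 8 % 2))) (pw0 b X (u / 16))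

/-- The images define an automorphism. -/
def validYX (b Y X : Nat) : Bool :=
  [1, 8, 16].all fun g => (List.range 32).all fun u =>
    Nat.beq (img b Y X (m0 b u g)) (m0 b (img b Y X u) (img b Y X g))

/-- The square of the extending element is `c`. -/
def validC (b Y X c : Nat) : Bool :=
  Nat.beq (img b Y X c) c &&
    [1, 8, 16].all fun g => Nat.beq (m0 b (img b Y X (img b Y X g)) c) (m0 b c g)

/-- The parameters: the cocycle, the square, the table of the action and possibly a witness of the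
shape. -/
def params : List (Nat × Nat × List Nat × List Nat) := [
  (0, 8, [0, 15, 2, 9, 4, 11, 6, 13, 8, 7, 10, 1, 12, 3, 14, 5, 24, 23, 26, 17, 28, 19, 30, 21, 16, 31, 18, 25, 20, 27, 22, 29], [32, 25, 34, 50]),
  (0, 12, [0, 15, 2, 9, 4, 11, 6, 13, 8, 7, 10, 1, 12, 3, 14, 5, 24, 23, 26, 17, 28, 19, 30, 21, 16, 31, 18, 25, 20, 27, 22, 29], []),
  (0, 10, [0, 15, 2, 9, 4, 11, 6, 13, 8, 7, 10, 1, 12, 3, 14, 5, 26, 17, 28, 19, 30, 21, 24, 23, 18, 25, 20, 27, 22, 29, 16, 31], []),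
  (0, 14, [0, 15, 2, 9, 4, 11, 6, 13, 8, 7, 10, 1, 12, 3, 14, 5, 26, 17, 28, 19, 30, 21, 24, 23, 18, 25, 20, 27, 22, 29, 16, 31], []),
  (0, 8, [0, 15, 2, 9, 4, 11, 6, 13, 8, 7, 10, 1, 12, 3, 14, 5, 28, 19, 30, 21, 24, 23, 26, 17, 20, 27, 22, 29, 16, 31, 18, 25], []),
  (0, 12, [0, 15, 2, 9, 4, 11, 6, 13, 8, 7, 10, 1, 12, 3, 14, 5, 28, 19, 30, 21, 24, 23, 26, 17, 20, 27, 22, 29, 16, 31, 18, 25], [32, 25, 38, 48]),
  (0, 10, [0, 15, 2, 9, 4, 11, 6, 13, 8, 7, 10, 1, 12, 3, 14, 5, 30, 21, 24, 23, 26, 17, 28, 19, 22, 29, 16, 31, 18, 25, 20, 27], []),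
  (0, 14, [0, 15, 2, 9, 4, 11, 6, 13, 8, 7, 10, 1, 12, 3, 14, 5, 30, 21, 24, 23, 26, 17, 28, 19, 22, 29, 16, 31, 18, 25, 20, 27], []),
  (0, 2, [0, 15, 2, 9, 4, 11, 6, 13, 12, 3, 14, 5, 8, 7, 10, 1, 24, 23, 26, 17, 28, 19, 30, 21, 20, 27, 22, 29, 16, 31, 18, 25], []),
  (0, 6, [0, 15, 2, 9, 4, 11, 6, 13, 12, 3, 14, 5, 8, 7, 10, 1, 24, 23, 26, 17, 28, 19, 30, 21, 20, 27, 22, 29, 16, 31, 18, 25], []),
  (0, 0, [0, 15, 2, 9, 4, 11, 6, 13, 12, 3, 14, 5, 8, 7, 10, 1, 26, 17, 28, 19, 30, 21, 24, 23, 22, 29, 16, 31, 18, 25, 20, 27], []),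
  (0, 4, [0, 15, 2, 9, 4, 11, 6, 13, 12, 3, 14, 5, 8, 7, 10, 1, 26, 17, 28, 19, 30, 21, 24, 23, 22, 29, 16, 31, 18, 25, 20, 27], [33, 25, 35, 49]),
  (0, 2, [0, 15, 2, 9, 4, 11, 6, 13, 12, 3, 14, 5, 8, 7, 10, 1, 28, 19, 30, 21, 24, 23, 26, 17, 16, 31, 18, 25, 20, 27, 22, 29], []),
  (0, 6, [0, 15, 2, 9, 4, 11, 6, 13, 12, 3, 14, 5, 8, 7, 10, 1, 28, 19, 30, 21, 24, 23, 26, 17, 16, 31, 18, 25, 20, 27, 22, 29], []),
  (0, 0, [0, 15, 2, 9, 4, 11, 6, 13, 12, 3, 14, 5, 8, 7, 10, 1, 30, 21, 24, 23, 26, 17, 28, 19, 18, 25, 20, 27, 22, 29, 16, 31], [33, 25, 39, 51]),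
  (0, 4, [0, 15, 2, 9, 4, 11, 6, 13, 12, 3, 14, 5, 8, 7, 10, 1, 30, 21, 24, 23, 26, 17, 28, 19, 18, 25, 20, 27, 22, 29, 16, 31], []),
  (1, 10, [0, 15, 2, 9, 4, 11, 6, 13, 8, 7, 10, 1, 12, 3, 14, 5, 16, 31, 18, 25, 20, 27, 22, 29, 24, 23, 26, 17, 28, 19, 30, 21], []),
  (1, 14, [0, 15, 2, 9, 4, 11, 6, 13, 8, 7, 10, 1, 12, 3, 14, 5, 16, 31, 18, 25, 20, 27, 22, 29, 24, 23, 26, 17, 28, 19, 30, 21], []),
  (1, 8, [0, 15, 2, 9, 4, 11, 6, 13, 8, 7, 10, 1, 12, 3, 14, 5, 18, 25, 20, 27, 22, 29, 16, 31, 26, 17, 28, 19, 30, 21, 24, 23], []),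
  (1, 12, [0, 15, 2, 9, 4, 11, 6, 13, 8, 7, 10, 1, 12, 3, 14, 5, 18, 25, 20, 27, 22, 29, 16, 31, 26, 17, 28, 19, 30, 21, 24, 23], []),
  (1, 10, [0, 15, 2, 9, 4, 11, 6, 13, 8, 7, 10, 1, 12, 3, 14, 5, 20, 27, 22, 29, 16, 31, 18, 25, 28, 19, 30, 21, 24, 23, 26, 17], []),
  (1, 14, [0, 15, 2, 9, 4, 11, 6, 13, 8, 7, 10, 1, 12, 3, 14, 5, 20, 27, 22, 29, 16, 31, 18, 25, 28, 19, 30, 21, 24, 23, 26, 17], []),
  (1, 8, [0, 15, 2, 9, 4, 11, 6, 13, 8, 7, 10, 1, 12, 3, 14, 5, 22, 29, 16, 31, 18, 25, 20, 27, 30, 21, 24, 23, 26, 17, 28, 19], []),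
  (1, 12, [0, 15, 2, 9, 4, 11, 6, 13, 8, 7, 10, 1, 12, 3, 14, 5, 22, 29, 16, 31, 18, 25, 20, 27, 30, 21, 24, 23, 26, 17, 28, 19], []),
  (1, 0, [0, 15, 2, 9, 4, 11, 6, 13, 12, 3, 14, 5, 8, 7, 10, 1, 16, 31, 18, 25, 20, 27, 22, 29, 28, 19, 30, 21, 24, 23, 26, 17], []),
  (1, 4, [0, 15, 2, 9, 4, 11, 6, 13, 12, 3, 14, 5, 8, 7, 10, 1, 16, 31, 18, 25, 20, 27, 22, 29, 28, 19, 30, 21, 24, 23, 26, 17], []),
  (1, 2, [0, 15, 2, 9, 4, 11, 6, 13, 12, 3, 14, 5, 8, 7, 10, 1, 18, 25, 20, 27, 22, 29, 16, 31, 30, 21, 24, 23, 26, 17, 28, 19], []),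
  (1, 6, [0, 15, 2, 9, 4, 11, 6, 13, 12, 3, 14, 5, 8, 7, 10, 1, 18, 25, 20, 27, 22, 29, 16, 31, 30, 21, 24, 23, 26, 17, 28, 19], []),
  (1, 0, [0, 15, 2, 9, 4, 11, 6, 13, 12, 3, 14, 5, 8, 7, 10, 1, 20, 27, 22, 29, 16, 31, 18, 25, 24, 23, 26, 17, 28, 19, 30, 21], []),
  (1, 4, [0, 15, 2, 9, 4, 11, 6, 13, 12, 3, 14, 5, 8, 7, 10, 1, 20, 27, 22, 29, 16, 31, 18, 25, 24, 23, 26, 17, 28, 19, 30, 21], []),
  (1, 2, [0, 15, 2, 9, 4, 11, 6, 13, 12, 3, 14, 5, 8, 7, 10, 1, 22, 29, 16, 31, 18, 25, 20, 27, 26, 17, 28, 19, 30, 21, 24, 23], []),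
  (1, 6, [0, 15, 2, 9, 4, 11, 6, 13, 12, 3, 14, 5, 8, 7, 10, 1, 22, 29, 16, 31, 18, 25, 20, 27, 26, 17, 28, 19, 30, 21, 24, 23], [])]

/-- The multiplication of the extended codes `a + 32 e`. -/
def M (p : Nat × Nat × List Nat × List Nat) (u v : Nat) : Nat :=
  let r := m0 p.1 (u % 32) (if u / 32 = 1 then p.2.2.1.getD (v % 32) 0 else v % 32)
  (if u / 32 = 1 && v / 32 = 1 then m0 p.1 r p.2.1 else r) + 32 * ((u / 32 + v / 32) % 2)

/-- A code of an involution. -/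
def invC (p : Nat × Nat × List Nat × List Nat) (u : Nat) : Bool := u != 0 && M p u u == 0

/-- The codes of the centraliser. -/
def centC (p : Nat × Nat × List Nat × List Nat) (v : Nat) : List Nat :=
  (List.range 64).filter fun w => M p w v == M p v w

/-- The roots of a code. -/
def rootsC (p : Nat × Nat × List Nat × List Nat) (s : Nat) : List Nat :=
  (List.range 64).filter fun w => M p w w == s

/-- An involution having a root of the central involution in its centraliser. -/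
def typeOne (p : Nat × Nat × List Nat × List Nat) (v : Nat) : Bool :=
  (centC p v).any fun w => M p w w == 4

/-- The central involution is conjugate to no other involution. -/
def crit (p : Nat × Nat × List Nat × List Nat) : Bool :=
  let sqi := (List.range 64).filter fun s => invC p s && (s != 4) && (List.range 64).any fun w => M p w w == s
  (sqi.all fun a => sqi.all fun s =>
      Nat.blt (rootsC p s).length ((centC p a).filter fun w => M p w w == 4).length) &&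
    (List.range 64).all fun v => !(invC p v) || v == 4 || typeOne p v ||
      (let L := centC p v
       let A := L.filter fun w => invC p w && (w != 4) && typeOne p w
       Nat.beq L.length 8 && Nat.beq A.length 2 && A.all (fun a => A.all fun a' => a == a' || M p a a' == 4) &&
         L.all fun w => w == 0 || w == 4 || A.contains w ||
           ((List.range 64).any fun g => M p g v == M p w g))

/-- The witness gives the shape. -/
def shapeOK (p : Nat × Nat × List Nat × List Nat) : Bool :=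
  match p.2.2.2 with
  | [u, s, v, w] =>
    let u2 := M p u u
    let u3 := M p u2 u
    let v2 := M p v v
    let v3 := M p v2 v
    Nat.blt u 64 && Nat.blt s 64 && Nat.blt v 64 && Nat.blt w 64 &&
    M p u v == M p v u && M p u2 u2 == 0 && M p v2 v2 == 0 &&
    ([0, u, u2, u3].flatMap fun a => [0, v, v2, v3].map fun b => M p a b).tail.all (fun x => x != 0) &&
    M p s s == 0 && M p w w == 0 && M p w s == M p s w && M p s u == M p v s &&
    M p w u == M p u3 w && M p w v == M p v3 w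
  | _ => false

theorem m0_ok : ∀ b < 2, ∀ u < 32, ∀ v < 32, m0 b u v < 32 := by decide +kernel

theorem params_ok : (params.all fun p => Nat.blt p.2.1 32 && (p.2.2.1.all fun x => Nat.blt x 32) &&
    (crit p || shapeOK p)) = true := by decide +kernel

theorem valid_ok : ((List.range 2).all fun b => (List.range 32).all fun Y => (List.range 32).all fun X =>
    !(validYX b Y X) || (List.range 32).all fun c => !(validC b Y X c) ||
      params.any fun p => Nat.beq p.1 b && Nat.beq p.2.1 c && p.2.2.1 == (List.range 32).map (img b Y X)) = true := by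
  decide +kernel

end CfsgLib.M12Type.Eight
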