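import Cfsg.Agent.M12Type.EightData
import Cfsg.Agent.M12U.Tools

/-!
Coordinates for a 2-group of order 64 with a self-centralising element of order eight conjugate to
its odd powers.
-/

set_option autoImplicit false
set_option linter.unusedSectionVars false

namespace CfsgLib.M12Type.Eight

open Subgroup

variable {G : Type*} [Group G]

theorem pow_of_mod {f : G} (hf : f ^ 8 = 1) {a b : ℕ} (h : a % 8 = b % 8) : f ^ a = f ^ b := by
  rw [pow_eq_pow_mod a hf, pow_eq_pow_mod b hf, h]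

/-- The relations of the base group. -/
structure Base (b : ℕ) (f y x : G) : Prop where
  hb : b < 2
  f8 : f ^ 8 = 1
  y2 : y * y = 1
  x2 : x * x = 1
  yf : y * f = f ^ 5 * y
  xf : x * f = f ^ 3 * x
  xy : x * y = f ^ (4 * b) * (y * x)

/-- The element of a code of the base group. -/
def el0 (f y x : G) (u : ℕ) : G := f ^ (u % 8) * (y ^ (u / 8 % 2) * x ^ (u / 16))

theorem Base.mul {b : ℕ} {f y x : G} (B : Base b f y x) {u v : ℕ} (hu : u < 32) (hv : v < 32) :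
    el0 f y x u * el0 f y x v = el0 f y x (m0 b u v) := by
  have yp : ∀ (n : ℕ) (g : G), y * (f ^ n * g) = f ^ (5 * n) * (y * g) := fun n g => by
    rw [← mul_assoc, ← mul_assoc, pow_mul, (SemiconjBy.pow_right (show SemiconjBy y f (f ^ 5) from B.yf) n).eq]
  have xp : ∀ (n : ℕ) (g : G), x * (f ^ n * g) = f ^ (3 * n) * (x * g) := fun n g => by
    rw [← mul_assoc, ← mul_assoc, pow_mul, (SemiconjBy.pow_right (show SemiconjBy x f (f ^ 3) from B.xf) n).eq]
  have yp' : ∀ n : ℕ, y * f ^ n = f ^ (5 * n) * y := fun n => by simpa using yp n 1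
  have xp' : ∀ n : ℕ, x * f ^ n = f ^ (3 * n) * x := fun n => by simpa using xp n 1
  have ff : ∀ (a n : ℕ) (g : G), f ^ a * (f ^ n * g) = f ^ (a + n) * g := fun a n g => by
    rw [← mul_assoc, ← pow_add]
  have yy : ∀ g : G, y * (y * g) = g := fun g => by rw [← mul_assoc, B.y2, one_mul]
  have xx : ∀ g : G, x * (x * g) = g := fun g => by rw [← mul_assoc, B.x2, one_mul]
  have xyg : ∀ g : G, x * (y * g) = f ^ (4 * b) * (y * (x * g)) := fun g => by
    rw [← mul_assoc, B.xy, mul_assoc, mul_assoc]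
  have hd : (m0 b u v) % 8 = ((u % 8 + ((v % 8) * (if u / 16 = 1 then 3 else 1) +
      (if u / 16 = 1 && v / 8 % 2 = 1 && b = 1 then 4 else 0)) * (if u / 8 % 2 = 1 then 5 else 1)) % 8) ∧
      m0 b u v / 8 % 2 = (u / 8 % 2 + v / 8 % 2) % 2 ∧ m0 b u v / 16 = (u / 16 + v / 16) % 2 := by
    unfold m0
    omega
  unfold el0
  rw [hd.1, hd.2.1, hd.2.2]
  have hj : u / 8 % 2 < 2 := Nat.mod_lt _ (by norm_num)
  have hk : u / 16 < 2 := by omega
  have hJ : v / 8 % 2 < 2 := Nat.mod_lt _ (by norm_num)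
  have hK : v / 16 < 2 := by omega
  have hi : u % 8 < 8 := Nat.mod_lt _ (by norm_num)
  generalize u % 8 = i, u / 8 % 2 = j, u / 16 = k, v % 8 = I, v / 8 % 2 = J, v / 16 = K at *
  have hb := B.hb
  rcases (show j = 0 ∨ j = 1 by omega) with rfl | rfl <;>
  rcases (show k = 0 ∨ k = 1 by omega) with rfl | rfl <;>
  rcases (show J = 0 ∨ J = 1 by omega) with rfl | rfl <;>
  rcases (show K = 0 ∨ K = 1 by omega) with rfl | rfl <;>
  rcases (show b = 0 ∨ b = 1 by omega) with rfl | rfl <;>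
    simp only [pow_zero, pow_one, one_mul, mul_one, mul_assoc, yp, xp, yp', xp', ff, yy, xx, xyg, B.xy, B.y2, B.x2,
      zero_ne_one, one_ne_zero, decide_true, decide_false, Bool.and_true, Bool.and_false, Bool.false_and,
      Bool.true_and, Bool.false_eq_true, if_true, if_false, Nat.reduceAdd, Nat.reduceMod, Nat.reduceMul,
      mul_zero, zero_mul, add_zero, zero_add] <;>
    first
      | exact pow_of_mod B.f8 (by omega)
      | exact congrArg (fun a => a * _) (pow_of_mod B.f8 (by omega))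
      | exact (pow_add _ _ _).symm.trans (pow_of_mod B.f8 (by omega))
      | skip

/-- Coordinates of a group of order 64. -/
structure Frame (P : Subgroup G) where
  /-- The cocycle. -/
  b : ℕ
  /-- The element of order eight. -/
  f : G
  /-- The first involution. -/
  y : G
  /-- The second involution. -/
  x : G
  /-- The extending element. -/
  p : G
  /-- The image of `y`. -/
  Y : ℕ
  /-- The image of `x`. -/
  X : ℕ
  /-- The square. -/
  c : ℕ
  base : Base b f y x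
  Ylt : Y < 32
  Xlt : X < 32
  clt : c < 32
  el_eq_one : ∀ u < 32, el0 f y x u = 1 → u = 0
  p_not : ∀ u < 32, el0 f y x u ≠ p
  pf : p * f * p⁻¹ = el0 f y x 15
  py : p * y * p⁻¹ = el0 f y x Y
  px : p * x * p⁻¹ = el0 f y x X
  pp : p * p = el0 f y x c
  f_mem : f ∈ P
  y_mem : y ∈ P
  x_mem : x ∈ P
  p_mem : p ∈ P
  card : Nat.card P = 64

namespace Frame

variable {P : Subgroup G} (F : Frame P)

/-- The element of a code. -/
def e0 (u : ℕ) : G := el0 F.f F.y F.x u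

theorem mul0 {u v : ℕ} (hu : u < 32) (hv : v < 32) : F.e0 u * F.e0 v = F.e0 (m0 F.b u v) :=
  F.base.mul hu hv

theorem e0_zero : F.e0 0 = 1 := by simp [e0, el0]

theorem m0_lt {u v : ℕ} (hu : u < 32) (hv : v < 32) : m0 F.b u v < 32 := m0_ok _ F.base.hb u hu v hv

theorem pw0_eq {u : ℕ} (hu : u < 32) : ∀ n, pw0 F.b u n < 32 ∧ F.e0 (pw0 F.b u n) = F.e0 u ^ n
  | 0 => ⟨by simp [pw0], by rw [pow_zero, pw0, F.e0_zero]⟩
  | n + 1 => by
    obtain ⟨h, he⟩ := pw0_eq hu n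
    exact ⟨F.m0_lt h hu, by rw [pw0, ← F.mul0 h hu, he, pow_succ]⟩

theorem conj_e0 {u : ℕ} (hu : u < 32) :
    img F.b F.Y F.X u < 32 ∧ F.p * F.e0 u * F.p⁻¹ = F.e0 (img F.b F.Y F.X u) := by
  obtain ⟨h1, e1⟩ := F.pw0_eq (show 15 < 32 by norm_num) (u % 8)
  obtain ⟨h2, e2⟩ := F.pw0_eq F.Ylt (u / 8 % 2)
  obtain ⟨h3, e3⟩ := F.pw0_eq F.Xlt (u / 16)
  refine ⟨F.m0_lt (F.m0_lt h1 h2) h3, ?_⟩
  rw [img, ← F.mul0 (F.m0_lt h1 h2) h3, ← F.mul0 h1 h2, e1, e2, e3]
  show F.p * el0 F.f F.y F.x u * F.p⁻¹ = el0 F.f F.y F.x 15 ^ _ * el0 F.f F.y F.x F.Y ^ _ * el0 F.f F.y F.x F.X ^ _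
  rw [← F.pf, ← F.py, ← F.px, conj_pow, conj_pow, conj_pow, el0]
  group

theorem e0_inj {u v : ℕ} (hu : u < 32) (hv : v < 32) (h : F.e0 u = F.e0 v) : u = v := by
  classical
  obtain ⟨w, hw, hwu⟩ : ∃ w < 32, m0 F.b w v = 0 := by
    have key : ∀ b < 2, ∀ v < 32, ∃ w < 32, m0 b w v = 0 := by decide +kernel
    exact key _ F.base.hb v hv
  have h1 : F.e0 (m0 F.b w u) = 1 := by
    rw [← F.mul0 hw hu, h, F.mul0 hw hv, hwu, F.e0_zero]
  have h2 := F.el_eq_one _ (F.m0_lt hw hu) h1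
  have key : ∀ b < 2, ∀ w < 32, ∀ u < 32, ∀ v < 32, m0 b w u = m0 b w v → u = v := by
    intro b hb w hw u hu v hv hh
    have k : ∀ b < 2, ∀ w < 32, ((List.range 32).map (m0 b w)).Nodup := by decide +kernel
    exact List.inj_on_of_nodup_map (k b hb w hw) (List.mem_range.2 hu) (List.mem_range.2 hv) hh
  exact key _ F.base.hb w hw u hu v hv (h2.trans hwu.symm)

/-- The element of an extended code. -/
def e (u : ℕ) : G := F.e0 (u % 32) * F.p ^ (u / 32)

theorem mem (u : ℕ) : F.e u ∈ P :=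
  mul_mem (mul_mem (pow_mem F.f_mem _) (mul_mem (pow_mem F.y_mem _) (pow_mem F.x_mem _))) (pow_mem F.p_mem _)

theorem exists_param : ∃ q ∈ params, q.1 = F.b ∧ q.2.1 = F.c ∧
    ∀ u < 32, q.2.2.1.getD u 0 = img F.b F.Y F.X u := by
  have hYX : validYX F.b F.Y F.X = true := by
    simp only [validYX, List.all_eq_true, List.mem_range, Nat.beq_eq]
    intro g hg u hu
    have hg' : g < 32 := by fin_cases hg <;> norm_num
    obtain ⟨a1, a2⟩ := F.conj_e0 (F.m0_lt hu hg')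
    obtain ⟨b1, b2⟩ := F.conj_e0 hu
    obtain ⟨c1, c2⟩ := F.conj_e0 hg'
    refine F.e0_inj a1 (F.m0_lt b1 c1) ?_
    rw [← F.mul0 b1 c1, ← a2, ← b2, ← c2, conj_mul, F.mul0 hu hg']
  have hC : validC F.b F.Y F.X F.c = true := by
    simp only [validC, Bool.and_eq_true, List.all_eq_true, Nat.beq_eq]
    obtain ⟨a1, a2⟩ := F.conj_e0 F.clt
    refine ⟨F.e0_inj a1 F.clt ?_, fun g hg => ?_⟩
    · rw [← a2, show F.e0 F.c = F.p * F.p from F.pp.symm]
      group
    · have hg' : g < 32 := by fin_cases hg <;> norm_num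
      obtain ⟨b1, b2⟩ := F.conj_e0 hg'
      obtain ⟨d1, d2⟩ := F.conj_e0 b1
      refine F.e0_inj (F.m0_lt d1 F.clt) (F.m0_lt F.clt hg') ?_
      rw [← F.mul0 d1 F.clt, ← F.mul0 F.clt hg', ← d2, ← b2, show F.e0 F.c = F.p * F.p from F.pp.symm]
      group
  have h := List.all_eq_true.1 (List.all_eq_true.1 (List.all_eq_true.1 valid_ok F.b
    (List.mem_range.2 F.base.hb)) F.Y (List.mem_range.2 F.Ylt)) F.X (List.mem_range.2 F.Xlt)
  rw [hYX, Bool.not_true, Bool.false_or] at h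
  have h' := List.all_eq_true.1 h F.c (List.mem_range.2 F.clt)
  rw [hC, Bool.not_true, Bool.false_or, List.any_eq_true] at h'
  obtain ⟨q, hq, hqe⟩ := h'
  simp only [Bool.and_eq_true, Nat.beq_eq, beq_iff_eq] at hqe
  refine ⟨q, hq, hqe.1.1, hqe.1.2, fun u hu => ?_⟩
  rw [hqe.2, List.getD_eq_getElem _ _ (by simpa using hu)]
  simp

variable {q : Nat × Nat × List Nat × List Nat}

/-- The table belongs to the frame. -/
def Fits (q : Nat × Nat × List Nat × List Nat) : Prop :=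
  q.1 = F.b ∧ q.2.1 = F.c ∧ ∀ u < 32, q.2.2.1.getD u 0 = img F.b F.Y F.X u

theorem M_spec (hq : F.Fits q) {u v : ℕ} (hu : u < 64) (hv : v < 64) :
    M q u v < 64 ∧ F.e u * F.e v = F.e (M q u v) := by
  obtain ⟨hb, hc, hphi⟩ := hq
  have hu' : u % 32 < 32 := Nat.mod_lt _ (by norm_num)
  have hv' : v % 32 < 32 := Nat.mod_lt _ (by norm_num)
  obtain ⟨i1, i2⟩ := F.conj_e0 hv'
  have hr1 := F.m0_lt hu' hv'
  have hr2 := F.m0_lt hu' i1
  have hr3 := F.m0_lt hr2 F.clt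
  have step : ∀ g : G, F.p * (F.e0 (v % 32) * g) = F.e0 (img F.b F.Y F.X (v % 32)) * (F.p * g) := fun g => by
    rw [← i2]; group
  unfold M
  rw [hb, hc, hphi _ hv']
  rcases (show u / 32 = 0 ∨ u / 32 = 1 by omega) with h1 | h1 <;>
    rcases (show v / 32 = 0 ∨ v / 32 = 1 by omega) with h2 | h2 <;>
      simp only [h1, h2, zero_ne_one, one_ne_zero, decide_true, decide_false, Bool.and_true, Bool.and_false,
        Bool.false_eq_true, if_true, if_false, Nat.reduceAdd, Nat.reduceMod, Nat.reduceMul, add_zero, mul_zero,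
        mul_one]
  · refine ⟨by omega, ?_⟩
    simp only [e, h1, h2, Nat.mod_eq_of_lt hr1, Nat.div_eq_of_lt hr1, pow_zero, mul_one, F.mul0 hu' hv']
  · refine ⟨by omega, ?_⟩
    simp only [e, h1, h2, Nat.add_mod_right, Nat.mod_eq_of_lt hr1, Nat.add_div_right _ (show 0 < 32 by norm_num),
      Nat.div_eq_of_lt hr1, pow_zero, mul_one, pow_one, zero_add, ← mul_assoc, F.mul0 hu' hv']
  · refine ⟨by omega, ?_⟩
    simp only [e, h1, h2, Nat.add_mod_right, Nat.mod_eq_of_lt hr2, Nat.add_div_right _ (show 0 < 32 by norm_num),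
      Nat.div_eq_of_lt hr2, pow_zero, pow_one, mul_one, zero_add]
    rw [mul_assoc, show F.p * F.e0 (v % 32) = F.e0 (img F.b F.Y F.X (v % 32)) * F.p by rw [← i2]; group,
      ← mul_assoc, F.mul0 hu' i1]
  · refine ⟨by omega, ?_⟩
    simp only [e, h1, h2, Nat.mod_eq_of_lt hr3, Nat.div_eq_of_lt hr3, pow_zero, pow_one, mul_assoc, step, mul_one]
    rw [show F.p * F.p = F.e0 F.c from F.pp, ← mul_assoc, F.mul0 hu' i1, F.mul0 hr2 F.clt]

theorem e_zero : F.e 0 = 1 := by simp [e, F.e0_zero]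

theorem e_inj {u v : ℕ} (hu : u < 64) (hv : v < 64) (h : F.e u = F.e v) : u = v := by
  have hu' : u % 32 < 32 := Nat.mod_lt _ (by norm_num)
  have hv' : v % 32 < 32 := Nat.mod_lt _ (by norm_num)
  have key : ∀ a a', a < 32 → a' < 32 → F.e0 a * F.p ≠ F.e0 a' := by
    intro a a' ha ha' h
    obtain ⟨w, hw, hwa⟩ : ∃ w < 32, m0 F.b w a = 0 :=
      (show ∀ b < 2, ∀ v < 32, ∃ w < 32, m0 b w v = 0 by decide +kernel) _ F.base.hb a ha
    refine F.p_not _ (F.m0_lt hw ha') ?_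
    show F.e0 _ = _
    rw [← F.mul0 hw ha', ← h, ← mul_assoc, F.mul0 hw ha, hwa, F.e0_zero, one_mul]
  rcases (show u / 32 = 0 ∨ u / 32 = 1 by omega) with h1 | h1 <;>
    rcases (show v / 32 = 0 ∨ v / 32 = 1 by omega) with h2 | h2 <;>
      simp only [e, h1, h2, pow_zero, pow_one, mul_one] at h
  · have := F.e0_inj hu' hv' h; omega
  · exact absurd h.symm (key _ _ hv' hu')
  · exact absurd h (key _ _ hu' hv')
  · have := F.e0_inj hu' hv' (mul_right_cancel h); omega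

theorem surj {g : G} (hg : g ∈ P) : ∃ u < 64, F.e u = g := by
  classical
  haveI : Finite P := Nat.finite_of_card_ne_zero (by rw [F.card]; norm_num)
  let φ : Fin 64 → P := fun u => ⟨F.e u, F.mem u⟩
  have hφ : Function.Bijective φ :=
    (Nat.bijective_iff_injective_and_card φ).2
      ⟨fun a b h => Fin.ext (F.e_inj a.2 b.2 (congrArg Subtype.val h)), by rw [F.card, Nat.card_fin]⟩
  obtain ⟨u, hu⟩ := hφ.2 ⟨g, hg⟩
  exact ⟨u, u.2, congrArg Subtype.val hu⟩

theorem commute_iff (hq : F.Fits q) {u v : ℕ} (hu : u < 64) (hv : v < 64) :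
    F.e u * F.e v = F.e v * F.e u ↔ M q u v = M q v u := by
  rw [(F.M_spec hq hu hv).2, (F.M_spec hq hv hu).2]
  exact ⟨fun h => F.e_inj (F.M_spec hq hu hv).1 (F.M_spec hq hv hu).1 h, fun h => by rw [h]⟩

end Frame

theorem exists_pow_lt [Finite G] {f g : G} (hf : orderOf f = 8) (hg : g ∈ zpowers f) : ∃ a < 8, f ^ a = g := by
  classical
  have h := (mem_zpowers_iff_mem_range_orderOf (x := f)).1 hg
  rw [hf] at h
  simpa [Finset.mem_image] using h

/-- The hypotheses give coordinates, the central involution being the fourth power. -/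
theorem exists_frame [Finite G] {P : Subgroup G} (hP : IsPGroup 2 P) (hcard : Nat.card P = 64) {f : G}
    (hfP : f ∈ P) (hf : orderOf f = 8) (hself : ∀ g ∈ P, g * f = f * g → g ∈ zpowers f)
    (hodd : ∀ k ∈ ({3, 5, 7} : Set ℕ), ∃ g ∈ P, g * f * g⁻¹ = f ^ k) :
    ∃ F : Frame P, F.f = f := by
  classical
  haveI : Fact (Nat.Prime 2) := ⟨Nat.prime_two⟩
  have hf8 : f ^ 8 = 1 := by rw [← hf, pow_orderOf_eq_one]
  have inj8 : ∀ a b : ℕ, f ^ a = f ^ b → a % 8 = b % 8 := fun a b h => by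
    have := pow_eq_pow_iff_modEq.1 h
    rwa [hf] at this
  have comm_pow : ∀ {g : G}, g ∈ P → g * f = f * g → ∃ a < 8, f ^ a = g := fun hg h =>
    exists_pow_lt hf (hself _ hg h)
  have npow : ∀ {g : G} {i : ℕ}, g * f * g⁻¹ = f ^ i → ∀ n, g * f ^ n * g⁻¹ = f ^ (i * n) := fun h n => by
    rw [← conj_pow, h, pow_mul]
  let N : Subgroup G :=
    { carrier := {g | g ∈ P ∧ ∃ i, g * f * g⁻¹ = f ^ i}
      one_mem' := ⟨one_mem _, 1, by simp⟩
      mul_mem' := by
        rintro a c ⟨ha, i, hi⟩ ⟨hc, j, hj⟩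
        refine ⟨mul_mem ha hc, i * j, ?_⟩
        rw [show a * c * f * (a * c)⁻¹ = a * (c * f * c⁻¹) * a⁻¹ by group, hj, npow hi]
      inv_mem' := by
        rintro a ⟨ha, i, hi⟩
        have hmem : ∀ n : ℕ, ∃ j, (a ^ n) * f * (a ^ n)⁻¹ = f ^ j := fun n => by
          induction n with
          | zero => exact ⟨1, by simp⟩
          | succ n ih =>
            obtain ⟨j, hj⟩ := ih
            exact ⟨i * j, by rw [pow_succ', show a * a ^ n * f * (a * a ^ n)⁻¹ = a * (a ^ n * f * (a ^ n)⁻¹) * a⁻¹ by group, hj, npow hi]⟩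
        obtain ⟨j, hj⟩ := hmem (orderOf a - 1)
        have e : a ^ (orderOf a - 1) = a⁻¹ := by
          refine (inv_eq_of_mul_eq_one_right ?_).symm
          rw [← pow_succ', show orderOf a - 1 + 1 = orderOf a by have := orderOf_pos a; omega, pow_orderOf_eq_one]
        exact ⟨inv_mem ha, j, by rw [← e]; exact hj⟩ }
  have hNle : N ≤ P := fun g hg => hg.1
  have hfN : f ∈ N := ⟨hfP, 1, by simp⟩
  obtain ⟨x3, hx3P, hx3⟩ := hodd 3 (by simp)
  obtain ⟨x5, hx5P, hx5⟩ := hodd 5 (by simp)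
  obtain ⟨x7, hx7P, hx7⟩ := hodd 7 (by simp)
  let rep : Fin 4 → G := ![1, x3, x5, x7]
  have hrep : ∀ g ∈ N, ∃ a : Fin 8, ∃ r : Fin 4, g = f ^ (a : ℕ) * rep r := by
    rintro g ⟨hgP, i, hi⟩
    have hodd' : i % 8 = 1 ∨ i % 8 = 3 ∨ i % 8 = 5 ∨ i % 8 = 7 := by
      have h := congrArg orderOf hi
      rw [show orderOf (g * f * g⁻¹) = orderOf f from CfsgLib.Invol.orderOf_conj_eq g f, hf, orderOf_pow, hf] at h
      rcases Nat.even_or_odd i with ⟨j, rfl⟩ | ⟨j, rfl⟩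
      · exfalso
        have h2 : 2 ∣ Nat.gcd 8 (j + j) := Nat.dvd_gcd (by norm_num) ⟨j, by ring⟩
        have h8 := Nat.div_mul_cancel (Nat.gcd_dvd_left 8 (j + j))
        rw [← h] at h8
        omega
      · omega
    have fin : ∀ (r : Fin 4) (k : ℕ), rep r ∈ P → rep r * f * (rep r)⁻¹ = f ^ k → i % 8 = k % 8 →
        ∃ a : Fin 8, ∃ r : Fin 4, g = f ^ (a : ℕ) * rep r := by
      intro r k hr hk hik
      have e : g * f * g⁻¹ = rep r * f * (rep r)⁻¹ := by rw [hi, hk, pow_of_mod hf8 hik]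
      obtain ⟨a, ha, hae⟩ := comm_pow (mul_mem (inv_mem hr) hgP) (by
        calc (rep r)⁻¹ * g * f = (rep r)⁻¹ * (g * f * g⁻¹) * g := by group
          _ = f * ((rep r)⁻¹ * g) := by rw [e]; group)
      refine ⟨⟨k * a % 8, Nat.mod_lt _ (by norm_num)⟩, r, ?_⟩
      show g = f ^ (k * a % 8) * rep r
      rw [← pow_eq_pow_mod _ hf8, ← npow hk, hae]
      group
    rcases hodd' with h | h | h | h
    · exact fin 0 1 (one_mem _) (by simp [rep]) (by omega)
    · exact fin 1 3 hx3P hx3 (by omega)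
    · exact fin 2 5 hx5P hx5 (by omega)
    · exact fin 3 7 hx7P hx7 (by omega)
  have hNne : N ≠ P := by
    intro e
    have hsurj : ∀ g : P, ∃ ar : Fin 8 × Fin 4, (g : G) = f ^ (ar.1 : ℕ) * rep ar.2 := fun g => by
      obtain ⟨a, r, h⟩ := hrep g (by rw [e]; exact g.2)
      exact ⟨(a, r), h⟩
    choose φ hφ using hsurj
    have := Nat.card_le_card_of_injective φ fun a b h => Subtype.ext (by rw [hφ a, hφ b, h])
    simp [hcard, Nat.card_prod] at this
  obtain ⟨p0, hp0P, hp0N, hp0⟩ := CfsgLib.M12U.exists_normalizer_gt hP hNle hNne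
  obtain ⟨x, hxP, hx, hx2⟩ : ∃ x ∈ P, x * f * x⁻¹ = f ^ 3 ∧ x * x = 1 := by
    have hsq : x3 * x3 * f = f * (x3 * x3) := mul_inv_eq_iff_eq_mul.1 (by
      calc x3 * x3 * f * (x3 * x3)⁻¹ = x3 * (x3 * f * x3⁻¹) * x3⁻¹ := by group
        _ = f := by rw [hx3, npow hx3, pow_of_mod hf8 (show 3 * 3 % 8 = 1 % 8 by norm_num), pow_one])
    obtain ⟨a, ha, hae⟩ := comm_pow (mul_mem hx3P hx3P) hsq
    have h3a : 3 * a % 8 = a % 8 := inj8 _ _ (by rw [← npow hx3, hae]; group)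
    rcases (show a = 0 ∨ a = 4 by omega) with rfl | rfl
    · exact ⟨x3, hx3P, hx3, by rw [← hae, pow_zero]⟩
    · refine ⟨x3 * f, mul_mem hx3P hfP, ?_, ?_⟩
      · rw [show x3 * f * f * (x3 * f)⁻¹ = x3 * f * x3⁻¹ by group, hx3]
      · calc x3 * f * (x3 * f) = (x3 * f * x3⁻¹) * (x3 * x3) * f := by group
          _ = f ^ (3 + 4) * f := by rw [hx3, ← hae, ← pow_add]
          _ = 1 := by rw [← pow_succ, hf8]
  have hxN : x ∈ N := ⟨hxP, 3, hx⟩
  obtain ⟨p, hpP, hpN, hpnorm, hp2⟩ : ∃ p ∈ P, p ∉ N ∧ (∀ v, v ∈ N → p * v * p⁻¹ ∈ N) ∧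
      p * f ^ 2 * p⁻¹ = f ^ 2 := by
    set h := p0 * f * p0⁻¹ with hh
    have hhN : h ∈ N := (hp0 f).1 hfN
    obtain ⟨i, hi⟩ := hhN.2
    have hsq : h * h * f = f * (h * h) := by
      obtain ⟨a, r, hr⟩ := hrep h hhN
      refine mul_inv_eq_iff_eq_mul.1 ?_
      have hii : i * i % 8 = 1 % 8 := by
        have h1 : i % 8 = 1 ∨ i % 8 = 3 ∨ i % 8 = 5 ∨ i % 8 = 7 := by
          have hk : ∀ k : ℕ, rep r * f * (rep r)⁻¹ = f ^ k → i % 8 = k % 8 := fun k hk => inj8 _ _ (by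
            rw [← hi, hr, show f ^ (a : ℕ) * rep r * f * (f ^ (a : ℕ) * rep r)⁻¹ =
              f ^ (a : ℕ) * (rep r * f * (rep r)⁻¹) * (f ^ (a : ℕ))⁻¹ by group, hk]
            group)
          fin_cases r
          · exact Or.inl (hk 1 (by simp [rep]))
          · exact Or.inr (Or.inl (hk 3 hx3))
          · exact Or.inr (Or.inr (Or.inl (hk 5 hx5)))
          · exact Or.inr (Or.inr (Or.inr (hk 7 hx7)))
        rw [Nat.mul_mod]
        rcases h1 with e | e | e | e <;> rw [e]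
      calc h * h * f * (h * h)⁻¹ = h * (h * f * h⁻¹) * h⁻¹ := by group
        _ = f := by rw [hi, npow hi, pow_of_mod hf8 hii, pow_one]
    obtain ⟨a, ha, hae⟩ := comm_pow (mul_mem hhN.1 hhN.1) hsq
    have hh2 : p0 * f ^ 2 * p0⁻¹ = f ^ a := by rw [hae, hh, pow_two]; group
    have h2a : 2 * a % 8 = 4 := by
      have h4 : orderOf (f ^ a) = 4 := by
        rw [← hh2, CfsgLib.Invol.orderOf_conj_eq, orderOf_pow, hf]
        norm_num
      rw [orderOf_pow, hf] at h4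
      have := Nat.gcd_dvd_left 8 a
      revert h4
      interval_cases a <;> norm_num
    rcases (show a = 2 ∨ a = 6 by omega) with rfl | rfl
    · exact ⟨p0, hp0P, hp0N, fun v hv => (hp0 v).1 hv, hh2⟩
    · refine ⟨x * p0, mul_mem hxP hp0P, fun e => hp0N ?_, fun v hv => ?_, ?_⟩
      · have := mul_mem (inv_mem hxN) e
        rwa [inv_mul_cancel_left] at this
      · rw [show x * p0 * v * (x * p0)⁻¹ = x * (p0 * v * p0⁻¹) * x⁻¹ by group]
        exact mul_mem (mul_mem hxN ((hp0 v).1 hv)) (inv_mem hxN)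
      · rw [show x * p0 * f ^ 2 * (x * p0)⁻¹ = x * (p0 * f ^ 2 * p0⁻¹) * x⁻¹ by group, hh2, npow hx]
        exact pow_of_mod hf8 (by norm_num)
  set h := p * f * p⁻¹ with hh
  have hhN : h ∈ N := hpnorm f hfN
  have hhh : h * h = f ^ 2 := by rw [← hp2, hh, pow_two]; group
  obtain ⟨i, hi⟩ := hhN.2
  have hi5 : h * f * h⁻¹ = f ^ 5 := by
    have h2i : i * 2 % 8 = 2 % 8 := inj8 _ _ (by rw [← npow hi, ← hhh]; group)
    have hne : i % 8 ≠ 1 := fun e => hpN ⟨hpP, by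
      obtain ⟨a, -, hae⟩ := comm_pow hhN.1 (mul_inv_eq_iff_eq_mul.1 (by
        rw [hi, pow_of_mod hf8 (show i % 8 = 1 % 8 by omega), pow_one]))
      exact ⟨a, hae.symm⟩⟩
    rw [hi]
    exact pow_of_mod hf8 (by omega)
  obtain ⟨y, hy⟩ : ∃ y, y = f * h := ⟨_, rfl⟩
  have hyP : y ∈ P := hy ▸ mul_mem hfP hhN.1
  have hy2 : y * y = 1 := by
    rw [hy]
    calc f * h * (f * h) = f * (h * f * h⁻¹) * (h * h) := by group
      _ = f ^ (1 + 5 + 2) := by rw [hi5, hhh, pow_add, pow_add, pow_one]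
      _ = 1 := hf8
  have hyf : y * f * y⁻¹ = f ^ 5 := by
    rw [hy]
    calc f * h * f * (f * h)⁻¹ = f * (h * f * h⁻¹) * f⁻¹ := by group
      _ = f ^ 5 := by rw [hi5]; group
  have hyN : y ∈ N := ⟨hyP, 5, hyf⟩
  obtain ⟨b, hb, hxy⟩ : ∃ b < 2, x * y = f ^ (4 * b) * (y * x) := by
    have hxi : x⁻¹ = x := inv_eq_of_mul_eq_one_right hx2
    have hyi : y⁻¹ = y := inv_eq_of_mul_eq_one_right hy2
    set w := x * y * x⁻¹ with hw
    have hwf : w * f * w⁻¹ = f ^ 5 := by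
      have hxinv : x⁻¹ * f * (x⁻¹)⁻¹ = f ^ 3 := by rw [hxi]; simpa [hxi] using hx
      calc w * f * w⁻¹ = x * (y * (x⁻¹ * f * (x⁻¹)⁻¹) * y⁻¹) * x⁻¹ := by rw [hw]; group
        _ = f ^ 5 := by
          rw [hxinv, npow hyf, npow hx]
          exact pow_of_mod hf8 (by norm_num)
    have hw2 : w * w = 1 := by rw [hw, conj_mul, hy2]; group
    obtain ⟨a, ha, hae⟩ := comm_pow (g := w * y⁻¹) (mul_mem (mul_mem (mul_mem hxP hyP) (inv_mem hxP)) (inv_mem hyP))
      (mul_inv_eq_iff_eq_mul.1 (by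
        have hyi' : y⁻¹ * f * (y⁻¹)⁻¹ = f ^ 5 := by rw [hyi]; simpa [hyi] using hyf
        calc w * y⁻¹ * f * (w * y⁻¹)⁻¹ = w * (y⁻¹ * f * (y⁻¹)⁻¹) * w⁻¹ := by group
          _ = f := by rw [hyi', npow hwf, pow_of_mod hf8 (show 5 * 5 % 8 = 1 % 8 by norm_num), pow_one]))
    have hwy : w = f ^ a * y := by rw [hae, inv_mul_cancel_right]
    have h6 : (a + 5 * a) % 8 = 0 % 8 := inj8 _ _ (by
      rw [pow_add, ← npow hyf, pow_zero, ← hw2, hwy]
      calc f ^ a * (y * f ^ a * y⁻¹) = f ^ a * y * (f ^ a * y⁻¹) := by group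
        _ = f ^ a * y * (f ^ a * y) := by rw [hyi])
    have hxy' : x * y = f ^ a * (y * x) := by
      rw [← mul_assoc, ← hwy, hw, inv_mul_cancel_right]
    rcases (show a = 0 ∨ a = 4 by omega) with rfl | rfl
    · exact ⟨0, by norm_num, hxy'⟩
    · exact ⟨1, by norm_num, hxy'⟩
  have B : Base b f y x := ⟨hb, hf8, hy2, hx2, mul_inv_eq_iff_eq_mul.1 hyf, mul_inv_eq_iff_eq_mul.1 hx, hxy⟩
  have hmemN : ∀ u, el0 f y x u ∈ N := fun u =>
    mul_mem (pow_mem hfN _) (mul_mem (pow_mem hyN _) (pow_mem hxN _))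
  have act : ∀ u < 32, el0 f y x u * f * (el0 f y x u)⁻¹ = f ^ (5 ^ (u / 8 % 2) * 3 ^ (u / 16)) := by
    intro u hu
    have hyj : ∀ j < 2, ∀ n, y ^ j * f ^ n * (y ^ j)⁻¹ = f ^ (5 ^ j * n) := fun j hj n => by
      interval_cases j
      · simp
      · simpa using npow hyf n
    have hxk : ∀ k < 2, x ^ k * f * (x ^ k)⁻¹ = f ^ (3 ^ k) := fun k hk => by
      interval_cases k
      · simp
      · simpa using hx
    unfold el0
    rw [show f ^ (u % 8) * (y ^ (u / 8 % 2) * x ^ (u / 16)) * f *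
        (f ^ (u % 8) * (y ^ (u / 8 % 2) * x ^ (u / 16)))⁻¹ =
      f ^ (u % 8) * (y ^ (u / 8 % 2) * (x ^ (u / 16) * f * (x ^ (u / 16))⁻¹) * (y ^ (u / 8 % 2))⁻¹) *
        (f ^ (u % 8))⁻¹ by group,
      hxk _ (by omega), hyj _ (Nat.mod_lt _ (by norm_num))]
    first
      | done
      | group
  have he1 : ∀ u < 32, el0 f y x u = 1 → u = 0 := by
    intro u hu h1
    have h2 := act u hu
    rw [h1, one_mul, inv_one, mul_one] at h2
    have h3 := inj8 1 (5 ^ (u / 8 % 2) * 3 ^ (u / 16)) (by rw [pow_one]; exact h2)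
    have hj : u / 8 % 2 = 0 ∧ u / 16 = 0 := by
      rcases (show u / 8 % 2 = 0 ∨ u / 8 % 2 = 1 by omega) with e | e <;>
        rcases (show u / 16 = 0 ∨ u / 16 = 1 by omega) with e' | e' <;>
        rw [e, e'] at h3 <;> first | exact ⟨e, e'⟩ | (norm_num at h3)
    rw [el0, hj.1, hj.2, pow_zero, pow_zero, mul_one, mul_one] at h1
    have := inj8 (u % 8) 0 (by rw [pow_zero]; exact h1)
    omega
  have hcover : ∀ g ∈ N, ∃ u < 32, el0 f y x u = g := by
    intro g hg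
    have hsurj : ∀ g : N, ∃ ar : Fin 8 × Fin 4, (g : G) = f ^ (ar.1 : ℕ) * rep ar.2 := fun g => by
      obtain ⟨a, r, h⟩ := hrep g g.2
      exact ⟨(a, r), h⟩
    choose φ hφ using hsurj
    haveI : Finite N := inferInstance
    have hφi : Function.Injective φ := fun a b h => Subtype.ext (by rw [hφ a, hφ b, h])
    let ψ : Fin 32 → N := fun u => ⟨el0 f y x u, hmemN u⟩
    have hψi : Function.Injective ψ := by
      intro a c h
      have h' : el0 f y x a = el0 f y x c := congrArg Subtype.val h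
      obtain ⟨w, hw, hwc⟩ : ∃ w < 32, m0 b w c = 0 :=
        (show ∀ b < 2, ∀ v < 32, ∃ w < 32, m0 b w v = 0 by decide +kernel) b hb c c.2
      have h1 : m0 b w a = 0 := he1 _ (m0_ok b hb w hw a a.2) (by
        rw [← B.mul hw a.2, h', B.mul hw c.2, hwc]; simp [el0])
      have k : ∀ b < 2, ∀ w < 32, ((List.range 32).map (m0 b w)).Nodup := by decide +kernel
      exact Fin.ext (List.inj_on_of_nodup_map (k b hb w hw) (List.mem_range.2 a.2) (List.mem_range.2 c.2)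
        (h1.trans hwc.symm))
    have hcardN : Nat.card N ≤ Nat.card (Fin 32) := by
      refine (Nat.card_le_card_of_injective φ hφi).trans ?_
      simp [Nat.card_prod]
    have hψ : Function.Bijective ψ := (Nat.bijective_iff_injective_and_card ψ).2
      ⟨hψi, le_antisymm (Nat.card_le_card_of_injective ψ hψi) hcardN⟩
    obtain ⟨u, hu⟩ := hψ.2 ⟨g, hg⟩
    exact ⟨u, u.2, congrArg Subtype.val hu⟩
  obtain ⟨Y, hY, hYe⟩ := hcover _ (hpnorm y hyN)
  obtain ⟨X, hX, hXe⟩ := hcover _ (hpnorm x hxN)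
  have hppN : p * p ∈ N := by
    by_contra hcon
    have hinj : ∀ a c : G, a ∈ N → c ∈ N → ∀ i j : Fin 3,
        a * ![1, p, p * p] i = c * ![1, p, p * p] j → i = j := by
      intro a c ha hc i j h
      have hd : (![1, p, p * p] i) * (![1, p, p * p] j)⁻¹ ∈ N := by
        have : a⁻¹ * c = ![1, p, p * p] i * (![1, p, p * p] j)⁻¹ := by
          calc a⁻¹ * c = a⁻¹ * (c * ![1, p, p * p] j) * (![1, p, p * p] j)⁻¹ := by group
            _ = _ := by rw [← h]; group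
        rw [← this]
        exact mul_mem (inv_mem ha) hc
      fin_cases i <;> fin_cases j <;> simp at hd ⊢ <;>
        first
          | exact hpN hd
          | exact hcon hd
          | exact hpN (by simpa using inv_mem hd)
          | exact hcon (by simpa using inv_mem hd)
    let ψ : Fin 32 × Fin 3 → P := fun ui => ⟨el0 f y x ui.1 * ![1, p, p * p] ui.2, by
      refine mul_mem (hmemN _).1 ?_
      rcases ui with ⟨u, i⟩
      fin_cases i <;> simp [hpP, mul_mem hpP hpP]⟩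
    have hψ : Function.Injective ψ := by
      rintro ⟨a, i⟩ ⟨c, j⟩ h
      have h' : el0 f y x a * ![1, p, p * p] i = el0 f y x c * ![1, p, p * p] j := congrArg Subtype.val h
      obtain rfl := hinj _ _ (hmemN _) (hmemN _) i j h'
      have h'' := mul_right_cancel h'
      obtain ⟨w, hw, hwc⟩ : ∃ w < 32, m0 b w c = 0 :=
        (show ∀ b < 2, ∀ v < 32, ∃ w < 32, m0 b w v = 0 by decide +kernel) b hb c c.2
      have h1 : m0 b w a = 0 := he1 _ (m0_ok b hb w hw a a.2) (by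
        rw [← B.mul hw a.2, h'', B.mul hw c.2, hwc]; simp [el0])
      have k : ∀ b < 2, ∀ w < 32, ((List.range 32).map (m0 b w)).Nodup := by decide +kernel
      rw [Prod.mk.injEq]
      exact ⟨Fin.ext (List.inj_on_of_nodup_map (k b hb w hw) (List.mem_range.2 a.2) (List.mem_range.2 c.2)
        (h1.trans hwc.symm)), rfl⟩
    have := Nat.card_le_card_of_injective ψ hψ
    simp [hcard, Nat.card_prod] at this
  obtain ⟨c, hc, hce⟩ := hcover _ hppN
  refine ⟨⟨b, f, y, x, p, Y, X, c, B, hY, hX, hc, he1, fun u _ e => hpN (e ▸ hmemN u), ?_, hYe.symm,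
    hXe.symm, hce.symm, hfP, hyP, hxP, hpP, hcard⟩, rfl⟩
  show h = f ^ (15 % 8) * (y ^ (15 / 8 % 2) * x ^ (15 / 16))
  simp only [Nat.reduceMod, Nat.reduceDiv, pow_one, pow_zero, mul_one, hy]
  rw [← mul_assoc, ← pow_succ, hf8, one_mul]

end CfsgLib.M12Type.Eight
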