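import Cfsg.Agent.M12Type.Local

/-!
An element of the centraliser of the central involution which normalises the subgroup of equal
parities and fixes a non-trivial coset of the centre has its fourth power fixing every coset.
-/

set_option autoImplicit false
set_option linter.unusedSectionVars false

namespace CfsgLib.M12Type

open Subgroup CfsgLib.GTwoFusion

universe u

theorem cnList_mem {x : Nat} (h : x ∈ cnList) : x < 64 ∧ qCode x = true ∧ cn x = x := by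
  simpa [cnList, and_assoc] using h

theorem cn_mem {x : Nat} (hx : x < 64) (hq : qCode x = true) : cn x ∈ cnList :=
  List.contains_iff_mem.1 (cn_ok.2.2.2 x hx hq).1

namespace Setup

variable {G : Type u} [Group G] [Finite G] [IsSimpleGroup G] {P : Sylow 2 G} (S : Setup P)

theorem cls_conj {g : G} (hg : g ∈ S.C) {x y : Nat} (hx : x < 64) (hy : y < 64)
    (h : g * S.el x * g⁻¹ = S.el y) : cls S.r y = cls S.r x := by
  have e := S.sig_conj hg hx hy h
  simp only [sig, Prod.mk.injEq] at e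
  have hxy : IsConj (S.el x) (S.el y) := isConj_iff.2 ⟨g, h⟩
  have e1 : isInv y = isInv x := by
    rw [Bool.eq_iff_iff, S.isInv_iff hy, S.isInv_iff hx, ← h, Invol.orderOf_conj_eq]
  have e2 : sCode S.r y = sCode S.r x := by
    rw [Bool.eq_iff_iff, ← S.isConj_s_iff hy, ← S.isConj_s_iff hx]
    exact ⟨fun h => h.trans hxy.symm, fun h => h.trans hxy⟩
  unfold cls
  rw [e.1, e.2.1, e1, e2]

/-- Two codes in the same coset of the centre. -/
theorem cn_eq_iff {x y : Nat} (hx : x < 64) (hqx : qCode x = true) (hy : y < 64) (hqy : qCode y = true) :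
    cn x = cn y ↔ S.el y = S.el x ∨ S.el y = S.el x * S.z := by
  have hz0 : S.el 10 * S.el 10 = 1 := by rw [S.el_z, ← pow_two, ← S.orderOf_z, pow_orderOf_eq_one]
  obtain ⟨-, -, -, hcn⟩ := cn_ok
  constructor
  · intro h
    have key : ∀ {x}, x < 64 → qCode x = true → S.el x = S.el (cn x) ∨ S.el x = S.el (cn x) * S.z :=
      fun {x} hx hq => by
        rcases (hcn x hx hq).2.1 with e | e
        · exact Or.inl (congrArg S.el e)
        · exact Or.inr (by rw [← S.el_z, S.el_mul, ← e])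
    rcases key hx hqx with e | e <;> rcases key hy hqy with e' | e' <;> rw [e, e', h]
    · exact Or.inl rfl
    · exact Or.inr rfl
    · exact Or.inr (by rw [← S.el_z, mul_assoc, hz0, mul_one])
    · exact Or.inl rfl
  · rintro (h | h)
    · rw [S.el_inj hy hx h]
    · rw [← S.el_z, S.el_mul] at h
      rw [S.el_inj hy (m_ok x hx 10 (by norm_num)) h, (hcn x hx hqx).2.2.1]

theorem four_fix {g : G} (hg : g ∈ S.C) (hQ : ∀ q ∈ S.Q, g * q * g⁻¹ ∈ S.Q) {e : Nat} (he : e < 64)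
    (hqe : qCode e = true) (he0 : cn e ≠ 0)
    (hfix : g * S.el e * g⁻¹ = S.el e ∨ g * S.el e * g⁻¹ = S.el e * S.z) :
    ∀ q ∈ S.Q, g ^ 4 * q * (g ^ 4)⁻¹ = q ∨ g ^ 4 * q * (g ^ 4)⁻¹ = q * S.z := by
  have key : ∀ x, ∃ y, ∀ (_ : x < 64) (_ : qCode x = true),
      y < 64 ∧ qCode y = true ∧ g * S.el x * g⁻¹ = S.el y := by
    intro x
    by_cases h : x < 64 ∧ qCode x = true
    · obtain ⟨y, hy, hqy, e'⟩ := hQ (S.el x) ((S.el_mem_Q_iff h.1).2 h.2)
      exact ⟨y, fun _ _ => ⟨hy, hqy, e'.symm⟩⟩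
    · exact ⟨0, fun hx hq => absurd ⟨hx, hq⟩ h⟩
  choose f hf using key
  set φ : Nat → Nat := fun x => cn (f x) with hφdef
  have fmul : ∀ {x y}, x < 64 → qCode x = true → y < 64 → qCode y = true →
      f (m x y) = m (f x) (f y) := fun {x y} hx hqx hy hqy => by
    obtain ⟨a1, -, a3⟩ := hf x hx hqx
    obtain ⟨b1, -, b3⟩ := hf y hy hqy
    obtain ⟨d1, -, d3⟩ := hf _ (m_ok x hx y hy) ((qCode_ok.2.2.2 x hx hqx).2.2.1 y hy hqy)
    refine S.el_inj d1 (m_ok _ a1 _ b1) ?_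
    rw [← d3, ← S.el_mul (f x), ← S.el_mul x, ← a3, ← b3, conj_mul]
  have φmul : ∀ {x y}, x < 64 → qCode x = true → y < 64 → qCode y = true →
      φ (m x y) = cn (m (φ x) (φ y)) := fun {x y} hx hqx hy hqy => by
    obtain ⟨a1, a2, -⟩ := hf x hx hqx
    obtain ⟨b1, b2, -⟩ := hf y hy hqy
    show cn (f (m x y)) = _
    rw [fmul hx hqx hy hqy, (cn_ok.2.2.2 _ a1 a2).2.2.2 _ b1 b2]
  have φmem : ∀ {x}, x < 64 → qCode x = true → φ x ∈ cnList := fun hx hq => by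
    obtain ⟨a1, a2, -⟩ := hf _ hx hq
    exact cn_mem a1 a2
  have φzero : φ 0 = 0 := by
    obtain ⟨a1, -, a3⟩ := hf 0 (by norm_num) qCode_ok.1
    rw [S.el_zero, mul_one, mul_inv_cancel, eq_comm, S.el_eq_one_iff a1] at a3
    show cn (f 0) = 0
    rw [a3, cn_ok.2.2.1]
  have φcn : ∀ {x}, x < 64 → qCode x = true → φ x = φ (cn x) := fun {x} hx hq => by
    obtain ⟨a1, a2, a3⟩ := hf x hx hq
    obtain ⟨hc1, hc2, hc3⟩ := cnList_mem (cn_mem hx hq)
    obtain ⟨b1, b2, b3⟩ := hf _ hc1 hc2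
    refine (S.cn_eq_iff a1 a2 b1 b2).2 ?_
    rcases (S.cn_eq_iff hx hq hc1 hc2).1 hc3.symm with h | h
    · exact Or.inl (by rw [← b3, ← a3, h])
    · refine Or.inr ?_
      rw [← b3, ← a3, h, ← conj_mul, S.mem_C.1 hg, mul_inv_cancel_right]
  have φcls : ∀ x ∈ cnList, cls S.r (φ x) = cls S.r x := fun x hx => by
    obtain ⟨h1, h2, -⟩ := cnList_mem hx
    obtain ⟨a1, a2, a3⟩ := hf x h1 h2
    rw [← S.cls_conj hg h1 a1 a3]
    show cls S.r (cn (f x)) = cls S.r (f x)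
    rcases (cn_ok.2.2.2 _ a1 a2).2.1 with e' | e'
    · rw [← e']
    · have hc := cnList_mem (cn_mem a1 a2)
      conv_rhs => rw [e', cls_ok S.r _ hc.1 hc.2.1]
  obtain ⟨g5, g2, g16, g32⟩ : φ 5 ∈ cand S.r 5 ∧ φ 2 ∈ cand S.r 2 ∧ φ 16 ∈ cand S.r 16 ∧ φ 32 ∈ cand S.r 32 := by
    obtain ⟨-, c5, c2, c16, c32⟩ := ev4_ok
    have mk : ∀ x, x < 64 → qCode x = true → cn x = x → φ x ∈ cand S.r x := fun x hx hq hc =>
      List.mem_filter.2 ⟨φmem hx hq, beq_iff_eq.2 (φcls x (hc ▸ cn_mem hx hq))⟩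
    exact ⟨mk 5 (by norm_num) (by decide) c5, mk 2 (by norm_num) (by decide) c2,
      mk 16 (by norm_num) (by decide) c16, mk 32 (by norm_num) (by decide) c32⟩
  have happ : ∀ x ∈ cnList, app (φ 5) (φ 2) (φ 16) (φ 32) x = φ x := by
    intro x hx
    obtain ⟨-, hidx⟩ := idx_ok x hx
    conv_rhs => rw [← hidx]
    unfold app
    generalize idx x = n
    have hs : ∀ i a, a < 64 → qCode a = true →
        sel n i a < 64 ∧ qCode (sel n i a) = true ∧ φ (sel n i a) = sel n i (φ a) := by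
      intro i a ha hqa
      unfold sel
      split_ifs
      · exact ⟨ha, hqa, rfl⟩
      · exact ⟨by norm_num, qCode_ok.1, φzero⟩
    obtain ⟨p1, q1, r1⟩ := hs 0 5 (by norm_num) (by decide)
    obtain ⟨p2, q2, r2⟩ := hs 1 2 (by norm_num) (by decide)
    obtain ⟨p3, q3, r3⟩ := hs 2 16 (by norm_num) (by decide)
    obtain ⟨p4, q4, r4⟩ := hs 3 32 (by norm_num) (by decide)
    have p12 := m_ok _ p1 _ p2
    have q12 := (qCode_ok.2.2.2 _ p1 q1).2.2.1 _ p2 q2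
    have p123 := m_ok _ p12 _ p3
    have q123 := (qCode_ok.2.2.2 _ p12 q12).2.2.1 _ p3 q3
    have p1234 := m_ok _ p123 _ p4
    have q1234 := (qCode_ok.2.2.2 _ p123 q123).2.2.1 _ p4 q4
    obtain ⟨b1, c1, -⟩ := cnList_mem (φmem p1 q1)
    obtain ⟨b2, c2, -⟩ := cnList_mem (φmem p2 q2)
    obtain ⟨b3, c3, -⟩ := cnList_mem (φmem p3 q3)
    obtain ⟨b4, c4, -⟩ := cnList_mem (φmem p4 q4)
    have b12 := m_ok _ b1 _ b2
    have c12 := (qCode_ok.2.2.2 _ b1 c1).2.2.1 _ b2 c2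
    have b123 := m_ok _ b12 _ b3
    have c123 := (qCode_ok.2.2.2 _ b12 c12).2.2.1 _ b3 c3
    have step : ∀ {u v}, u < 64 → qCode u = true → v < 64 → qCode v = true →
        cn (m (cn u) (φ v)) = cn (m u (φ v)) := fun {u v} hu hqu hv hqv => by
      obtain ⟨d1, d2, d3⟩ := cnList_mem (φmem hv hqv)
      conv_rhs => rw [(cn_ok.2.2.2 u hu hqu).2.2.2 _ d1 d2, d3]
    have step2 : ∀ {u v}, u < 64 → qCode u = true → v < 64 → qCode v = true →
        cn (m (cn u) v) = cn (m u v) := fun {u v} hu hqu hv hqv => by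
      obtain ⟨d1, d2, d3⟩ := cnList_mem (cn_mem hu hqu)
      rw [(cn_ok.2.2.2 u hu hqu).2.2.2 _ hv hqv, (cn_ok.2.2.2 _ d1 d2).2.2.2 _ hv hqv, d3]
    show _ = φ (ev4 5 2 16 32 n)
    unfold ev4
    rw [← φcn p1234 q1234, φmul p123 q123 p4 q4, φmul p12 q12 p3 q3, φmul p1 q1 p2 q2,
      ← r1, ← r2, ← r3, ← r4, step b12 c12 p3 q3, step b123 c123 p4 q4]
  have hφl : ∀ x ∈ cnList, φ x ∈ cnList := fun x hx => φmem (cnList_mem hx).1 (cnList_mem hx).2.1
  have hall : ∀ x ∈ cnList, φ (φ (φ (φ x))) = x := by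
    have h := aut_ok S.r _ g5 _ g2 _ g16 _ g32 (by
      rw [Bool.and_eq_true, List.all_eq_true, List.any_eq_true]
      refine ⟨fun x hx => by rw [happ x hx, beq_iff_eq]; exact φcls x hx, cn e, cn_mem he hqe, ?_⟩
      rw [Bool.and_eq_true, bne_iff_ne, beq_iff_eq, happ _ (cn_mem he hqe)]
      refine ⟨he0, ?_⟩
      obtain ⟨a1, a2, a3⟩ := hf e he hqe
      rw [← φcn he hqe]
      exact ((S.cn_eq_iff he hqe a1 a2).2 (by rwa [← a3])).symm)
    intro x hx
    have h' := beq_iff_eq.1 (List.all_eq_true.1 h x hx)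
    rwa [happ x hx, happ _ (hφl x hx), happ _ (hφl _ (hφl x hx)),
      happ _ (hφl _ (hφl _ (hφl x hx)))] at h'
  intro q hq
  obtain ⟨x, hx, hqx, rfl⟩ := hq
  obtain ⟨a1, a2, a3⟩ := hf x hx hqx
  obtain ⟨b1, b2, b3⟩ := hf _ a1 a2
  obtain ⟨c1, c2, c3⟩ := hf _ b1 b2
  obtain ⟨d1, d2, d3⟩ := hf _ c1 c2
  have e4 : g ^ 4 * S.el x * (g ^ 4)⁻¹ = S.el (f (f (f (f x)))) := by
    rw [← d3, ← c3, ← b3, ← a3]
    simp only [pow_succ, pow_zero, one_mul, _root_.mul_inv_rev, mul_assoc]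
  rw [e4]
  refine (S.cn_eq_iff hx hqx d1 d2).1 ?_
  have h4 : φ (φ (φ (φ x))) = cn (f (f (f (f x)))) := by
    show φ (φ (φ (cn (f x)))) = _
    rw [← φcn a1 a2]
    show φ (φ (cn (f (f x)))) = _
    rw [← φcn b1 b2]
    show φ (cn (f (f (f x)))) = _
    rw [← φcn c1 c2]
  rw [← h4, φcn hx hqx, hall _ (cn_mem hx hqx)]

end Setup

end CfsgLib.M12Type
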