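import Cfsg.Agent.S0217
import Cfsg.Agent.S0205
import Cfsg.Agent.Signalizer.Local
import Cfsg.Agent.Comp.Basic
import Cfsg.Agent.Invol.StrongEmbedded

/-!
A group with an elementary abelian Sylow subgroup of order 16, two classes of involutions, and no
automiser fixing an involution of it: it is solvable and two-closed modulo its core.
-/

set_option autoImplicit false
set_option linter.unusedSectionVars false

namespace CfsgLib.M12Type

open Subgroup

universe u

variable {X : Type u} [Group X] [Finite X]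

theorem mem_of_pow_mem {K : Subgroup X} {x : X} {a b : ℕ} (hab : Nat.Coprime a b)
    (ha : x ^ a ∈ K) (hb : x ^ b ∈ K) : x ∈ K := by
  have h := mul_mem (zpow_mem ha (Nat.gcdA a b)) (zpow_mem hb (Nat.gcdB a b))
  rwa [← zpow_natCast x a, ← zpow_natCast x b, ← zpow_mul, ← zpow_mul, ← zpow_add,
    ← Nat.gcd_eq_gcd_ab, hab, Nat.cast_one, zpow_one] at h

theorem odd_orderOf_conj (g x : X) (h : Odd (orderOf x)) : Odd (orderOf (g * x * g⁻¹)) := by
  rwa [Invol.orderOf_conj_eq]

theorem map_conj_of_mem {H : Subgroup X} {n : X} (hn : n ∈ normalizer (H : Set X)) :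
    H.map (MulAut.conj n).toMonoidHom = H := by
  ext x
  constructor
  · rintro ⟨y, hy, rfl⟩
    exact (mem_normalizer_iff.1 hn y).1 hy
  · intro hx
    refine ⟨n⁻¹ * x * n, (mem_normalizer_iff.1 hn _).2 ?_, ?_⟩
    · simpa [mul_assoc] using hx
    · simp [mul_assoc]

theorem normalizer_sup_mem {H K : Subgroup X} {n : X} (h1 : n ∈ normalizer (H : Set X))
    (h2 : n ∈ normalizer (K : Set X)) : n ∈ normalizer ((H ⊔ K : Subgroup X) : Set X) := by
  refine mem_normalizer_iff.2 fun x => ?_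
  have e : (H ⊔ K).map (MulAut.conj n).toMonoidHom = H ⊔ K := by
    rw [Subgroup.map_sup, map_conj_of_mem h1, map_conj_of_mem h2]
  constructor
  · intro hx
    rw [← e]
    exact mem_map_of_mem _ hx
  · intro hx
    rw [← e] at hx
    obtain ⟨y, hy, hyx⟩ := hx
    simpa [show y = x from (MulAut.conj n).injective hyx] using hy

theorem cpc_odd (x : X) : Odd (Nat.card (Cfsg.centralizerPPrimeCore 2 x)) :=
  Nat.coprime_two_right.1 (Signalizer.coprime_card_centralizerPPrimeCore x)

/-- A subgroup containing the Sylow normaliser and the centralisers of its involutions is everything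
when there are two classes of involutions and the Sylow subgroup is abelian. -/
theorem eq_top_of_centralizers (S : Sylow 2 X) (hcomm : IsMulCommutative (S : Subgroup X))
    (hS1 : (S : Subgroup X) ≠ ⊥)
    (hnc : ∃ a b : X, orderOf a = 2 ∧ orderOf b = 2 ∧ ¬ IsConj a b) {H : Subgroup X}
    (hN : normalizer ((S : Subgroup X) : Set X) ≤ H)
    (hC : ∀ e ∈ (S : Subgroup X), orderOf e = 2 → centralizer ({e} : Set X) ≤ H) : H = ⊤ := by
  haveI : Fact (Nat.Prime 2) := ⟨Nat.prime_two⟩
  by_contra hH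
  have hSH : (S : Subgroup X) ≤ H := le_normalizer.trans hN
  have inS : ∀ t ∈ H, orderOf t = 2 → ∃ h ∈ H, h * t * h⁻¹ ∈ (S : Subgroup X) := by
    intro t ht ho
    have hp : IsPGroup 2 (zpowers (⟨t, ht⟩ : H)) :=
      IsPGroup.of_card (n := 1) (by rw [Nat.card_zpowers, ← orderOf_coe, pow_one]; exact ho)
    obtain ⟨Q, hQ⟩ := hp.exists_le_sylow
    obtain ⟨h, hh⟩ := MulAction.exists_smul_eq H Q (S.subtype hSH)
    refine ⟨h, h.2, ?_⟩
    have : h * ⟨t, ht⟩ * h⁻¹ ∈ (S.subtype hSH : Subgroup H) := by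
      rw [← hh]
      exact ⟨⟨t, ht⟩, hQ (mem_zpowers _), rfl⟩
    exact this
  obtain ⟨a, b, ha, hb, hab⟩ := hnc
  refine hab (StrongEmbed.isConj_of_invols (H := H) ?_ ha hb)
  have heven : Even (Nat.card H) := by
    obtain ⟨n, hn⟩ := S.isPGroup'.exists_card_eq
    rcases n with _ | n
    · exact absurd (card_eq_one.1 (by simpa using hn)) hS1
    · exact even_iff_two_dvd.2 (dvd_trans ⟨2 ^ n, by rw [hn, pow_succ, mul_comm]⟩ (card_dvd_of_le hSH))
  refine ⟨hH, heven, fun g hg => Nat.not_even_iff_odd.1 fun hev => hg ?_⟩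
  obtain ⟨w, ho⟩ := exists_prime_orderOf_dvd_card' 2 (even_iff_two_dvd.1 hev)
  rw [← orderOf_coe] at ho
  obtain ⟨u, hu, hus⟩ := w.2.2
  have hgu : g * u * g⁻¹ = (w : X) := hus
  have huo : orderOf u = 2 := by rw [← ho, ← hgu, Invol.orderOf_conj_eq]
  obtain ⟨h1, hh1, he⟩ := inS u hu huo
  obtain ⟨h2, hh2, hf⟩ := inS (w : X) w.2.1 ho
  set e := h1 * u * h1⁻¹ with hedef
  set f := h2 * (w : X) * h2⁻¹ with hfdef
  set k := h2 * g * h1⁻¹ with hkdef
  have hk : k * e * k⁻¹ = f := by rw [hkdef, hedef, hfdef, ← hgu]; group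
  have hfo : orderOf f = 2 := by rw [hfdef, Invol.orderOf_conj_eq, ho]
  have hSc : ∀ x ∈ (S : Subgroup X), ∀ y ∈ (S : Subgroup X), x * y = y * x := fun x hx y hy =>
    congrArg Subtype.val (hcomm.1.comm ⟨x, hx⟩ ⟨y, hy⟩)
  have h1' : (S : Subgroup X) ≤ centralizer {f} := fun x hx =>
    mem_centralizer_singleton_iff.2 (hSc x hx f hf)
  have h2' : ((k • S : Sylow 2 X) : Subgroup X) ≤ centralizer {f} := by
    rintro _ ⟨x, hx, rfl⟩
    refine mem_centralizer_singleton_iff.2 ?_
    show k * x * k⁻¹ * f = f * (k * x * k⁻¹)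
    rw [← hk, conj_mul, conj_mul, hSc x hx e he]
  obtain ⟨c, hc⟩ := MulAction.exists_smul_eq (centralizer ({f} : Set X)) ((k • S).subtype h2') (S.subtype h1')
  have hn : (c : X) * k ∈ normalizer ((S : Subgroup X) : Set X) := by
    refine Sylow.smul_eq_iff_mem_normalizer.1 ?_
    rw [mul_smul]
    have e : ((c : X) • (k • S)).subtype (Sylow.smul_le h2' c) = S.subtype h1' :=
      (Sylow.smul_subtype h2' c).symm.trans hc
    exact Sylow.subtype_injective e
  have hkH : k ∈ H := by
    have := mul_mem (inv_mem (hC f hf hfo c.2)) (hN hn)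
    simpa using this
  rw [show g = h2⁻¹ * k * h1 by rw [hkdef]; group]
  exact mul_mem (mul_mem (inv_mem hh2) hkH) hh1

variable (S : Sylow 2 X) (hcard : Nat.card (S : Subgroup X) = 16)
  (hexp : ∀ x ∈ (S : Subgroup X), x * x = 1)
  (hnc : ∃ a b : X, orderOf a = 2 ∧ orderOf b = 2 ∧ ¬ IsConj a b)
  (hfix : ∀ n ∈ normalizer ((S : Subgroup X) : Set X), Odd (orderOf n) →
    ∀ e ∈ (S : Subgroup X), e ≠ 1 → n * e = e * n → ∀ x ∈ (S : Subgroup X), n * x = x * n)

include hexp in
theorem four_comm {x y : X} (hx : x ∈ (S : Subgroup X)) (hy : y ∈ (S : Subgroup X)) :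
    x * y = y * x := by
  have i : ∀ z ∈ (S : Subgroup X), z⁻¹ = z := fun z hz => inv_eq_of_mul_eq_one_right (hexp z hz)
  rw [← i _ (mul_mem hx hy), _root_.mul_inv_rev, i x hx, i y hy]

include hexp hfix in
/-- A centraliser of an involution of the Sylow subgroup has a normal complement to it. -/
theorem exists_complement {e : X} (he : e ∈ (S : Subgroup X)) (he1 : e ≠ 1) :
    (∀ x : X, x * e = e * x → Odd (orderOf x) → x ∈ Cfsg.centralizerPPrimeCore 2 e) ∧
    centralizer ({e} : Set X) ≤ Cfsg.centralizerPPrimeCore 2 e ⊔ (S : Subgroup X) := by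
  haveI : Fact (Nat.Prime 2) := ⟨Nat.prime_two⟩
  set C := centralizer ({e} : Set X) with hCdef
  have hSC : (S : Subgroup X) ≤ C := fun x hx =>
    mem_centralizer_singleton_iff.2 (four_comm S hexp hx he)
  set T : Sylow 2 C := S.subtype hSC with hT
  have hNC : normalizer ((T : Subgroup C) : Set C) ≤ centralizer ((T : Subgroup C) : Set C) := by
    intro c hc
    have hcS : (c : X) ∈ normalizer ((S : Subgroup X) : Set X) := by
      refine mem_normalizer_iff.2 fun x => ⟨fun hx => ?_, fun hx => ?_⟩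
      · exact (mem_normalizer_iff.1 hc ⟨x, hSC hx⟩).1 hx
      · have hxC : x ∈ C := by
          have := mul_mem (mul_mem (inv_mem c.2) (hSC hx)) c.2
          simpa [mul_assoc] using this
        exact (mem_normalizer_iff.1 hc ⟨x, hxC⟩).2 hx
    suffices h : (c : X) ∈ centralizer ((S : Subgroup X) : Set X) from
      mem_centralizer_iff.2 fun x hx => Subtype.ext (mem_centralizer_iff.1 h x.1 hx)
    obtain ⟨k, m, hm, hkm⟩ := Nat.exists_eq_two_pow_mul_odd (orderOf_pos (c : X)).ne'
    have h1 : (c : X) ^ m ∈ centralizer ((S : Subgroup X) : Set X) := by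
      have hp : IsPGroup 2 (zpowers ((c : X) ^ m)) := by
        have hd : orderOf ((c : X) ^ m) ∣ 2 ^ k := orderOf_dvd_of_pow_eq_one (by
          rw [← pow_mul, mul_comm, ← hkm, pow_orderOf_eq_one])
        obtain ⟨i, -, hi⟩ := (Nat.dvd_prime_pow Nat.prime_two).1 hd
        exact IsPGroup.of_card (n := i) (by rw [Nat.card_zpowers, hi])
      have hmS : (c : X) ^ m ∈ (S : Subgroup X) := by
        have := hp.inf_normalizer_sylow S
        exact ((this.le) (mem_inf.2 ⟨mem_zpowers _, pow_mem hcS m⟩)).2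
      exact mem_centralizer_iff.2 fun x hx => four_comm S hexp hx hmS
    have h2 : (c : X) ^ 2 ^ k ∈ centralizer ((S : Subgroup X) : Set X) := by
      refine mem_centralizer_iff.2 fun x hx => (hfix _ (pow_mem hcS _) ?_ e he he1 ?_ x hx).symm
      · exact hm.of_dvd_nat (orderOf_dvd_of_pow_eq_one (by rw [← pow_mul, ← hkm, pow_orderOf_eq_one]))
      · exact mem_centralizer_singleton_iff.1 (pow_mem c.2 _)
    exact mem_of_pow_mem ((Nat.coprime_two_right.2 hm).pow_right k) h1 h2
  set K := (MonoidHom.transferSylow T hNC).ker with hK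
  have hcompl : K.IsComplement' (T : Subgroup C) := MonoidHom.ker_transferSylow_isComplement' T hNC
  have hKodd : Odd (Nat.card K) := by
    rw [← hcompl.index_eq_card]
    exact Nat.not_even_iff_odd.1 fun h => T.not_dvd_index (even_iff_two_dvd.1 h)
  have hKle : K ≤ Cfsg.pPrimeCore 2 C :=
    Solvable.le_pPrimeCore 2 inferInstance (Nat.coprime_two_right.2 hKodd)
  refine ⟨fun x hx ho => ?_, fun x hx => ?_⟩
  · refine ⟨⟨x, mem_centralizer_singleton_iff.2 hx⟩, hKle ?_, rfl⟩
    set y : C := ⟨x, mem_centralizer_singleton_iff.2 hx⟩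
    have hy : Odd (orderOf (QuotientGroup.mk' K y)) :=
      ho.of_dvd_nat (by rw [show x = (y : X) from rfl, orderOf_coe]; exact orderOf_map_dvd _ _)
    have hpg : IsPGroup 2 (C ⧸ K) := by
      obtain ⟨n, hn⟩ := T.isPGroup'.exists_card_eq
      exact IsPGroup.of_card (n := n) (by rw [← Subgroup.index_eq_card, hcompl.symm.index_eq_card, hn])
    obtain ⟨i, hi⟩ := IsPGroup.iff_orderOf.1 hpg (QuotientGroup.mk' K y)
    rw [hi] at hy
    rcases i with _ | i
    · exact (QuotientGroup.eq_one_iff _).1 (orderOf_eq_one_iff.1 hi)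
    · exact absurd (by simp [pow_succ]) (Nat.not_even_iff_odd.2 hy)
  · have h : (⟨x, hx⟩ : C) ∈ K ⊔ (T : Subgroup C) := by rw [hcompl.sup_eq_top]; exact mem_top _
    have h' := mem_map_of_mem C.subtype h
    rw [Subgroup.map_sup] at h'
    refine (sup_le_sup (map_mono hKle) ?_) h'
    rintro _ ⟨y, hy, rfl⟩
    exact hy

include hcard hexp hnc hfix in
/-- The group is solvable and two-closed modulo its core. -/
theorem four_sylow : Group.IsSolvable X ∧ (Cfsg.oddCore X ⊔ (S : Subgroup X)).Normal := by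
  haveI : Fact (Nat.Prime 2) := ⟨Nat.prime_two⟩
  have hcomm : IsMulCommutative (S : Subgroup X) :=
    ⟨⟨fun x y => Subtype.ext (four_comm S hexp x.2 y.2)⟩⟩
  have hS1 : (S : Subgroup X) ≠ ⊥ := fun h => by
    rw [h, card_bot] at hcard; omega
  set θ : X → Subgroup X := Cfsg.centralizerPPrimeCore 2
  have hθC : ∀ a, θ a ≤ centralizer {a} := fun a => Signalizer.mem_centralizerPPrimeCore_le
  have hodd : ∀ a x, x ∈ θ a → Odd (orderOf x) := fun a x hx =>
    (cpc_odd a).of_dvd_nat (Subgroup.orderOf_dvd_natCard _ hx)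
  have hinv : ∀ a b x, b * a = a * b → x ∈ θ a → b * x * b⁻¹ ∈ θ a := fun a b x hb hx =>
    (mem_normalizer_iff.1 (Signalizer.centralizer_le_normalizer_centralizerPPrimeCore a
      (mem_centralizer_singleton_iff.2 hb)) x).1 hx
  have hmem := fun {a : X} (ha : a ∈ (S : Subgroup X)) (ha1 : a ≠ 1) =>
    exists_complement S hexp hfix ha ha1
  obtain ⟨hW2, -⟩ := Cfsg.Agent.S0217.result (p := 2) (S : Subgroup X)
    (fun a ha b hb => four_comm S hexp ha hb) (fun a ha => by rw [pow_two, hexp a ha])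
    (by rw [hcard]; norm_num) θ (fun a _ _ => hθC a)
    (fun a _ _ h => Nat.not_even_iff_odd.2 (cpc_odd a) (even_iff_two_dvd.2 h))
    (fun a ha _ b hb x hx => hinv a b x (four_comm S hexp hb ha) hx)
    (fun a _ _ => Cfsg.Agent.S0205.result (cpc_odd a))
    (fun a _ _ b hb hb1 x hx => (hmem hb hb1).1 x (mem_centralizer_singleton_iff.1 hx.2)
      (hodd a x hx.1))
  set W := ⨆ a : {a : X // a ∈ (S : Subgroup X) ∧ a ≠ 1}, θ a with hWdef
  have hθW : ∀ {a}, a ∈ (S : Subgroup X) → a ≠ 1 → θ a ≤ W := fun {a} ha ha1 =>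
    le_iSup_of_le (f := fun b : {a : X // a ∈ (S : Subgroup X) ∧ a ≠ 1} => θ b) ⟨a, ha, ha1⟩ le_rfl
  have hNW : normalizer ((S : Subgroup X) : Set X) ≤ normalizer (W : Set X) := by
    suffices h : ∀ n ∈ normalizer ((S : Subgroup X) : Set X), ∀ x ∈ W, n * x * n⁻¹ ∈ W from
      Signalizer.le_normalizer_of_conj_mem h
    intro n hn x hx
    induction hx using Subgroup.iSup_induction' with
    | hp a x hx =>
      have hb : n * (a : X) * n⁻¹ ∈ (S : Subgroup X) := (mem_normalizer_iff.1 hn _).1 a.2.1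
      have hb1 : n * (a : X) * n⁻¹ ≠ 1 := fun e => a.2.2 (conj_eq_one_iff.1 e)
      refine hθW hb hb1 ((hmem hb hb1).1 _ ?_ (odd_orderOf_conj n x (hodd _ x hx)))
      rw [conj_mul, conj_mul, mem_centralizer_singleton_iff.1 (hθC _ hx)]
    | h1 => simp
    | hmul x y _ _ hx hy => rw [← conj_mul]; exact mul_mem hx hy
  have hCW : ∀ e ∈ (S : Subgroup X), orderOf e = 2 → centralizer ({e} : Set X) ≤ normalizer (W : Set X) :=
    fun e he ho => ((hmem he (Invol.ne_one ho)).2).trans
      (sup_le ((hθW he (Invol.ne_one ho)).trans le_normalizer) (le_normalizer.trans hNW))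
  have hWn : W.Normal := normalizer_eq_top_iff.1 (eq_top_of_centralizers S hcomm hS1 hnc hNW hCW)
  have hWO : W ≤ Cfsg.oddCore X := Solvable.le_pPrimeCore 2 hWn (Nat.coprime_two_right.2
    (Nat.not_even_iff_odd.1 fun h => hW2 (even_iff_two_dvd.1 h)))
  set O := Cfsg.oddCore X
  haveI hOn : O.Normal := (Solvable.pPrimeCore_spec (G := X) 2).1
  have hR : (O ⊔ (S : Subgroup X)).Normal := by
    refine normalizer_eq_top_iff.1 (eq_top_of_centralizers S hcomm hS1 hnc ?_ fun e he ho => ?_)
    · intro n hn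
      exact normalizer_sup_mem (le_normalizer_of_normal (mem_top n)) hn
    · exact ((hmem he (Invol.ne_one ho)).2.trans
        (sup_le_sup ((hθW he (Invol.ne_one ho)).trans hWO) le_rfl)).trans le_normalizer
  refine ⟨?_, hR⟩
  haveI := hR
  have hOodd : Odd (Nat.card O) := Nat.coprime_two_right.1 (Solvable.coprime_card_pPrimeCore (G := X) 2)
  haveI : Group.IsSolvable O := Cfsg.Agent.S0205.result hOodd
  haveI : Group.IsSolvable (X ⧸ (O ⊔ (S : Subgroup X))) := by
    refine Cfsg.Agent.S0205.result ?_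
    exact (Nat.not_even_iff_odd.1 fun h => S.not_dvd_index (even_iff_two_dvd.1 h)).of_dvd_nat
      (index_dvd_of_le le_sup_right)
  haveI : Group.IsSolvable (O ⊔ (S : Subgroup X) : Subgroup X) := by
    haveI : Group.IsSolvable (S : Subgroup X) := by haveI := S.isPGroup'.isNilpotent; infer_instance
    rw [sup_comm]
    exact CfsgLib.Comp.isSolvable_sup ‹Group.IsSolvable O› ‹_›
  exact (Group.isSolvable_iff_subgroup_quotient (O ⊔ (S : Subgroup X))).mpr ⟨‹_›, ‹_›⟩

end CfsgLib.M12Type
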