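import Cfsg.Agent.M12Type.LocalData

/-!
Finite checks for the signalizer functor on pure elementary groups of order eight.
-/

set_option autoImplicit false
set_option linter.unusedSectionVars false
set_option maxRecDepth 100000

namespace CfsgLib.M12Type

/-- A list of codes of an elementary abelian group of order eight of central involutions. -/
def pureList (r : Bool) (L : List Nat) : Bool :=
  Nat.beq L.length 8 && L.contains 0 && (L.all fun x => Nat.blt x 64 && Nat.beq (m x x) 0 &&
    (x == 0 || Setup.zCode r x)) && decide L.Nodup &&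
    L.all fun x => L.all fun y => L.contains (m x y) && Nat.beq (m x y) (m y x)

/-- The group of order eight above the four group and a given code. -/
def aboveV (p : Nat) : List Nat := [0, 2, 8, 10, p, m 2 p, m 8 p, m 10 p]

theorem pure_eList : ∀ r : Bool, pureList r eList = true := by decide +kernel

theorem pure_above : ∀ r : Bool, ∀ p < 64, Setup.zCode r p = true →
    p = 2 ∨ p = 8 ∨ p = 10 ∨ (pureList r (aboveV p) = true ∧ (aboveV p).contains p = true) := by
  decide +kernel

/-- The four groups of central involutions in the centraliser of a non-central one. -/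
def fours : List (Nat × Nat) := [(2, 8), (10, 32), (10, 34)]

theorem fours_ok : ∀ r : Bool,
    (∀ x < 64, Setup.sCode r x = true → ∃ uv ∈ fours, m x uv.1 = m uv.1 x ∧ m x uv.2 = m uv.2 x) ∧
    (∀ uv ∈ fours, uv.1 < 64 ∧ uv.2 < 64 ∧ uv.1 ∈ eList ∧ uv.2 ∈ eList ∧ uv.1 ≠ 0 ∧ uv.2 ≠ 0 ∧ uv.1 ≠ uv.2 ∧
      Setup.zCode r uv.1 = true ∧ Setup.zCode r uv.2 = true) ∧
    ∀ x < 64, m x 16 = m 16 x → Setup.zCode r x = true → x = 10 ∨ x = 32 ∨ x = 42 := by decide +kernel

theorem centS_card : ((List.range 64).filter fun x => m x 16 == m 16 x).length = 16 ∧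
    Setup.sCode false 16 = true ∧ Setup.sCode true 16 = true := by decide +kernel

end CfsgLib.M12Type
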