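import Cfsg.Agent.M12Type.Code

/-!
The two classes of involutions in the Sylow subgroup of order 64, and the centraliser order of a
non-central one.
-/

set_option autoImplicit false
set_option linter.unusedSectionVars false
set_option maxRecDepth 100000

namespace CfsgLib.M12Type

open Subgroup CfsgLib.GTwoFusion

universe u

variable {G : Type u} [Group G] [Finite G] {P : Sylow 2 G}

/-- A code of an involution. -/
def isInv (x : Nat) : Bool := x != 0 && m x x == 0

/-- The representatives of the classes of involutions of the Sylow subgroup. -/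
def reps : List Nat := [10, 2, 16, 48, 32, 37, 33]

/-- The representative of each code. -/
def repTab : List Nat := [0, 0, 2, 0, 0, 0, 0, 0, 2, 0, 10, 0, 0, 0, 0, 0, 16, 0, 0, 0, 0, 0, 0, 16, 0, 0, 16, 0, 0, 16, 0, 0, 32, 33, 32, 33, 33, 37, 33, 37, 32, 33, 32, 33, 33, 37, 33, 37, 48, 0, 0, 0, 0, 48, 0, 0, 0, 0, 48, 0, 0, 0, 0, 48]

/-- The representative of a code. -/
def repOf (x : Nat) : Nat := repTab.getD x 0

theorem repOf_ok : ∀ x < 64, isInv x = true →
    (reps.contains (repOf x) && (List.range 64).any fun g => conj g x == repOf x) = true := by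
  decide +kernel

/-- The class of the representative, given that of `w`, `t 1 1 * w` and `t 1 0 * w`. -/
def clsRep (p q r : Bool) (y : Nat) : Bool :=
  y == 16 || y == 48 || (y == 32 && p) || (y == 37 && q) || (y == 33 && r)

/-- The code is that of a conjugate of the swap, given the classes of three representatives. -/
def clsS (p q r : Bool) (x : Nat) : Bool := isInv x && clsRep p q r (repOf x)

theorem count_ok : ∀ p q r : Bool,
    (p = q → 8 ∣ ((List.range 64).filter (clsS p q r)).length) ∧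
    (p ≠ q → ((List.range 64).filter (clsS p q r)).length ∈ [12, 20]) := by decide +kernel

variable [IsSimpleGroup G] (D : Shape (P : Subgroup G) 1) (hns : ¬ IsConj D.s D.z)

theorem elN_reps : elN D 10 = D.z ∧ elN D 2 = D.a ∧ elN D 16 = D.s ∧
    elN D 48 = D.s * D.w ∧ elN D 32 = D.w ∧ elN D 37 = D.t 1 1 * D.w ∧ elN D 33 = D.t 1 0 * D.w := by
  refine ⟨?_, ?_, ?_, ?_, ?_, ?_, ?_⟩ <;>
    simp [elN, ci, cj, ca, cb, Shape.z, Shape.a, Shape.h, D.t_zero]

theorem orderOf_s : orderOf D.s = 2 := orderOf_eq_prime (by rw [pow_two, D.s_sq]) D.s_ne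

theorem isInv_iff {x : Nat} (hx : x < 64) :
    isInv x = true ↔ elN D x ≠ 1 ∧ elN D x * elN D x = 1 := by
  rw [isInv, Bool.and_eq_true, bne_iff_ne, beq_iff_eq, ne_eq, ne_eq, elN_eq_one_iff D hx, elN_m,
    elN_eq_one_iff D (m_ok x hx x hx)]

theorem isInv_of_isConj {x : Nat} (hx : x < 64) {y : G} (hy : orderOf y = 2)
    (h : IsConj y (elN D x)) : isInv x = true := by
  obtain ⟨g, hg⟩ := isConj_iff.1 h
  rw [isInv_iff D hx, ← hg]
  have hy2 : y * y = 1 := by rw [← pow_two, ← hy, pow_orderOf_eq_one]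
  refine ⟨fun e => ?_, by rw [conj_mul, hy2, mul_one, mul_inv_cancel]⟩
  rw [conj_eq_one_iff.1 e, orderOf_one] at hy
  omega

theorem isConj_conj_code {g : Nat} (hg : g < 64) (x : Nat) :
    IsConj (elN D x) (elN D (conj g x)) := isConj_iff.2 ⟨elN D g, elN_conj D hg⟩

include hns in
/-- The class of a code in terms of three of them. -/
theorem isConj_s_iff {p q r : Bool} (hp : IsConj D.s D.w ↔ p = true)
    (hq : IsConj D.s (D.t 1 1 * D.w) ↔ q = true) (hr : IsConj D.s (D.t 1 0 * D.w) ↔ r = true)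
    {x : Nat} (hx : x < 64) : IsConj D.s (elN D x) ↔ clsS p q r x = true := by
  by_cases hv : isInv x = true
  · have ok := repOf_ok x hx hv
    simp only [Bool.and_eq_true, List.any_eq_true, List.mem_range, List.contains_iff_mem, beq_iff_eq] at ok
    obtain ⟨hgr, g, hg, hge⟩ := ok
    rw [clsS, hv, Bool.true_and, ← hge]
    rw [← hge] at hgr
    have e : IsConj D.s (elN D x) ↔ IsConj D.s (elN D (conj g x)) :=
      ⟨fun h => h.trans (isConj_conj_code D hg x), fun h => h.trans (isConj_conj_code D hg x).symm⟩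
    rw [e]
    obtain ⟨r1, r2, r4, r5, r6, r7, r8⟩ := elN_reps D
    have nz : ¬ IsConj D.s D.a := fun h => hns (h.trans D.isConj_z_a.symm)
    generalize conj g x = y at hgr ⊢
    simp only [reps, List.mem_cons, List.not_mem_nil, or_false] at hgr
    rcases hgr with rfl | rfl | rfl | rfl | rfl | rfl | rfl
    · rw [r1]; exact iff_of_false hns (by simp [clsRep])
    · rw [r2]; exact iff_of_false nz (by simp [clsRep])
    · rw [r4]; exact iff_of_true (IsConj.refl _) rfl
    · rw [r5]; exact iff_of_true (D.s_conj_sw hns) rfl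
    · rw [r6, hp]; simp [clsRep]
    · rw [r7, hq]; simp [clsRep]
    · rw [r8, hr]; simp [clsRep]
  · refine ⟨fun h => absurd (isInv_of_isConj D hx (orderOf_s D) h) hv, fun h => ?_⟩
    rw [clsS, Bool.and_eq_true] at h
    exact absurd h.1 hv

include hns in
/-- Exactly one of `w`, `t 1 1 * w` is a conjugate of the swap, and the swap has centraliser of
order 16 times an odd number. -/
theorem count : ¬ (IsConj D.s D.w ↔ IsConj D.s (D.t 1 1 * D.w)) ∧
    ∃ k, Odd k ∧ Nat.card (centralizer ({D.s} : Set G)) = 16 * k := by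
  classical
  let p : Bool := decide (IsConj D.s D.w)
  let q : Bool := decide (IsConj D.s (D.t 1 1 * D.w))
  let r : Bool := decide (IsConj D.s (D.t 1 0 * D.w))
  have key : ∀ {x : Nat}, x < 64 → (IsConj D.s (elN D x) ↔ clsS p q r x = true) := fun hx =>
    isConj_s_iff D hns decide_eq_true_iff.symm decide_eq_true_iff.symm decide_eq_true_iff.symm hx
  set X := {g : G | g ∈ (P : Subgroup G) ∧ IsConj D.s g} with hX
  have hcard : Nat.card X = ((List.range 64).filter (clsS p q r)).length := by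
    let S : Finset Nat := ((List.range 64).filter (clsS p q r)).toFinset
    have hS : ∀ {n}, n ∈ S ↔ n < 64 ∧ clsS p q r n = true := by simp [S]
    let f : S → X := fun n => ⟨elN D n.1, elN_mem D _, (key (hS.1 n.2).1).2 (hS.1 n.2).2⟩
    have hf : Function.Bijective f := by
      refine ⟨fun a b e => Subtype.ext (elN_inj D (hS.1 a.2).1 (hS.1 b.2).1 (congrArg Subtype.val e)),
        fun g => ?_⟩
      obtain ⟨n, hn, e⟩ := exists_elN D g.2.1
      exact ⟨⟨n, hS.2 ⟨hn, (key hn).1 (e ▸ g.2.2)⟩⟩, Subtype.ext e⟩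
    rw [← Nat.card_congr (Equiv.ofBijective f hf), Nat.card_eq_finsetCard,
      List.toFinset_card_of_nodup (List.nodup_range.filter _)]
  haveI : Fact (Nat.Prime 2) := ⟨Nat.prime_two⟩
  have hp : IsPGroup 2 (zpowers D.s) :=
    IsPGroup.of_card (n := 1) (by rw [Nat.card_zpowers, pow_one]; exact orderOf_s D)
  set F := MulAction.fixedPoints (zpowers D.s) (G ⧸ (P : Subgroup G)) with hF
  have hN : ¬ 2 ∣ Nat.card F := by
    have h := hp.card_modEq_card_fixedPoints (G ⧸ (P : Subgroup G))
    intro h2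
    exact P.not_dvd_index ((h.dvd_iff dvd_rfl).2 h2)
  have hpre : ∀ g : G, g⁻¹ * D.s * g ∈ X ↔ (QuotientGroup.mk g : G ⧸ (P : Subgroup G)) ∈ F := by
    intro g
    have h1 : g⁻¹ * D.s * g ∈ X ↔ g⁻¹ * D.s * g ∈ (P : Subgroup G) :=
      ⟨fun h => h.1, fun h => ⟨h, isConj_iff.2 ⟨g⁻¹, by rw [inv_inv]⟩⟩⟩
    rw [h1, hF, MulAction.mem_fixedPoints]
    constructor
    · rintro h ⟨c, hc⟩
      obtain ⟨k, rfl⟩ := mem_zpowers_iff.1 hc
      refine QuotientGroup.eq.2 ?_
      show (D.s ^ k * g)⁻¹ * g ∈ (P : Subgroup G)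
      rw [show (D.s ^ k * g)⁻¹ * g = ((g⁻¹ * D.s * (g⁻¹)⁻¹) ^ k)⁻¹ by rw [conj_zpow]; group]
      exact inv_mem (zpow_mem (by simpa using h) k)
    · intro h
      have h' := QuotientGroup.eq.1 (h ⟨D.s, mem_zpowers _⟩).symm
      simpa [mul_assoc] using h'
  have hcount := card_transporter D.s X fun y hy => hy.2
  rw [Nat.card_congr (Equiv.subtypeEquivRight hpre)] at hcount
  have hpp : Nat.card {g : G // (QuotientGroup.mk g : G ⧸ (P : Subgroup G)) ∈ F} =
      Nat.card (P : Subgroup G) * Nat.card F := by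
    rw [← Nat.card_prod]
    exact Nat.card_congr (QuotientGroup.preimageMkEquivSubgroupProdSet (P : Subgroup G) F)
  rw [hpp, D.card, hcard] at hcount
  obtain ⟨y, hy⟩ := D.dvd_card_centralizer
  rw [hy] at hcount
  obtain ⟨h8, h4⟩ := count_ok p q r
  have hne : p ≠ q := fun e => by
    obtain ⟨x, hx⟩ := h8 e
    rw [hx] at hcount
    exact hN ⟨x * y, Nat.eq_of_mul_eq_mul_left (n := 64) (by norm_num) (hcount.trans (by ring))⟩
  refine ⟨fun e => hne (decide_eq_decide.2 e), y, Nat.not_even_iff_odd.1 fun hev => ?_, hy⟩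
  obtain ⟨y', rfl⟩ := even_iff_two_dvd.1 hev
  obtain ⟨x, hx⟩ : 4 ∣ ((List.range 64).filter (clsS p q r)).length := by
    rcases List.mem_cons.1 (h4 hne) with e | e
    · rw [e]; norm_num
    · rw [List.mem_singleton.1 e]; norm_num
  rw [hx] at hcount
  exact hN ⟨x * y', Nat.eq_of_mul_eq_mul_left (n := 64) (by norm_num) (hcount.trans (by ring))⟩

end CfsgLib.M12Type
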