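import Cfsg.Agent.M12Type.LocalData
import Cfsg.Agent.M12U.Nodes

/-!
Finite checks for the centraliser of order 192 of the central involution.
-/

set_option autoImplicit false
set_option linter.unusedSectionVars false
set_option maxRecDepth 100000

namespace CfsgLib.M12Type

/-- The product of a subset of the five generators of the subgroup of equal parities. -/
def ev5 (a b c d e : Nat) : Nat :=
  m (m (m (m (sel e 0 a) (sel e 1 b)) (sel e 2 c)) (sel e 3 d)) (sel e 4 10)

/-- The subsets of the five generators. -/
def idxTab : List Nat := [0, 0, 2, 0, 0, 1, 0, 3, 18, 0, 16, 0, 0, 19, 0, 17, 4, 0, 6, 0, 0, 5, 0, 7, 22, 0, 20, 0, 0, 23, 0, 21, 8, 0, 10, 0, 0, 9, 0, 11, 26, 0, 24, 0, 0, 27, 0, 25, 12, 0, 14, 0, 0, 13, 0, 15, 30, 0, 28, 0, 0, 31, 0, 29]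

/-- The image of a code under the map with given images of the generators. -/
def ap5 (a b c d x : Nat) : Nat := ev5 a b c d (idxTab.getD x 0)

theorem idx5_ok : ∀ x < 64, qCode x = true → ev5 5 2 16 32 (idxTab.getD x 0) = x := by
  decide +kernel

theorem qCode_gens : qCode 5 = true ∧ qCode 2 = true ∧ qCode 16 = true ∧ qCode 32 = true ∧
    qCode 35 = false := by decide +kernel

theorem qCode_conj : ∀ p < 64, ∀ x < 64, qCode (conj p x) = qCode x := by decide +kernel

theorem qCode_split : ∀ y < 64, qCode y = false →
    qCode (m y (inv 35)) = true ∧ m (m y (inv 35)) 35 = y := by decide +kernel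

/-- The codes of the class of a code in the subgroup of equal parities. -/
def candQ (r : Bool) (g : Nat) : List Nat :=
  (List.range 64).filter fun x => qCode x && cls r x == cls r g

/-- Two images commute exactly when their sources do. -/
def relP (a b g h : Nat) : Bool := (m a b == m b a) == (m g h == m h g)

/-- The map has order dividing three and keeps the classes. -/
def autP (r : Bool) (a b c d : Nat) : Bool :=
  ([5, 2, 16, 32].all fun g => ap5 a b c d (ap5 a b c d (ap5 a b c d g)) == g) &&
    (List.range 64).all fun x => !(qCode x) || cls r (ap5 a b c d x) == cls r x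

/-- The map conjugated by an element of the Sylow subgroup. -/
def cjAp (a b c d p g : Nat) : Nat := conj p (ap5 a b c d (conj (inv p) g))

/-- The map is trivial or has the normal form after a conjugation. -/
def normP (a b c d : Nat) : Bool :=
  (a == 5 && b == 2 && c == 16 && d == 32) || (List.range 64).any fun p =>
    cjAp a b c d p 5 == 50 && cjAp a b c d p 2 == 32 && cjAp a b c d p 16 == 53 &&
      cjAp a b c d p 32 == 34

/-- The search for automorphisms. -/
def autSearch (r : Bool) : Bool :=
  (candQ r 5).all fun a => !(m a a == m 5 5) ||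
    (candQ r 2).all fun b => !(m b b == m 2 2 && relP a b 5 2) ||
      (candQ r 16).all fun c => !(relP a c 5 16 && relP b c 2 16) ||
        (candQ r 32).all fun d => !(relP a d 5 32 && relP b d 2 32 && relP c d 16 32) ||
          !(autP r a b c d) || normP a b c d

theorem autSearch_ok : ∀ r : Bool, autSearch r = true := by decide +kernel

/-- The normalised map. -/
def f1 (x : Nat) : Nat := ap5 50 32 53 34 x

/-- A power of the normalised map. -/
def fk (k x : Nat) : Nat := if k = 0 then x else if k = 1 then f1 x else f1 (f1 x)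

theorem f1_ok : ∀ x < 64, qCode x = true → f1 x < 64 ∧ qCode (f1 x) = true ∧
    f1 (f1 (f1 x)) = x ∧ conj (inv 35) (f1 (conj 35 (f1 x))) = x := by decide +kernel

theorem fk_cent : ∀ y < 64, ∀ k < 3,
    ((∀ g ∈ [5, 2, 16, 32], conj y (fk k g) = g) → (y = 0 ∨ y = 10) ∧ k = 0) := by decide +kernel

theorem id_cent : ∀ y < 64, (∀ g ∈ [5, 2, 16, 32], conj y g = g) → y = 0 ∨ y = 10 := by
  decide +kernel

/-- Multiplication in the model `el y * ω ^ k` of the centraliser. -/
def mulM (A B : Nat × Nat) : Nat × Nat :=
  if qCode B.1 then (m A.1 (fk A.2 B.1), (A.2 + B.2) % 3)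
  else (m A.1 (m (fk A.2 (m B.1 (inv 35))) 35), (B.2 + 2 * A.2) % 3)

/-- The images of the letters. -/
def lhM : List (Nat × Nat) := [(4, 2), (60, 2), (0, 1), (0, 2)]

/-- Evaluation of a word in the model. -/
def evM : List Nat → Nat × Nat
  | [] => (0, 0)
  | l :: w => mulM (lhM.getD l (0, 0)) (evM w)

theorem rels_ok : (∀ w ∈ M12U.relsH, evM w = (0, 0)) ∧ evM (M12U.pth 41) = (10, 0) := by
  decide +kernel

theorem lhM_inv : mulM (4, 2) (60, 2) = (0, 0) ∧ mulM (0, 1) (0, 2) = (0, 0) := by decide +kernel

theorem gens_words : evM (M12U.pth 80) = (5, 0) ∧ evM (M12U.pth 172) = (2, 0) ∧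
    evM (M12U.pth 188) = (16, 0) ∧ evM (M12U.pth 164) = (32, 0) ∧
    evM (M12U.pth 187) = (35, 0) ∧ evM (M12U.pth 3) = (0, 1) := by decide +kernel

end CfsgLib.M12Type
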