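import Cfsg.Agent.M12Type.LocalQuot
import Cfsg.Agent.M12Type.Loc192Data

/-!
A centraliser of order 192 of the central involution with trivial core carries the local data of
the Mathieu group of degree twelve.
-/

set_option autoImplicit false
set_option linter.unusedSectionVars false
set_option linter.style.haveILetI false

namespace CfsgLib.M12Type

open Subgroup CfsgLib.GTwoFusion CfsgLib.Coset

universe u

variable {G : Type u} [Group G] [Finite G] [IsSimpleGroup G] {P : Sylow 2 G}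

theorem fk_lt {k x : Nat} (hx : x < 64) (hq : qCode x = true) :
    fk k x < 64 ∧ qCode (fk k x) = true := by
  obtain ⟨h1, h2, -, -⟩ := f1_ok x hx hq
  obtain ⟨h3, h4, -, -⟩ := f1_ok (f1 x) h1 h2
  unfold fk
  split_ifs
  · exact ⟨hx, hq⟩
  · exact ⟨h1, h2⟩
  · exact ⟨h3, h4⟩

theorem pow_mod_three {w : G} (h3 : w ^ 3 = 1) (k : Nat) : w ^ (k % 3) = w ^ k :=
  (pow_eq_pow_mod k h3).symm

namespace Setup

variable (S : Setup P)

theorem mem_C_normalizes (hO : Cfsg.centralizerPPrimeCore 2 S.z = ⊥) {g : G} (hg : g ∈ S.C) :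
    ∀ q ∈ S.Q, g * q * g⁻¹ ∈ S.Q := by
  obtain ⟨o, ho, n, -, rfl, hn⟩ := S.decomp.2 g (S.mem_C.1 hg)
  rw [hO, Subgroup.mem_bot] at ho
  subst ho
  simpa using hn

/-- Every element of the centraliser is an element of the Sylow subgroup times a power of an
element of order three. -/
theorem exists_el_pow (hcard : Nat.card (centralizer ({S.z} : Set G)) = 192) {w : G}
    (hw : w ∈ S.C) (ho : orderOf w = 3) {g : G} (hg : g ∈ S.C) :
    ∃ y < 64, ∃ k < 3, g = S.el y * w ^ k := by
  classical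
  let f : Fin 64 × Fin 3 → S.C := fun p =>
    ⟨S.el p.1 * w ^ (p.2 : ℕ), mul_mem (S.P_le_C (S.el_mem _)) (pow_mem hw _)⟩
  have hf : Function.Injective f := by
    rintro ⟨⟨y, hy⟩, ⟨k, hk⟩⟩ ⟨⟨y', hy'⟩, ⟨k', hk'⟩⟩ h
    have e : S.el y * w ^ k = S.el y' * w ^ k' := congrArg Subtype.val h
    have hkk : k = k' := by
      by_contra hne
      have hp : ∀ d, w ^ d ∈ (P : Subgroup G) → w ^ d = 1 := fun d hd => by
        have h1 : orderOf (w ^ d) ∣ 64 := by
          have := Subgroup.orderOf_dvd_natCard (P : Subgroup G) hd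
          rwa [S.D.card] at this
        have h2 : orderOf (w ^ d) ∣ 3 := ho ▸ orderOf_pow_dvd d
        exact orderOf_eq_one_iff.1 (Nat.eq_one_of_dvd_coprimes (by norm_num) h1 h2)
      have h3 : w ^ 3 = 1 := ho ▸ pow_orderOf_eq_one w
      have hmem : w ^ (k + (3 - k')) ∈ (P : Subgroup G) := by
        have e1 : w ^ (k + (3 - k')) = (S.el y)⁻¹ * S.el y' := by
          rw [pow_add, eq_inv_mul_iff_mul_eq, ← mul_assoc, e, mul_assoc, ← pow_add,
            show k' + (3 - k') = 3 by omega, h3, mul_one]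
        rw [e1]
        exact mul_mem (inv_mem (S.el_mem _)) (S.el_mem _)
      have hd := orderOf_dvd_of_pow_eq_one (hp _ hmem)
      rw [ho] at hd
      omega
    subst hkk
    obtain rfl := S.el_inj hy hy' (mul_right_cancel e)
    rfl
  have hbij : Function.Bijective f := by
    refine (Nat.bijective_iff_injective_and_card f).2 ⟨hf, ?_⟩
    show Nat.card (Fin 64 × Fin 3) = Nat.card (centralizer ({S.z} : Set G))
    rw [hcard, Nat.card_prod, Nat.card_fin, Nat.card_fin]
  obtain ⟨⟨⟨y, hy⟩, ⟨k, hk⟩⟩, h⟩ := hbij.2 ⟨g, hg⟩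
  exact ⟨y, hy, k, hk, (congrArg Subtype.val h).symm⟩

/-- The map of codes induced by an element of order dividing three. -/
theorem exists_map (hO : Cfsg.centralizerPPrimeCore 2 S.z = ⊥) {w : G} (hw : w ∈ S.C)
    (h3 : w ^ 3 = 1) : ∃ a b c d, normP a b c d = true ∧
      ∀ x < 64, qCode x = true → w * S.el x * w⁻¹ = S.el (ap5 a b c d x) := by
  classical
  have hex : ∀ x, ∃ y, x < 64 → qCode x = true →
      y < 64 ∧ qCode y = true ∧ w * S.el x * w⁻¹ = S.el y := by
    intro x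
    by_cases h : x < 64 ∧ qCode x = true
    · obtain ⟨y, hy, hqy, e⟩ := S.mem_C_normalizes hO hw _ ((S.el_mem_Q_iff h.1).2 h.2)
      exact ⟨y, fun _ _ => ⟨hy, hqy, e.symm⟩⟩
    · exact ⟨0, fun h1 h2 => absurd ⟨h1, h2⟩ h⟩
  choose φ hφ using hex
  have qm : ∀ {u v}, u < 64 → qCode u = true → v < 64 → qCode v = true →
      m u v < 64 ∧ qCode (m u v) = true := fun {u v} hu hqu hv hqv =>
    ⟨m_ok u hu v hv, (qCode_ok.2.2.2 u hu hqu).2.2.1 v hv hqv⟩
  have φmul : ∀ {u v}, u < 64 → qCode u = true → v < 64 → qCode v = true →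
      φ (m u v) = m (φ u) (φ v) := fun {u v} hu hqu hv hqv => by
    obtain ⟨h1, h2⟩ := qm hu hqu hv hqv
    obtain ⟨a1, -, a3⟩ := hφ _ hu hqu
    obtain ⟨b1, -, b3⟩ := hφ _ hv hqv
    obtain ⟨c1, -, c3⟩ := hφ _ h1 h2
    refine S.el_inj c1 (m_ok _ a1 _ b1) ?_
    rw [← c3, ← S.el_mul, ← S.el_mul, ← a3, ← b3, conj_mul]
  have φfix : ∀ {u}, u = 0 ∨ u = 10 → φ u = u := by
    intro u hu
    have hu' : u < 64 ∧ qCode u = true := by
      rcases hu with rfl | rfl
      · exact ⟨by norm_num, qCode_ok.1⟩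
      · exact ⟨by norm_num, qCode_ok.2.1⟩
    obtain ⟨a1, -, a3⟩ := hφ _ hu'.1 hu'.2
    refine S.el_inj a1 hu'.1 (a3.symm.trans ?_)
    rcases hu with rfl | rfl
    · rw [S.el_zero, mul_one, mul_inv_cancel]
    · rw [S.el_z, S.mem_C.1 hw, mul_inv_cancel_right]
  have φthree : ∀ {u}, u < 64 → qCode u = true → φ (φ (φ u)) = u := fun {u} hu hq => by
    obtain ⟨a1, a2, a3⟩ := hφ _ hu hq
    obtain ⟨b1, b2, b3⟩ := hφ _ a1 a2
    obtain ⟨c1, -, c3⟩ := hφ _ b1 b2
    refine S.el_inj c1 hu ?_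
    rw [← c3, ← b3, ← a3]
    calc w * (w * (w * S.el u * w⁻¹) * w⁻¹) * w⁻¹ = w ^ 3 * S.el u * (w ^ 3)⁻¹ := by
          simp only [pow_succ, pow_zero, one_mul, _root_.mul_inv_rev, mul_assoc]
      _ = S.el u := by rw [h3, one_mul, inv_one, mul_one]
  obtain ⟨q5, q2, q16, q32, -⟩ := qCode_gens
  have happ : ∀ x < 64, qCode x = true → ap5 (φ 5) (φ 2) (φ 16) (φ 32) x = φ x := by
    intro x hx hq
    conv_rhs => rw [← idx5_ok x hx hq]
    unfold ap5
    generalize idxTab.getD x 0 = e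
    have hs : ∀ i a, a < 64 → qCode a = true →
        sel e i a < 64 ∧ qCode (sel e i a) = true ∧ φ (sel e i a) = sel e i (φ a) := by
      intro i a ha hqa
      unfold sel
      split_ifs
      · exact ⟨ha, hqa, rfl⟩
      · exact ⟨by norm_num, qCode_ok.1, φfix (Or.inl rfl)⟩
    obtain ⟨p1, k1, r1⟩ := hs 0 5 (by norm_num) q5
    obtain ⟨p2, k2, r2⟩ := hs 1 2 (by norm_num) q2
    obtain ⟨p3, k3, r3⟩ := hs 2 16 (by norm_num) q16
    obtain ⟨p4, k4, r4⟩ := hs 3 32 (by norm_num) q32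
    obtain ⟨p5, k5, r5⟩ := hs 4 10 (by norm_num) qCode_ok.2.1
    obtain ⟨p12, k12⟩ := qm p1 k1 p2 k2
    obtain ⟨p123, k123⟩ := qm p12 k12 p3 k3
    obtain ⟨p1234, k1234⟩ := qm p123 k123 p4 k4
    show _ = φ (ev5 5 2 16 32 e)
    unfold ev5
    rw [φmul p1234 k1234 p5 k5, φmul p123 k123 p4 k4, φmul p12 k12 p3 k3, φmul p1 k1 p2 k2,
      r1, r2, r3, r4, r5, φfix (Or.inr rfl)]
  have φcls : ∀ x < 64, qCode x = true → cls S.r (φ x) = cls S.r x := fun x hx hq => by
    obtain ⟨a1, -, a3⟩ := hφ _ hx hq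
    exact S.cls_conj hw hx a1 a3
  have φinj : ∀ {u v}, u < 64 → qCode u = true → v < 64 → qCode v = true → φ u = φ v → u = v :=
    fun hu hqu hv hqv h => by rw [← φthree hu hqu, h, φthree hv hqv]
  have hmem : ∀ g, g < 64 → qCode g = true → φ g ∈ candQ S.r g := fun g hg hq => by
    obtain ⟨a1, a2, -⟩ := hφ _ hg hq
    exact List.mem_filter.2 ⟨List.mem_range.2 a1, by simp [a2, φcls g hg hq]⟩
  have hsq : ∀ g, g < 64 → qCode g = true → (m (φ g) (φ g) == m g g) = true := fun g hg hq => by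
    rw [beq_iff_eq, ← φmul hg hq hg hq]
    exact φfix (qCode_ok.2.2.2 g hg hq).2.1
  have hrel : ∀ g h, g < 64 → qCode g = true → h < 64 → qCode h = true →
      relP (φ g) (φ h) g h = true := fun g h hg hqg hh hqh => by
    obtain ⟨u1, u2⟩ := qm hg hqg hh hqh
    obtain ⟨v1, v2⟩ := qm hh hqh hg hqg
    rw [relP, beq_iff_eq, Bool.eq_iff_iff, beq_iff_eq, beq_iff_eq, ← φmul hg hqg hh hqh,
      ← φmul hh hqh hg hqg]
    exact ⟨fun e => φinj u1 u2 v1 v2 e, fun e => congrArg φ e⟩
  have h := autSearch_ok S.r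
  unfold autSearch at h
  have h5 := List.all_eq_true.1 h _ (hmem 5 (by norm_num) q5)
  rw [hsq 5 (by norm_num) q5, Bool.not_true, Bool.false_or] at h5
  have h2 := List.all_eq_true.1 h5 _ (hmem 2 (by norm_num) q2)
  rw [hsq 2 (by norm_num) q2, hrel 5 2 (by norm_num) q5 (by norm_num) q2, Bool.and_self,
    Bool.not_true, Bool.false_or] at h2
  have h16 := List.all_eq_true.1 h2 _ (hmem 16 (by norm_num) q16)
  rw [hrel 5 16 (by norm_num) q5 (by norm_num) q16, hrel 2 16 (by norm_num) q2 (by norm_num) q16,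
    Bool.and_self, Bool.not_true, Bool.false_or] at h16
  have h32 := List.all_eq_true.1 h16 _ (hmem 32 (by norm_num) q32)
  rw [hrel 5 32 (by norm_num) q5 (by norm_num) q32, hrel 2 32 (by norm_num) q2 (by norm_num) q32,
    hrel 16 32 (by norm_num) q16 (by norm_num) q32, Bool.and_self, Bool.and_self, Bool.not_true,
    Bool.false_or] at h32
  have haut : autP S.r (φ 5) (φ 2) (φ 16) (φ 32) = true := by
    rw [autP, Bool.and_eq_true, List.all_eq_true, List.all_eq_true]
    refine ⟨fun g hg => ?_, fun x hx => ?_⟩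
    · obtain ⟨hg1, hg2⟩ : g < 64 ∧ qCode g = true := by
        simp only [List.mem_cons, List.not_mem_nil, or_false] at hg
        rcases hg with rfl | rfl | rfl | rfl <;> exact ⟨by norm_num, by decide⟩
      obtain ⟨a1, a2, -⟩ := hφ _ hg1 hg2
      obtain ⟨b1, b2, -⟩ := hφ _ a1 a2
      rw [happ _ hg1 hg2, happ _ a1 a2, happ _ b1 b2, φthree hg1 hg2, beq_self_eq_true]
    · cases hq : qCode x
      · rfl
      · rw [happ _ (List.mem_range.1 hx) hq, φcls _ (List.mem_range.1 hx) hq]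
        simp
  rw [haut, Bool.not_true, Bool.false_or] at h32
  exact ⟨_, _, _, _, h32, fun x hx hq => by rw [happ x hx hq]; exact (hφ x hx hq).2.2⟩

theorem gens_of_map {w : G} {a b c d : Nat}
    (hmap : ∀ x < 64, qCode x = true → w * S.el x * w⁻¹ = S.el (ap5 a b c d x)) {p : Nat}
    (hp : p < 64) {g : Nat} (hg : g < 64) (hq : qCode g = true) :
    (S.el p * w * (S.el p)⁻¹) * S.el g * (S.el p * w * (S.el p)⁻¹)⁻¹ =
      S.el (cjAp a b c d p g) := by
  have hi := (inv_ok p hp).1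
  have e : S.el (conj (inv p) g) = (S.el p)⁻¹ * S.el g * S.el p := by
    rw [← S.el_conj hi, ← S.el_inv hp, inv_inv]
  rw [cjAp, ← S.el_conj hp,
    ← hmap _ (conj_ok _ hi _ hg) (by rw [qCode_conj _ hi _ hg, hq]), e]
  group

/-- There is an element of order three acting in the normal form. -/
theorem exists_omega (hcard : Nat.card (centralizer ({S.z} : Set G)) = 192)
    (hO : Cfsg.centralizerPPrimeCore 2 S.z = ⊥) :
    ∃ w ∈ S.C, orderOf w = 3 ∧ ∀ x < 64, qCode x = true → w * S.el x * w⁻¹ = S.el (f1 x) := by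
  classical
  haveI : Fact (Nat.Prime 3) := ⟨Nat.prime_three⟩
  have hcardC : Nat.card S.C = 192 := hcard
  obtain ⟨wC, hwC⟩ := exists_prime_orderOf_dvd_card' (G := S.C) 3 (by rw [hcardC]; norm_num)
  set w : G := (wC : G) with hw
  have hwm : w ∈ S.C := wC.2
  have ho : orderOf w = 3 := by rw [hw, orderOf_coe, hwC]
  obtain ⟨a, b, c, d, hn, hmap⟩ := S.exists_map hO hwm (ho ▸ pow_orderOf_eq_one w)
  rw [normP, Bool.or_eq_true] at hn
  rcases hn with hn | hn
  · exfalso
    simp only [Bool.and_eq_true, beq_iff_eq] at hn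
    obtain ⟨⟨⟨rfl, rfl⟩, rfl⟩, rfl⟩ := hn
    have hfix : ∀ x < 64, qCode x = true → w * S.el x * w⁻¹ = S.el x := fun x hx hq => by
      rw [hmap x hx hq, ap5, idx5_ok x hx hq]
    -- the Sylow subgroup normalises the subgroup of order three
    have key : ∀ p < 64, S.el p * w * (S.el p)⁻¹ ∈ zpowers w := by
      intro p hp
      set v := S.el p * w * (S.el p)⁻¹ with hv
      have hvm : v ∈ S.C :=
        mul_mem (mul_mem (S.P_le_C (S.el_mem _)) hwm) (inv_mem (S.P_le_C (S.el_mem _)))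
      obtain ⟨y, hy, k, hk, e⟩ := S.exists_el_pow hcard hwm ho hvm
      have hwk : ∀ x < 64, qCode x = true → ∀ k : Nat, w ^ k * S.el x * (w ^ k)⁻¹ = S.el x := by
        intro x hx hq k
        rw [mul_inv_eq_iff_eq_mul]
        exact (Commute.pow_left (show Commute w (S.el x) from
          mul_inv_eq_iff_eq_mul.1 (hfix x hx hq)) k).eq
      have hy0 : y = 0 ∨ y = 10 := by
        refine id_cent y hy fun g hg => ?_
        obtain ⟨hg1, hg2⟩ : g < 64 ∧ qCode g = true := by
          simp only [List.mem_cons, List.not_mem_nil, or_false] at hg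
          rcases hg with rfl | rfl | rfl | rfl <;> exact ⟨by norm_num, by decide⟩
        have h1 := S.gens_of_map hmap hp hg1 hg2
        have hi := (inv_ok p hp).1
        have h2 : cjAp 5 2 16 32 p g = g := by
          have hqc : qCode (conj (inv p) g) = true := by rw [qCode_conj _ hi _ hg1, hg2]
          rw [cjAp, ap5, idx5_ok _ (conj_ok _ hi _ hg1) hqc]
          refine S.el_inj (conj_ok _ hp _ (conj_ok _ hi _ hg1)) hg1 ?_
          rw [← S.el_conj hp, ← S.el_conj hi, ← S.el_inv hp]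
          group
        rw [h2, ← hv, e] at h1
        refine S.el_inj (conj_ok _ hy _ hg1) hg1 ?_
        rw [← S.el_conj hy]
        conv_lhs => rw [← hwk g hg1 hg2 k]
        refine Eq.trans ?_ h1
        group
      rcases hy0 with rfl | rfl
      · rw [S.el_zero, one_mul] at e
        rw [e]
        exact pow_mem (mem_zpowers w) k
      · exfalso
        have h3 : v ^ 3 = 1 := by
          rw [hv, conj_pow, ← ho, pow_orderOf_eq_one, mul_one, mul_inv_cancel]
        have hc : Commute (S.el 10) w := by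
          rw [S.el_z]; exact (S.mem_C.1 hwm).symm
        rw [e, (hc.pow_right k).mul_pow, ← pow_mul, mul_comm, pow_mul, ← ho, pow_orderOf_eq_one,
          one_pow, mul_one, ho, S.el_z] at h3
        have := orderOf_dvd_of_pow_eq_one h3
        rw [S.orderOf_z] at this
        omega
    set M : Subgroup S.C := zpowers wC with hM
    have hMn : M.Normal := by
      refine ⟨fun n hn g => ?_⟩
      obtain ⟨i, rfl⟩ := mem_zpowers_iff.1 hn
      rw [← conj_zpow]
      refine zpow_mem ?_ i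
      obtain ⟨y, hy, k, -, e⟩ := S.exists_el_pow hcard hwm ho g.2
      obtain ⟨j, hj⟩ := mem_zpowers_iff.1 (key y hy)
      refine mem_zpowers_iff.2 ⟨j, Subtype.ext ?_⟩
      rw [Subgroup.coe_zpow]
      show w ^ j = (g : G) * w * (g : G)⁻¹
      rw [hj, e]
      group
    have hle : M ≤ Cfsg.pPrimeCore 2 S.C := Solvable.le_pPrimeCore 2 hMn (by
      rw [hM, Nat.card_zpowers, hwC]; decide)
    have hbot : w ∈ Cfsg.centralizerPPrimeCore 2 S.z := ⟨wC, hle (mem_zpowers _), rfl⟩
    rw [hO, Subgroup.mem_bot] at hbot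
    rw [hbot, orderOf_one] at ho
    omega
  · simp only [List.any_eq_true, List.mem_range, Bool.and_eq_true, beq_iff_eq] at hn
    obtain ⟨p, hp, ⟨⟨e5, e2⟩, e16⟩, e32⟩ := hn
    set v := S.el p * w * (S.el p)⁻¹ with hv
    have hvm : v ∈ S.C :=
      mul_mem (mul_mem (S.P_le_C (S.el_mem _)) hwm) (inv_mem (S.P_le_C (S.el_mem _)))
    have hvo : orderOf v = 3 := by rw [hv, Invol.orderOf_conj_eq, ho]
    obtain ⟨a', b', c', d', -, hmap'⟩ := S.exists_map hO hvm (hvo ▸ pow_orderOf_eq_one v)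
    refine ⟨v, hvm, hvo, fun x hx hq => ?_⟩
    rw [hmap' x hx hq, f1]
    obtain ⟨q5, q2, q16, q32, -⟩ := qCode_gens
    -- the images of the generators determine the map
    have gen : ∀ g, g < 64 → qCode g = true → ∀ y < 64, S.el (cjAp a b c d p g) = S.el y →
        v * S.el g * v⁻¹ = S.el y := fun g hg hqg y _ e => by
      rw [hv, S.gens_of_map hmap hp hg hqg, e]
    have g5 := gen 5 (by norm_num) q5 50 (by norm_num) (by rw [e5])
    have g2 := gen 2 (by norm_num) q2 32 (by norm_num) (by rw [e2])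
    have g16 := gen 16 (by norm_num) q16 53 (by norm_num) (by rw [e16])
    have g32 := gen 32 (by norm_num) q32 34 (by norm_num) (by rw [e32])
    rw [← hmap' x hx hq]
    conv_lhs => rw [← idx5_ok x hx hq]
    unfold ap5
    generalize idxTab.getD x 0 = e
    have g10 : v * S.el 10 * v⁻¹ = S.el 10 := by
      rw [S.el_z, S.mem_C.1 hvm, mul_inv_cancel_right]
    have hs : ∀ i g y, v * S.el g * v⁻¹ = S.el y → v * S.el (sel e i g) * v⁻¹ = S.el (sel e i y) := by
      intro i g y h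
      unfold sel
      split_ifs
      · exact h
      · rw [S.el_zero, mul_one, mul_inv_cancel]
    unfold ev5
    simp only [← S.el_mul, ← conj_mul]
    rw [hs 0 5 50 g5, hs 1 2 32 g2, hs 2 16 53 g16, hs 3 32 34 g32, hs 4 10 10 g10]

variable {S}

theorem conj_pow_fk {w : G}
    (hmap : ∀ x < 64, qCode x = true → w * S.el x * w⁻¹ = S.el (f1 x)) {k : Nat} (hk : k < 3)
    {x : Nat} (hx : x < 64) (hq : qCode x = true) :
    w ^ k * S.el x * (w ^ k)⁻¹ = S.el (fk k x) := by
  obtain ⟨h1, h2, -, -⟩ := f1_ok x hx hq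
  interval_cases k
  · simp [fk]
  · rw [pow_one, hmap x hx hq]; rfl
  · show _ = S.el (f1 (f1 x))
    rw [← hmap _ h1 h2, ← hmap x hx hq, pow_two]
    group

theorem conj35 (hcard : Nat.card (centralizer ({S.z} : Set G)) = 192) {w : G} (hw : w ∈ S.C)
    (ho : orderOf w = 3) (hmap : ∀ x < 64, qCode x = true → w * S.el x * w⁻¹ = S.el (f1 x)) :
    w * S.el 35 = S.el 35 * w ^ 2 := by
  have h3 : w ^ 3 = 1 := ho ▸ pow_orderOf_eq_one w
  set c := (S.el 35)⁻¹ with hc
  have hcC : c ∈ S.C := inv_mem (S.P_le_C (S.el_mem _))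
  set h := c * w * c⁻¹ * w with hh
  have hhC : h ∈ S.C := mul_mem (mul_mem (mul_mem hcC hw) (inv_mem hcC)) hw
  obtain ⟨y, hy, k, hk, e⟩ := S.exists_el_pow hcard hw ho hhC
  have hcent : (y = 0 ∨ y = 10) ∧ k = 0 := by
    refine fk_cent y hy k hk fun g hg => ?_
    obtain ⟨hg1, hg2⟩ : g < 64 ∧ qCode g = true := by
      simp only [List.mem_cons, List.not_mem_nil, or_false] at hg
      rcases hg with rfl | rfl | rfl | rfl <;> exact ⟨by norm_num, by decide⟩
    obtain ⟨h1, h2, -, h4⟩ := f1_ok g hg1 hg2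
    obtain ⟨l1, l2⟩ := fk_lt (k := k) hg1 hg2
    refine S.el_inj (conj_ok _ hy _ l1) hg1 ?_
    rw [← S.el_conj hy, ← S.conj_pow_fk hmap hk hg1 hg2]
    have q1 : conj 35 (f1 g) < 64 := conj_ok 35 (by norm_num) _ h1
    have q2 : qCode (conj 35 (f1 g)) = true := by rw [qCode_conj 35 (by norm_num) _ h1, h2]
    obtain ⟨r1, -, -, -⟩ := f1_ok _ q1 q2
    have hval : h * S.el g * h⁻¹ = S.el g := by
      conv_rhs => rw [← h4]
      rw [← S.el_conj (inv_ok 35 (by norm_num)).1, ← hmap _ q1 q2, ← S.el_conj (by norm_num),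
        ← hmap g hg1 hg2, ← S.el_inv (by norm_num), hh, hc]
      group
    refine Eq.trans ?_ hval
    rw [e]
    group
  obtain ⟨hy0, rfl⟩ := hcent
  rw [pow_zero, mul_one] at e
  have hy1 : S.el y = 1 := by
    rcases hy0 with rfl | rfl
    · exact S.el_zero
    · exfalso
      have e1 : c * w * c⁻¹ = S.z * w⁻¹ := by
        rw [← S.el_z, ← e, hh, mul_inv_cancel_right]
      have hzw : Commute S.z w⁻¹ := (show Commute S.z w from (S.mem_C.1 hw).symm).inv_right
      have h33 : (c * w * c⁻¹) ^ 3 = 1 := by rw [conj_pow, h3, mul_one, mul_inv_cancel]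
      rw [e1, hzw.mul_pow, inv_pow, h3, inv_one, mul_one] at h33
      have := orderOf_dvd_of_pow_eq_one h33
      rw [S.orderOf_z] at this
      omega
  rw [hy1, hh, hc, inv_inv] at e
  have e2 : (S.el 35)⁻¹ * w * S.el 35 = w ^ 2 := by
    rw [← inv_eq_of_mul_eq_one_right (show w * w ^ 2 = 1 by rw [← pow_succ', h3])]
    exact eq_inv_of_mul_eq_one_left e
  rw [← e2, mul_assoc, mul_inv_cancel_left]

variable (S)

/-- The model element of a pair. -/
def E (w : G) (A : Nat × Nat) : G := S.el A.1 * w ^ A.2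

theorem E_mul {w : G} (ho : orderOf w = 3)
    (hmap : ∀ x < 64, qCode x = true → w * S.el x * w⁻¹ = S.el (f1 x))
    (h35 : w * S.el 35 = S.el 35 * w ^ 2) {A B : Nat × Nat} (hA : A.1 < 64 ∧ A.2 < 3)
    (hB : B.1 < 64 ∧ B.2 < 3) :
    S.E w A * S.E w B = S.E w (mulM A B) ∧ (mulM A B).1 < 64 ∧ (mulM A B).2 < 3 := by
  obtain ⟨y, k⟩ := A
  obtain ⟨y', k'⟩ := B
  obtain ⟨hy, hk⟩ := hA
  obtain ⟨hy', hk'⟩ := hB
  have h3 : w ^ 3 = 1 := ho ▸ pow_orderOf_eq_one w
  unfold mulM E
  dsimp only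
  cases hq : qCode y'
  · obtain ⟨s1, s2⟩ := qCode_split y' hy' hq
    have hlt := m_ok _ hy' _ (inv_ok 35 (by norm_num)).1
    obtain ⟨l1, -⟩ := fk_lt (k := k) hlt s1
    simp only [Bool.false_eq_true, if_false]
    refine ⟨?_, m_ok _ hy _ (m_ok _ l1 _ (by norm_num)), Nat.mod_lt _ (by norm_num)⟩
    have hk35 : ∀ n : Nat, w ^ n * S.el 35 = S.el 35 * (w ^ 2) ^ n := fun n =>
      (SemiconjBy.pow_right (show SemiconjBy (S.el 35) (w ^ 2) w from h35.symm) n).eq.symm
    have hc := S.conj_pow_fk hmap hk hlt s1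
    rw [mul_inv_eq_iff_eq_mul] at hc
    rw [pow_mod_three h3]
    conv_lhs => rw [← s2, ← S.el_mul (m y' (inv 35)) 35]
    calc S.el y * w ^ k * (S.el (m y' (inv 35)) * S.el 35 * w ^ k')
        = S.el y * (w ^ k * S.el (m y' (inv 35))) * S.el 35 * w ^ k' := by
          simp only [mul_assoc]
      _ = S.el y * S.el (fk k (m y' (inv 35))) * (w ^ k * S.el 35) * w ^ k' := by
          rw [hc]; simp only [mul_assoc]
      _ = _ := by
          rw [hk35, ← pow_mul, ← S.el_mul, ← S.el_mul, add_comm k', pow_add]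
          simp only [mul_assoc]
  · obtain ⟨l1, -⟩ := fk_lt (k := k) hy' hq
    simp only [if_true]
    refine ⟨?_, m_ok _ hy _ l1, Nat.mod_lt _ (by norm_num)⟩
    have hc := S.conj_pow_fk hmap hk hy' hq
    rw [mul_inv_eq_iff_eq_mul] at hc
    rw [pow_mod_three h3, pow_add, ← S.el_mul]
    calc S.el y * w ^ k * (S.el y' * w ^ k') = S.el y * (w ^ k * S.el y') * w ^ k' := by
          simp only [mul_assoc]
      _ = _ := by rw [hc]; simp only [mul_assoc]

/-- The local data of the centraliser. -/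
theorem exists_loc (hcard : Nat.card (centralizer ({S.z} : Set G)) = 192)
    (hO : Cfsg.centralizerPPrimeCore 2 S.z = ⊥) : ∃ r s, M12U.Loc S.z r s := by
  classical
  obtain ⟨w, hw, ho, hmap⟩ := S.exists_omega hcard hO
  have h35 := conj35 hcard hw ho hmap
  set r := S.E w (4, 2) with hr
  set s := S.E w (0, 1) with hs
  have hE0 : S.E w (0, 0) = 1 := by rw [E, S.el_zero, pow_zero, mul_one]
  obtain ⟨i1, i2⟩ := lhM_inv
  have hrinv : r⁻¹ = S.E w (60, 2) := inv_eq_of_mul_eq_one_right (by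
    rw [hr, (S.E_mul ho hmap h35 (by norm_num) (by norm_num)).1, i1, hE0])
  have hsinv : s⁻¹ = S.E w (0, 2) := inv_eq_of_mul_eq_one_right (by
    rw [hs, (S.E_mul ho hmap h35 (by norm_num) (by norm_num)).1, i2, hE0])
  have hl : ∀ l, fl (M12U.LH r s) l = S.E w (lhM.getD l (0, 0)) ∧
      (lhM.getD l (0, 0)).1 < 64 ∧ (lhM.getD l (0, 0)).2 < 3 := by
    intro l
    match l with
    | 0 => exact ⟨hr, by simp [lhM], by simp [lhM]⟩
    | 1 => exact ⟨hrinv, by simp [lhM], by simp [lhM]⟩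
    | 2 => exact ⟨hs, by simp [lhM], by simp [lhM]⟩
    | 3 => exact ⟨hsinv, by simp [lhM], by simp [lhM]⟩
    | n + 4 =>
      have e : lhM.getD (n + 4) (0, 0) = (0, 0) := by simp [lhM]
      rw [e, hE0, fl_of_le _ (by simp [M12U.LH])]
      simp
  have hev : ∀ v, ev (M12U.LH r s) v = S.E w (evM v) ∧ (evM v).1 < 64 ∧ (evM v).2 < 3 := by
    intro v
    induction v with
    | nil => rw [ev_nil]; exact ⟨hE0.symm, by simp [evM], by simp [evM]⟩
    | cons l v ih =>
      obtain ⟨a1, a2⟩ := hl l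
      obtain ⟨b1, b2⟩ := ih
      obtain ⟨c1, c2⟩ := S.E_mul ho hmap h35 a2 b2
      rw [ev_cons, a1, b1, c1, evM]
      exact ⟨rfl, c2⟩
  obtain ⟨hrels, h41⟩ := rels_ok
  refine ⟨r, s, ⟨fun v hv => by rw [(hev v).1, hrels v hv, hE0], ?_, hcard, ?_⟩⟩
  · set K := Subgroup.closure {x | x ∈ M12U.LH r s} with hK
    have hmemE : ∀ v, S.E w (evM v) ∈ K := fun v => by
      rw [← (hev v).1]
      induction v with
      | nil => rw [ev_nil]; exact one_mem _
      | cons l v ih => rw [ev_cons]; exact mul_mem (mem_closure_fl l) ih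
    apply le_antisymm
    · rw [hK, closure_le]
      have hEC : ∀ A, S.E w A ∈ S.C := fun A =>
        mul_mem (S.P_le_C (S.el_mem _)) (pow_mem hw _)
      intro x hx
      simp only [M12U.LH, List.mem_cons, List.not_mem_nil, or_false, Set.mem_ofPred_eq] at hx
      rcases hx with rfl | rfl | rfl | rfl
      · exact hEC _
      · exact inv_mem (hEC _)
      · exact hEC _
      · exact inv_mem (hEC _)
    · intro g hg
      obtain ⟨y, hy, k, -, rfl⟩ := S.exists_el_pow hcard hw ho hg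
      obtain ⟨g5, g2, g16, g32, g35, gw⟩ := gens_words
      have mk : ∀ {v a}, evM v = (a, 0) → S.el a ∈ K := fun {v a} e => by
        simpa [e, E] using hmemE v
      have hwK : w ∈ K := by
        have := hmemE (M12U.pth 3)
        rwa [gw, E, S.el_zero, one_mul, pow_one] at this
      have hq : ∀ y < 64, qCode y = true → S.el y ∈ K := by
        intro y hy hq
        rw [← idx5_ok y hy hq]
        unfold ev5
        simp only [← S.el_mul]
        generalize idxTab.getD y 0 = e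
        have hs : ∀ i a, S.el a ∈ K → S.el (sel e i a) ∈ K := fun i a h => by
          unfold sel
          split_ifs
          · exact h
          · rw [S.el_zero]; exact one_mem _
        exact mul_mem (mul_mem (mul_mem (mul_mem (hs 0 5 (mk g5)) (hs 1 2 (mk g2)))
          (hs 2 16 (mk g16))) (hs 3 32 (mk g32))) (hs 4 10 (mk h41))
      refine mul_mem ?_ (pow_mem hwK k)
      cases hqy : qCode y
      · obtain ⟨s1, s2⟩ := qCode_split y hy hqy
        rw [← s2, ← S.el_mul]
        exact mul_mem (hq _ (m_ok _ hy _ (inv_ok 35 (by norm_num)).1) s1) (mk g35)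
      · exact hq y hy hqy
  · have := (hev (M12U.pth 41)).1
    rw [h41, E, pow_zero, mul_one, S.el_z] at this
    exact this.symm

end Setup

end CfsgLib.M12Type
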