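import Cfsg.Agent.Invol.ThompsonTransfer

/-!
Transfer to a quotient of order two of a subgroup of odd index, evaluated at elements whose powers
have all their conjugates in the subgroup on the same side.
-/

set_option autoImplicit false
set_option linter.unusedSectionVars false

namespace CfsgLib.M12Type

open Subgroup MulAction CfsgLib.ThompsonTransfer

variable {G : Type*} [Group G]

/-- The powers of the element have all their conjugates in `P` on the same side of `Q`. -/
def Stable (P Q : Subgroup G) (u : G) : Prop :=
  ∀ (k : ℕ) (c : G), c * u ^ k * c⁻¹ ∈ P → (c * u ^ k * c⁻¹ ∈ Q ↔ u ^ k ∈ Q)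

theorem exists_parity_hom [Finite G] (P Q : Subgroup G) (hP : Odd P.index) (hQ : Q.relIndex P = 2) :
    ∃ ψ : G →* Multiplicative (ZMod 2), ∀ u ∈ P, Stable P Q u → (ψ u = 1 ↔ u ∈ Q) := by
  classical
  set φ := parity (Q.subgroupOf P) hQ with hφ
  set a : Multiplicative (ZMod 2) := Multiplicative.ofAdd 1 with ha
  refine ⟨MonoidHom.transfer φ, fun u hu hst => ?_⟩
  have hsame : ∀ x y : P, ((x : G) ∈ Q ↔ (y : G) ∈ Q) → φ x = φ y := fun x y h => by
    by_cases hy : (y : G) ∈ Q
    · rw [parity_apply_mem hQ (mem_subgroupOf.2 hy), parity_apply_mem hQ (mem_subgroupOf.2 (h.2 hy))]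
    · rw [parity_apply_not_mem hQ (fun e => hy (mem_subgroupOf.1 e)),
        parity_apply_not_mem hQ (fun e => hy (h.1 (mem_subgroupOf.1 e)))]
  haveI : Fintype (Quotient (orbitRel (zpowers u) (G ⧸ P))) := Fintype.ofFinite _
  have key : MonoidHom.transfer φ u = φ ⟨u, hu⟩ := by
    rw [MonoidHom.transfer_eq_prod_quotient_orbitRel_zpowers_quot φ u]
    calc ∏ q : Quotient (orbitRel (zpowers u) (G ⧸ P)), _
        = ∏ q : Quotient (orbitRel (zpowers u) (G ⧸ P)),
            φ ⟨u, hu⟩ ^ Function.minimalPeriod (u • ·) q.out := by
          refine Finset.prod_congr rfl fun q _ => ?_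
          rw [← map_pow]
          refine hsame _ _ ?_
          set n := Function.minimalPeriod (u • ·) q.out
          have hfix : q.out.out⁻¹ * u ^ n * q.out.out ∈ P := by
            have h : u ^ n • q.out = q.out := by
              have := Function.isPeriodicPt_minimalPeriod (u • ·) q.out
              rwa [Function.IsPeriodicPt, Function.IsFixedPt, smul_iterate] at this
            rw [← QuotientGroup.out_eq' q.out, MulAction.Quotient.smul_mk, eq_comm, QuotientGroup.eq] at h
            rw [mul_assoc]
            exact h
          have h := hst n q.out.out⁻¹ (by rwa [inv_inv])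
          rw [inv_inv] at h
          simpa using h
      _ = φ ⟨u, hu⟩ ^ P.index := by rw [Finset.prod_pow_eq_pow_sum, ← index_eq_sum_minimalPeriod P u]
      _ = φ ⟨u, hu⟩ := by
          obtain ⟨k, hk⟩ := hP
          have h2 : ∀ x : Multiplicative (ZMod 2), x ^ 2 = 1 := by decide
          rw [hk, pow_succ, pow_mul, h2, one_pow, one_mul]
  rw [key]
  constructor
  · intro h
    by_contra hn
    rw [parity_apply_not_mem hQ (fun e => hn (mem_subgroupOf.1 e))] at h
    exact absurd h (by decide)
  · intro h
    exact parity_apply_mem hQ (mem_subgroupOf.2 h)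

end CfsgLib.M12Type
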