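import Cfsg.Agent.M12Type.LocalData
import Cfsg.Agent.M12Type.Transfer
import Cfsg.Agent.M12Type.FourSylow
import Mathlib.GroupTheory.SchurZassenhaus
import Mathlib.GroupTheory.IndexNormal

/-!
The centraliser of the central involution.
-/

set_option autoImplicit false
set_option linter.unusedSectionVars false
set_option linter.style.haveILetI false

namespace CfsgLib.M12Type

open Subgroup CfsgLib.GTwoFusion

universe u

variable {G : Type u} [Group G] [Finite G] [IsSimpleGroup G] {P : Sylow 2 G}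

namespace Setup

variable (S : Setup P)

theorem el_pw (x : Nat) : ∀ k, S.el x ^ k = S.el (pw x k)
  | 0 => by rw [pow_zero, pw, S.el_zero]
  | k + 1 => by rw [pow_succ, el_pw x k, pw, S.el_mul]

theorem el_pow {x : Nat} (hx : x < 64) (k : ℕ) : S.el x ^ k = S.el (pw x (k % 8)) := by
  rw [← S.el_pw]
  refine pow_eq_pow_mod k ?_
  rw [S.el_pw, (pw_ok x hx).1, S.el_zero]

/-- The maximal subgroup of equal parities. -/
def Q : Subgroup G where
  carrier := {g | ∃ x < 64, qCode x = true ∧ S.el x = g}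
  one_mem' := ⟨0, by norm_num, rfl, S.el_zero⟩
  mul_mem' := by
    rintro _ _ ⟨x, hx, hqx, rfl⟩ ⟨y, hy, hqy, rfl⟩
    exact ⟨m x y, m_ok x hx y hy, (qCode_ok.2.2.2 x hx hqx).2.2.1 y hy hqy, (S.el_mul x y).symm⟩
  inv_mem' := by
    rintro _ ⟨x, hx, hqx, rfl⟩
    exact ⟨inv x, (inv_ok x hx).1, (qCode_ok.2.2.2 x hx hqx).1, (S.el_inv hx).symm⟩

theorem el_mem_Q_iff {x : Nat} (hx : x < 64) : S.el x ∈ S.Q ↔ qCode x = true :=
  ⟨fun ⟨y, hy, hq, e⟩ => S.el_inj hy hx e ▸ hq, fun h => ⟨x, hx, h, rfl⟩⟩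

theorem Q_le : S.Q ≤ (P : Subgroup G) := fun _ ⟨x, _, _, e⟩ => e ▸ S.el_mem x

theorem z_mem_Q : S.z ∈ S.Q := ⟨10, by norm_num, qCode_ok.2.1, S.el_z⟩

theorem card_Q : Nat.card S.Q = 32 := by
  classical
  let L := (List.range 64).filter qCode
  have hL : ∀ {x}, x ∈ L.toFinset ↔ x < 64 ∧ qCode x = true := by simp [L]
  let f : L.toFinset → S.Q := fun x => ⟨S.el x, x, (hL.1 x.2).1, (hL.1 x.2).2, rfl⟩
  have hf : Function.Bijective f := by
    refine ⟨fun a b e => Subtype.ext (S.el_inj (hL.1 a.2).1 (hL.1 b.2).1 (congrArg Subtype.val e)), ?_⟩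
    rintro ⟨g, x, hx, hq, rfl⟩
    exact ⟨⟨x, hL.2 ⟨hx, hq⟩⟩, rfl⟩
  rw [← Nat.card_eq_of_bijective f hf, Nat.card_eq_finsetCard,
    List.toFinset_card_of_nodup (List.nodup_range.filter _)]
  decide

theorem index_Q : (S.Q.subgroupOf (P : Subgroup G)).index = 2 := by
  have h := card_mul_index (S.Q.subgroupOf (P : Subgroup G))
  rw [Nat.card_congr (subgroupOfEquivOfLe S.Q_le).toEquiv, S.card_Q, S.D.card] at h
  omega

/-- The centraliser of the central involution. -/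
def C : Subgroup G := centralizer ({S.z} : Set G)

theorem P_le_C : (P : Subgroup G) ≤ S.C := fun _ hg =>
  mem_centralizer_singleton_iff.2 (S.z_comm hg).symm

theorem mem_C {g : G} : g ∈ S.C ↔ g * S.z = S.z * g := mem_centralizer_singleton_iff

theorem sig_conj {c : G} (hc : c ∈ S.C) {x y : Nat} (hx : x < 64) (hy : y < 64)
    (h : c * S.el x * c⁻¹ = S.el y) : sig y = sig x := by
  have hz : c * S.el 10 * c⁻¹ = S.el 10 := by
    rw [S.el_z, S.mem_C.1 hc, mul_inv_cancel_right]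
  have key : ∀ {a b d : Nat}, a < 64 → b < 64 → d < 64 → c * S.el d * c⁻¹ = S.el d →
      c * S.el a * c⁻¹ = S.el b → (b == d) = (a == d) := by
    intro a b d ha hb hd hfix hab
    rw [Bool.eq_iff_iff, beq_iff_eq, beq_iff_eq]
    constructor
    · rintro rfl
      exact S.el_inj ha hd (mul_left_cancel (mul_right_cancel (hab.trans hfix.symm)))
    · rintro rfl
      exact S.el_inj hb hd (hab.symm.trans hfix)
  have h0 : c * S.el 0 * c⁻¹ = S.el 0 := by rw [S.el_zero, mul_one, mul_inv_cancel]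
  have h2 : c * S.el (m x x) * c⁻¹ = S.el (m y y) := by rw [← S.el_mul, ← S.el_mul, ← h]; group
  have h4 : c * S.el (m (m x x) (m x x)) * c⁻¹ = S.el (m (m y y) (m y y)) := by
    rw [← S.el_mul (m x x), ← S.el_mul (m y y), ← h2]; group
  have b2 := m_ok x hx x hx
  have c2 := m_ok y hy y hy
  unfold sig
  rw [key hx hy (by norm_num) h0 h, key hx hy (by norm_num) hz h, key b2 c2 (by norm_num) h0 h2,
    key b2 c2 (by norm_num) hz h2, key (m_ok _ b2 _ b2) (m_ok _ c2 _ c2) (by norm_num) h0 h4]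

theorem stable {u : S.C} {x : Nat} (hxs : x ∈ stableCodes) (hu : (u : G) = S.el x) :
    Stable ((P : Subgroup G).subgroupOf S.C) (S.Q.subgroupOf S.C) u := by
  intro k c hc
  have h := List.all_eq_true.1 stable_ok x hxs
  rw [Bool.and_eq_true, Nat.blt_eq] at h
  obtain ⟨hx, hst⟩ := h
  obtain ⟨y, hy, hye⟩ := S.exists_el (mem_subgroupOf.1 hc)
  have hu' : ((u ^ k : S.C) : G) = S.el (pw x (k % 8)) := by
    rw [SubgroupClass.coe_pow, hu, S.el_pow hx]
  have hlt := (pw_ok x hx).2 (k % 8) (Nat.mod_lt _ (by norm_num))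
  have he : (c : G) * S.el (pw x (k % 8)) * (c : G)⁻¹ = S.el y := by rw [← hu', hye]; rfl
  have h' := List.all_eq_true.1 (List.all_eq_true.1 hst (k % 8)
    (List.mem_range.2 (Nat.mod_lt _ (by norm_num)))) y (List.mem_range.2 hy)
  rw [beq_iff_eq.2 (S.sig_conj c.2 hlt hy he), Bool.not_true, Bool.false_or, beq_iff_eq] at h'
  rw [mem_subgroupOf, mem_subgroupOf, ← hye, hu', S.el_mem_Q_iff hy, S.el_mem_Q_iff hlt, h']

theorem odd_index : Odd ((P : Subgroup G).subgroupOf S.C).index := by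
  haveI : Fact (Nat.Prime 2) := ⟨Nat.prime_two⟩
  refine (Nat.not_even_iff_odd.1 fun h => P.not_dvd_index (even_iff_two_dvd.1 h)).of_dvd_nat ?_
  exact Subgroup.relIndex_dvd_index_of_le S.P_le_C

/-- The transfer to the quotient by the maximal subgroup of equal parities. -/
theorem exists_ker : ∃ C0 : Subgroup S.C, C0.index = 2 ∧ S.Q.subgroupOf S.C ≤ C0 ∧
    (⟨S.el 17, S.P_le_C (S.el_mem 17)⟩ : S.C) ∉ C0 ∧
    ∀ g ∈ C0, (g : G) ∈ (P : Subgroup G) → (g : G) ∈ S.Q := by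
  have hrel : (S.Q.subgroupOf S.C).relIndex ((P : Subgroup G).subgroupOf S.C) = 2 := by
    rw [relIndex_subgroupOf S.P_le_C]
    exact S.index_Q
  obtain ⟨ψ, hψ⟩ := exists_parity_hom _ _ S.odd_index hrel
  have hst : ∀ x ∈ stableCodes, ψ ⟨S.el x, S.P_le_C (S.el_mem x)⟩ = 1 ↔ qCode x = true := by
    intro x hx
    rw [hψ ⟨S.el x, S.P_le_C (S.el_mem x)⟩ (mem_subgroupOf.2 (S.el_mem x)) (S.stable hx rfl),
      mem_subgroupOf, S.el_mem_Q_iff]
    have := List.all_eq_true.1 stable_ok x hx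
    rw [Bool.and_eq_true, Nat.blt_eq] at this
    exact this.1
  have hQ : S.Q.subgroupOf S.C ≤ ψ.ker := by
    intro g hg
    obtain ⟨x, hx, hq, e⟩ := mem_subgroupOf.1 hg
    obtain ⟨a, ha, b, hb, hqa, hqb, rfl⟩ := gen_ok x hx hq
    rw [← S.el_mul] at e
    have : g = (⟨S.el a, S.P_le_C (S.el_mem a)⟩ : S.C) * ⟨S.el b, S.P_le_C (S.el_mem b)⟩ :=
      Subtype.ext e.symm
    rw [MonoidHom.mem_ker, this, map_mul, (hst a ha).2 hqa, (hst b hb).2 hqb, one_mul]
  have h17 : (⟨S.el 17, S.P_le_C (S.el_mem 17)⟩ : S.C) ∉ ψ.ker := fun h => by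
    have := (hst 17 (List.mem_cons_self ..)).1 h
    rw [qCode_ok.2.2.1] at this
    exact Bool.false_ne_true this
  refine ⟨ψ.ker, ?_, hQ, h17, fun g hg hgP => ?_⟩
  · rw [index_ker]
    refine le_antisymm ?_ ?_
    · refine (card_le_card_group _).trans ?_
      simp
    · haveI : Nontrivial ψ.range := ⟨⟨⟨_, ⟨_, rfl⟩⟩, 1, fun e => h17 (congrArg Subtype.val e)⟩⟩
      exact Finite.one_lt_card
  · by_contra hgQ
    have h2 := S.index_Q
    have hmul : (g : G) * S.el 17 ∈ S.Q := by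
      have h17' : S.el 17 ∉ S.Q := by rw [S.el_mem_Q_iff (by norm_num), qCode_ok.2.2.1]; simp
      exact mem_subgroupOf.1 ((mul_mem_iff_of_index_two h2 (a := ⟨g, hgP⟩) (b := ⟨S.el 17, S.el_mem 17⟩)).2
        (iff_of_false (fun h => hgQ (mem_subgroupOf.1 h)) fun h => h17' (mem_subgroupOf.1 h)))
    have := hQ (show g * ⟨S.el 17, S.P_le_C (S.el_mem 17)⟩ ∈ S.Q.subgroupOf S.C from mem_subgroupOf.2 hmul)
    exact h17 ((mul_mem_cancel_left hg).1 this)

end Setup

end CfsgLib.M12Type
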