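import Cfsg.Agent.M12Type.Setup

/-!
Finite checks for the centraliser of the central involution.
-/

set_option autoImplicit false
set_option linter.unusedSectionVars false
set_option maxRecDepth 100000

namespace CfsgLib.M12Type

/-- A power of a code. -/
def pw (x : Nat) : Nat → Nat
  | 0 => 0
  | k + 1 => m (pw x k) x

/-- Membership in the maximal subgroup of equal parities. -/
def qCode (x : Nat) : Bool := (ci x + cj x) % 2 == 0

/-- Invariants of a code under an automorphism fixing the central involution. -/
def sig (x : Nat) : Bool × Bool × Bool × Bool × Bool :=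
  (x == 0, x == 10, m x x == 0, m x x == 10, m (m x x) (m x x) == 0)

theorem qCode_ok : qCode 0 = true ∧ qCode 10 = true ∧ qCode 17 = false ∧
    ∀ x < 64, qCode x = true → qCode (inv x) = true ∧ (m x x = 0 ∨ m x x = 10) ∧
      (∀ y < 64, qCode y = true → qCode (m x y) = true) ∧ m x 10 = m 10 x := by decide +kernel

theorem pw_ok : ∀ x < 64, pw x 8 = 0 ∧ ∀ k < 8, pw x k < 64 := by decide +kernel

/-- The codes to which the transfer is applied. -/
def stableCodes : List Nat := 17 :: (List.range 64).filter fun x => m x x == 10 && qCode x

theorem stable_ok : (stableCodes.all fun x => Nat.blt x 64 && (List.range 8).all fun k =>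
    (List.range 64).all fun y => !(sig y == sig (pw x k)) || (qCode y == qCode (pw x k))) = true := by
  decide +kernel

theorem gen_ok : ∀ x < 64, qCode x = true →
    ∃ a ∈ stableCodes, ∃ b ∈ stableCodes, qCode a = true ∧ qCode b = true ∧ x = m a b := by
  decide +kernel

/-- The canonical code of a coset of the centre. -/
def cn (x : Nat) : Nat := min x (m x 10)

/-- The canonical codes of the sixteen cosets. -/
def cnList : List Nat := (List.range 64).filter fun x => qCode x && cn x == x

theorem cn_ok : cnList.length = 16 ∧ cnList.Nodup ∧ cn 0 = 0 ∧ ∀ x < 64, qCode x = true →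
    cnList.contains (cn x) = true ∧ (x = cn x ∨ x = m (cn x) 10) ∧ cn (m x 10) = cn x ∧
    ∀ y < 64, qCode y = true → cn (m x y) = cn (m (cn x) (cn y)) := by decide +kernel

/-- The class of a coset. -/
def cls (r : Bool) (x : Nat) : Nat :=
  if x == 0 || x == 10 then 0 else if isInv x then (if Setup.sCode r x then 2 else 3) else 1

theorem cls_ok : ∀ r : Bool, ∀ x < 64, qCode x = true → cls r (m x 10) = cls r x := by decide +kernel

/-- Select a factor. -/
def sel (e i a : Nat) : Nat := if e / 2 ^ i % 2 = 1 then a else 0

/-- The product of a subset of four codes. -/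
def ev4 (a b c d e : Nat) : Nat := cn (m (m (m (sel e 0 a) (sel e 1 b)) (sel e 2 c)) (sel e 3 d))

theorem ev4_ok : (∀ x ∈ cnList, ∃ e < 16, ev4 5 2 16 32 e = x) ∧
    cn 5 = 5 ∧ cn 2 = 2 ∧ cn 16 = 16 ∧ cn 32 = 32 := by decide +kernel

/-- The position of a coset in terms of the four generators. -/
def idx (x : Nat) : Nat := ((List.range 16).find? fun e => ev4 5 2 16 32 e == x).getD 0

theorem idx_ok : ∀ x ∈ cnList, idx x < 16 ∧ ev4 5 2 16 32 (idx x) = x := by decide +kernel

/-- The map of cosets given by the images of the four generators. -/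
def app (a b c d x : Nat) : Nat := ev4 a b c d (idx x)

/-- The candidates for the image of a generator. -/
def cand (r : Bool) (g : Nat) : List Nat := cnList.filter fun x => cls r x == cls r g

theorem aut_ok : ∀ r : Bool, ∀ a ∈ cand r 5, ∀ b ∈ cand r 2, ∀ c ∈ cand r 16, ∀ d ∈ cand r 32,
    ((cnList.all fun x => cls r (app a b c d x) == cls r x) &&
      cnList.any fun x => x != 0 && app a b c d x == x) = true →
    (cnList.all fun x => app a b c d (app a b c d (app a b c d (app a b c d x))) == x) = true := by
  decide +kernel

/-- The codes of the elementary abelian group of order eight. -/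
def eList : List Nat := [0, 2, 8, 10, 32, 34, 40, 42]

theorem eList_ok : ∀ r : Bool, (∀ x < 64, qCode x = true → Setup.zCode r x = true → eList.contains x = true) ∧
    (∀ x ∈ eList, x < 64 ∧ qCode x = true ∧ (x = 0 ∨ Setup.zCode r x = true)) ∧
    (∀ x ∈ eList, ∀ y ∈ eList, eList.contains (m x y) = true ∧ m x y = m y x) ∧
    ∀ x ∈ eList, m x x = 0 := by decide +kernel

end CfsgLib.M12Type
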