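import Cfsg.Agent.M12U.Model
import Cfsg.Agent.M12U.Local
import Cfsg.Agent.GTwoFusion.Mk

/-!
The Sylow subgroup of the Mathieu group of degree twelve has the shape of order 64.
-/

set_option autoImplicit false
set_option linter.style.haveILetI false
set_option maxRecDepth 100000

namespace CfsgLib.M12Type

open CfsgLib.M12U Subgroup

/-- A shape of a subgroup gives one of an isomorphic subgroup. -/
theorem shape_of_mulEquiv {G H : Type*} [Group G] [Group H] {K : Subgroup G} {L : Subgroup H}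
    {d : ℕ} (D : GTwoFusion.Shape K d) (e : K ≃* L) : Nonempty (GTwoFusion.Shape L d) := by
  have h := (D.comap (le_refl K)).map (L.subtype.comp e.toMonoidHom)
    (L.subtype_injective.comp e.injective)
  have he : (K.subgroupOf K).map (L.subtype.comp e.toMonoidHom) = L := by
    rw [subgroupOf_self, ← Subgroup.map_map, Subgroup.map_top_of_surjective _ e.surjective,
      ← MonoidHom.range_eq_map, range_subtype]
  rw [← he]
  exact ⟨h⟩

/-- A power of a node. -/
noncomputable def pwN (x : Nat) : Nat → Nat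
  | 0 => 0
  | k + 1 => mH (pwN x k) x

theorem gens_ok : (pwN 33 4 = 0 ∧ pwN 120 4 = 0 ∧ mH 52 52 = 0 ∧ mH 59 59 = 0) ∧
    (mH 33 120 = mH 120 33 ∧ mH 59 52 = mH 52 59 ∧ mH 52 33 = mH 120 52 ∧
      mH 59 33 = mH (pwN 33 3) 59 ∧ mH 59 120 = mH (pwN 120 3) 59) := by
  decide +kernel

theorem gens_indep : ∀ i < 4, ∀ j < 4, pwN 33 i < 192 ∧ pwN 120 j < 192 ∧
    (mH (pwN 33 i) (pwN 120 j) = 0 → i = 0 ∧ j = 0) := by decide +kernel

theorem el_pwN {G : Type*} [Group G] {z r s : G} (L : Loc z r s) {x : Nat} (hx : x < 192) :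
    ∀ k, el r s x ^ k = el r s (pwN x k) ∧ pwN x k < 192
  | 0 => ⟨by rw [pow_zero, pwN, L.el_zero], by simp [pwN]⟩
  | k + 1 => by
    obtain ⟨h, hk⟩ := el_pwN L hx k
    exact ⟨by rw [pow_succ, h, pwN, L.el_mul hk hx], L.mH_lt hk hx⟩

/-- The Sylow subgroup of the Mathieu group of degree twelve. -/
theorem m12_shape (P : Sylow 2 Cfsg.Spor.M12) :
    Nonempty (GTwoFusion.Shape (P : Subgroup Cfsg.Spor.M12) 1) := by
  classical
  haveI : Fact (Nat.Prime 2) := ⟨Nat.prime_two⟩
  have L := loc0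
  have hp : ∀ {x}, x < 192 → ∀ k, el r0 s0 x ^ k = el r0 s0 (pwN x k) ∧ pwN x k < 192 :=
    fun hx => el_pwN L hx
  obtain ⟨⟨hu, hv, hs, hw⟩, huv, hws, hsu, hwu, hwv⟩ := gens_ok
  have hu4 : el r0 s0 33 ^ (4 * 1) = 1 := by rw [(hp (by norm_num) 4).1, hu, L.el_zero]
  have hv4 : el r0 s0 120 ^ (4 * 1) = 1 := by rw [(hp (by norm_num) 4).1, hv, L.el_zero]
  have hinv : ∀ {x}, x < 192 → el r0 s0 x ^ (4 * 1) = 1 → (el r0 s0 x)⁻¹ = el r0 s0 (pwN x 3) := fun hx h => by
    rw [← (hp hx 3).1]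
    exact inv_eq_of_mul_eq_one_right (by rw [← pow_succ']; exact h)
  obtain ⟨K, ⟨D⟩, -⟩ := GTwoFusion.exists_shape (d := 1) (u := el r0 s0 33) (v := el r0 s0 120) (s := el r0 s0 52)
    (w := el r0 s0 59) one_pos
    (by rw [L.el_mul (by norm_num) (by norm_num), L.el_mul (by norm_num) (by norm_num), huv])
    hu4 hv4
    (fun i j h => by
      have h33 : el r0 s0 33 ^ i = el r0 s0 33 ^ (i % 4) := pow_eq_pow_mod i hu4
      have h120 : el r0 s0 120 ^ j = el r0 s0 120 ^ (j % 4) := pow_eq_pow_mod j hv4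
      rw [h33, h120, (hp (by norm_num) _).1,
        (hp (by norm_num) _).1, L.el_mul (hp (by norm_num) _).2 (hp (by norm_num) _).2,
        L.el_eq_one_iff (L.mH_lt (hp (by norm_num) _).2 (hp (by norm_num) _).2)] at h
      obtain ⟨-, -, hk⟩ := gens_indep _ (Nat.mod_lt i (by norm_num)) _ (Nat.mod_lt j (by norm_num))
      exact ⟨Nat.dvd_of_mod_eq_zero (hk h).1, Nat.dvd_of_mod_eq_zero (hk h).2⟩)
    (by rw [L.el_mul (by norm_num) (by norm_num), hs, L.el_zero])
    (by rw [L.el_mul (by norm_num) (by norm_num), hw, L.el_zero])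
    (by rw [L.el_mul (by norm_num) (by norm_num), L.el_mul (by norm_num) (by norm_num), hws])
    (by rw [L.el_mul (by norm_num) (by norm_num), L.el_mul (by norm_num) (by norm_num), hsu])
    (by rw [hinv (by norm_num) hu4, L.el_mul (by norm_num) (by norm_num),
          L.el_mul (hp (by norm_num) _).2 (by norm_num), hwu])
    (by rw [hinv (by norm_num) hv4, L.el_mul (by norm_num) (by norm_num),
          L.el_mul (hp (by norm_num) _).2 (by norm_num), hwv])
  have hf : (Nat.card Cfsg.Spor.M12).factorization 2 = 6 := by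
    rw [CfsgLib.Golay.SylowCert.card_M12, show (95040 : ℕ) = 2 ^ 6 * 1485 by norm_num,
      Nat.factorization_mul (by norm_num) (by norm_num)]
    rw [Finsupp.add_apply, Nat.Prime.factorization_pow Nat.prime_two, Finsupp.single_eq_same,
      Nat.factorization_eq_zero_of_not_dvd (by norm_num)]
  set T : Sylow 2 Cfsg.Spor.M12 := Sylow.ofCard K (by rw [D.card, hf]; norm_num) with hT
  obtain ⟨f⟩ : Nonempty ((T : Subgroup Cfsg.Spor.M12) ≃* (P : Subgroup Cfsg.Spor.M12)) := ⟨Sylow.equiv T P⟩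
  exact shape_of_mulEquiv D f

end CfsgLib.M12Type
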