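import Cfsg.Agent.M12Type.OrderData
import Cfsg.Agent.M12Type.CentS

/-!
The centraliser of the central involution has order 192.
-/

set_option autoImplicit false
set_option linter.unusedSectionVars false
set_option linter.style.haveILetI false

namespace CfsgLib.M12Type

open Subgroup CfsgLib.GTwoFusion

universe u

variable {G : Type u} [Group G] [Finite G] [IsSimpleGroup G] {P : Sylow 2 G}

namespace Setup

variable (S : Setup P)

theorem C_normalises {g : G} (hg : g ∈ S.C) : ∀ q ∈ S.Q, g * q * g⁻¹ ∈ S.Q := by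
  obtain ⟨o, ho, n, -, rfl, hn⟩ := S.decomp.2 g (S.mem_C.1 hg)
  have h1 : o = 1 := mem_bot.1 (S.core_z ▸ ho)
  rw [h1, one_mul]
  exact hn

/-- An odd element of the centraliser of `z` centralising `Q` is trivial. -/
theorem eq_one_of_centralises {h : G} (hh : h ∈ S.C) (hodd : Odd (orderOf h))
    (hc : ∀ q ∈ S.Q, h * q = q * h) : h = 1 := by
  haveI : Fact (Nat.Prime 2) := ⟨Nat.prime_two⟩
  let H := S.C
  obtain ⟨C0, hC0i, hQC0, -, hPQ⟩ : ∃ C0 : Subgroup ↥H, C0.index = 2 ∧ S.Q.subgroupOf H ≤ C0 ∧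
      (⟨S.el 17, S.P_le_C (S.el_mem 17)⟩ : ↥H) ∉ C0 ∧
      ∀ g ∈ C0, (g : G) ∈ (P : Subgroup G) → (g : G) ∈ S.Q := S.exists_ker
  haveI : C0.Normal := normal_of_index_eq_two hC0i
  set D : Subgroup ↥H := C0 ⊓ centralizer ((S.Q.subgroupOf H : Subgroup ↥H) : Set ↥H) with hD
  haveI hQn : (S.Q.subgroupOf H).Normal := ⟨fun q hq g => mem_subgroupOf.2
    (S.C_normalises g.2 _ (mem_subgroupOf.1 hq))⟩
  haveI hCn : (centralizer ((S.Q.subgroupOf H : Subgroup ↥H) : Set ↥H)).Normal := inferInstance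
  haveI hDn : D.Normal := inferInstance
  set zH : ↥H := ⟨S.z, S.P_le_C (S.el_z ▸ S.el_mem 10)⟩ with hzH
  have hzD : zH ∈ D := mem_inf.2 ⟨hQC0 (mem_subgroupOf.2 S.z_mem_Q),
    mem_centralizer_iff.2 fun q hq => Subtype.ext (S.z_comm (S.Q_le (mem_subgroupOf.1 hq))).symm⟩
  have hPD : ∀ g : ↥H, g ∈ D → (g : G) ∈ (P : Subgroup G) → g = 1 ∨ g = zH := by
    intro g hg hgP
    obtain ⟨x, hx, hqx, hxe⟩ := hPQ g hg.1 hgP
    rcases orbit_ok.2 x hx hqx (fun y hy hqy => (S.el_commute_iff hx hy).1 (by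
      rw [hxe]
      exact (congrArg Subtype.val (mem_centralizer_iff.1 hg.2 ⟨S.el y, S.P_le_C (S.el_mem y)⟩
        (mem_subgroupOf.2 ((S.el_mem_Q_iff hy).2 hqy)))).symm)) with rfl | rfl
    · exact Or.inl (Subtype.ext (hxe.symm.trans S.el_zero))
    · exact Or.inr (Subtype.ext (hxe.symm.trans S.el_z))
  set Z : Subgroup ↥D := zpowers ⟨zH, hzD⟩ with hZ
  have hzo : orderOf (⟨zH, hzD⟩ : ↥D) = 2 := by
    rw [← orderOf_coe, ← orderOf_coe]; exact S.orderOf_z
  have hZc : ∀ v ∈ Z, ∀ d : ↥D, d * v = v * d := by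
    intro v hv d
    obtain ⟨k, rfl⟩ := mem_zpowers_iff.1 hv
    exact ((show Commute d (⟨zH, hzD⟩ : ↥D) from Subtype.ext (Subtype.ext (S.mem_C.1 d.1.2))).zpow_right k).eq
  haveI : Z.Normal := ⟨fun n hn g => by rw [hZc n hn g, mul_inv_cancel_right]; exact hn⟩
  have hZ2 : Nat.card Z = 2 := by rw [hZ, Nat.card_zpowers, hzo]
  have h4 : ¬ 4 ∣ Nat.card D := by
    intro h
    obtain ⟨K, hK⟩ := Sylow.exists_subgroup_card_pow_prime 2 (show 2 ^ 2 ∣ Nat.card D from h)
    have hKp : IsPGroup 2 (K.map D.subtype) := (IsPGroup.of_card hK).map _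
    obtain ⟨R, hR⟩ := hKp.exists_le_sylow
    obtain ⟨k, hk⟩ := MulAction.exists_smul_eq ↥H R (P.subtype S.P_le_C)
    let f : K → zpowers zH := fun x => ⟨k * ((x : ↥D) : ↥H) * k⁻¹, by
      have h1 : k * ((x : ↥D) : ↥H) * k⁻¹ ∈ (P.subtype S.P_le_C : Subgroup ↥H) := by
        rw [← hk]
        exact ⟨_, hR (mem_map_of_mem D.subtype x.2), rfl⟩
      rcases hPD _ (hDn.conj_mem _ (x : ↥D).2 k) h1 with e | e <;> rw [e]
      · exact one_mem _
      · exact mem_zpowers _⟩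
    have hf : Function.Injective f := fun a b e => by
      have := congrArg (fun t : zpowers zH => (t : ↥H)) e
      exact Subtype.ext (Subtype.ext (mul_left_cancel (mul_right_cancel this)))
    have := Nat.card_le_card_of_injective f hf
    rw [hK, Nat.card_zpowers, ← orderOf_coe] at this
    rw [show orderOf ((zH : ↥H) : G) = 2 from S.orderOf_z] at this
    norm_num at this
  have hidx : Odd Z.index := by
    refine Nat.not_even_iff_odd.1 fun he => h4 ?_
    obtain ⟨j, hj⟩ := he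
    exact ⟨j, by rw [← card_mul_index Z, hZ2, hj]; ring⟩
  have hcore : ∀ v : ↥D ⧸ Z, v ∈ Cfsg.oddCore (↥D ⧸ Z) := fun v =>
    Solvable.le_pPrimeCore 2 (inferInstance : (⊤ : Subgroup (↥D ⧸ Z)).Normal)
      (by rw [card_top, ← index_eq_card]; exact Nat.coprime_two_right.2 hidx) (mem_top v)
  have hle : (Cfsg.pPrimeCore 2 ↥D).map D.subtype ≤ Cfsg.pPrimeCore 2 ↥H :=
    Solvable.le_pPrimeCore 2 (normal_map_core D) (by
      rw [card_map_of_injective D.subtype_injective]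
      exact Solvable.coprime_card_pPrimeCore (G := ↥D) 2)
  have hhC0 : (⟨h, hh⟩ : ↥H) ∈ C0 := by
    obtain ⟨j, hj⟩ := hodd
    have h1 : ((⟨h, hh⟩ : ↥H) ^ 2) ^ (j + 1) = ⟨h, hh⟩ := by
      rw [← pow_mul, show 2 * (j + 1) = orderOf h + 1 by omega, pow_succ]
      exact Subtype.ext (by simp [pow_orderOf_eq_one])
    rw [← h1]
    exact pow_mem (sq_mem_of_index_two hC0i _) _
  have hhD : (⟨h, hh⟩ : ↥H) ∈ D := mem_inf.2 ⟨hhC0, mem_centralizer_iff.2 fun q hq =>
    Subtype.ext (hc _ (mem_subgroupOf.1 hq)).symm⟩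
  obtain ⟨v, hv, hvo⟩ := exists_odd_lift hZ2 (fun v hv d => (hZc v hv d)) (hcore (QuotientGroup.mk' Z ⟨_, hhD⟩))
  have h1 : (((⟨_, hhD⟩ * v : ↥D) : ↥H) : G) ∈ θ S.z := ⟨_, hle (mem_map_of_mem _ hvo), rfl⟩
  rw [S.core_z, mem_bot] at h1
  by_contra hne
  have hv2 : v * v = 1 := by
    rw [← pow_two, ← hZ2]
    exact congrArg Subtype.val (pow_card_eq_one' (x := (⟨v, hv⟩ : Z)))
  have hhv : h * ((v : ↥H) : G) = 1 := h1
  have hh2 : h * h = 1 := by
    rw [eq_inv_of_mul_eq_one_left hhv, ← _root_.mul_inv_rev]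
    rw [show ((v : ↥H) : G) * ((v : ↥H) : G) = 1 from congrArg (fun t : ↥D => ((t : ↥H) : G)) hv2, inv_one]
  exact absurd (Odd.of_dvd_nat hodd (Invol.orderOf_eq_two hh2 hne ▸ dvd_rfl : 2 ∣ orderOf h)) (by decide)

/-- The stabiliser of a coset of central involutions is the Sylow subgroup. -/
theorem stab {g : G} (hg : g ∈ S.C)
    (hfix : g * S.el 2 * g⁻¹ = S.el 2 ∨ g * S.el 2 * g⁻¹ = S.el 2 * S.z) :
    ∃ k : ℕ, g ^ 2 ^ k = 1 := by
  obtain ⟨k, m', hm, hkm⟩ := Nat.exists_eq_two_pow_mul_odd (orderOf_pos g).ne'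
  refine ⟨k, ?_⟩
  set h := g ^ 2 ^ k with hh
  have hhodd : Odd (orderOf h) :=
    hm.of_dvd_nat (orderOf_dvd_of_pow_eq_one (by rw [hh, ← pow_mul, ← hkm, pow_orderOf_eq_one]))
  have hhC : h ∈ S.C := pow_mem hg _
  have hz2 : S.z * S.z = 1 := Invol.mul_self_eq_one S.orderOf_z
  have hstep : ∀ x : G, x ∈ S.C → ∀ q : G, (x * q * x⁻¹ = q ∨ x * q * x⁻¹ = q * S.z) →
      ∀ n : ℕ, x ^ n * q * (x ^ n)⁻¹ = q ∨ x ^ n * q * (x ^ n)⁻¹ = q * S.z := by
    intro x hx q hq n
    induction n with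
    | zero => left; simp
    | succ n ih =>
      have hxz : x * S.z * x⁻¹ = S.z := by rw [S.mem_C.1 hx, mul_inv_cancel_right]
      have e : x ^ (n + 1) * q * (x ^ (n + 1))⁻¹ = x * (x ^ n * q * (x ^ n)⁻¹) * x⁻¹ := by
        rw [pow_succ']; group
      rcases ih with e' | e' <;> rw [e, e']
      · exact hq
      · rw [← conj_mul, hxz]
        rcases hq with h | h <;> rw [h]
        · exact Or.inr rfl
        · exact Or.inl (by rw [mul_assoc, hz2, mul_one])
  have h4 := S.four_fix hhC (S.C_normalises hhC) (show 2 < 64 by norm_num) (show qCode 2 = true by decide)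
    (by decide) (hstep g hg _ hfix _)
  refine S.eq_one_of_centralises hhC hhodd fun q hq => ?_
  have h8 : h ^ (2 ^ 3) ∈ centralizer ({q} : Set G) := by
    refine mem_centralizer_singleton_iff.2 (mul_inv_eq_iff_eq_mul.1 ?_)
    have hz : h ^ 4 * S.z * (h ^ 4)⁻¹ = S.z := by
      rw [S.mem_C.1 (pow_mem hhC 4), mul_inv_cancel_right]
    have e : h ^ (2 ^ 3) * q * (h ^ (2 ^ 3))⁻¹ = h ^ 4 * (h ^ 4 * q * (h ^ 4)⁻¹) * (h ^ 4)⁻¹ := by
      rw [show (2 : ℕ) ^ 3 = 4 + 4 from rfl, pow_add]; group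
    rcases h4 q hq with e' | e' <;> rw [e, e']
    · exact e'
    · rw [← conj_mul, hz, e', mul_assoc, hz2, mul_one]
  have ho : h ^ orderOf h ∈ centralizer ({q} : Set G) := by rw [pow_orderOf_eq_one]; exact one_mem _
  exact mem_centralizer_singleton_iff.1 (mem_of_pow_mem
    ((Nat.coprime_two_left.2 hhodd).pow_left 3 : Nat.Coprime (2 ^ 3) (orderOf h)) h8 ho)

theorem card_C : Nat.card S.C = 64 ∨ Nat.card S.C = 192 := by
  classical
  haveI : Fact (Nat.Prime 2) := ⟨Nat.prime_two⟩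
  let stabC : Subgroup ↥S.C :=
    { carrier := {g | (g : G) * S.el 2 * (g : G)⁻¹ = S.el 2 ∨ (g : G) * S.el 2 * (g : G)⁻¹ = S.el 2 * S.z}
      one_mem' := Or.inl (by simp)
      mul_mem' := by
        intro a b ha hb
        have hz : (a : G) * S.z * (a : G)⁻¹ = S.z := by rw [S.mem_C.1 a.2, mul_inv_cancel_right]
        have e : ((a * b : ↥S.C) : G) * S.el 2 * ((a * b : ↥S.C) : G)⁻¹ =
            (a : G) * ((b : G) * S.el 2 * (b : G)⁻¹) * (a : G)⁻¹ := by rw [Subgroup.coe_mul]; group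
        show _ ∨ _
        rcases hb with h | h <;> rw [e, h]
        · exact ha
        · rw [← conj_mul, hz]
          rcases ha with h' | h' <;> rw [h']
          · exact Or.inr rfl
          · exact Or.inl (by rw [mul_assoc, Invol.mul_self_eq_one S.orderOf_z, mul_one])
      inv_mem' := by
        intro a ha
        have hz : (a : G)⁻¹ * S.z * (a : G) = S.z := by
          rw [mul_assoc, ← S.mem_C.1 a.2, inv_mul_cancel_left]
        show _ ∨ _
        rw [Subgroup.coe_inv, inv_inv]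
        rcases ha with h | h
        · refine Or.inl ?_
          calc (a : G)⁻¹ * S.el 2 * (a : G) = (a : G)⁻¹ * ((a : G) * S.el 2 * (a : G)⁻¹) * (a : G) := by rw [h]
            _ = S.el 2 := by group
        · refine Or.inr ?_
          have h' : S.el 2 = (a : G)⁻¹ * S.el 2 * (a : G) * S.z := by
            calc S.el 2 = (a : G)⁻¹ * ((a : G) * S.el 2 * (a : G)⁻¹) * (a : G) := by group
              _ = (a : G)⁻¹ * S.el 2 * (a : G) * ((a : G)⁻¹ * S.z * (a : G)) := by rw [h]; group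
              _ = _ := by rw [hz]
          conv_rhs => rw [h', mul_assoc, Invol.mul_self_eq_one S.orderOf_z, mul_one] }
  have hPst : (P : Subgroup G).subgroupOf S.C ≤ stabC := by
    intro g hg
    obtain ⟨x, hx, hxe⟩ := S.exists_el (mem_subgroupOf.1 hg)
    show _ ∨ _
    rw [← hxe, S.el_conj hx, ← S.el_z, S.el_mul]
    rcases (show ∀ x < 64, conj x 2 = 2 ∨ conj x 2 = m 2 10 by decide +kernel) x hx with e | e <;> rw [e]
    · exact Or.inl rfl
    · exact Or.inr rfl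
  have hstp : IsPGroup 2 stabC := fun g => by
    obtain ⟨k, hk⟩ := S.stab g.1.2 g.2
    exact ⟨k, Subtype.ext (Subtype.ext (by simpa using hk))⟩
  have heq : stabC = (P : Subgroup G).subgroupOf S.C := (P.subtype S.P_le_C).3 hstp hPst
  have hcardP : Nat.card ((P : Subgroup G).subgroupOf S.C) = 64 := by
    rw [Nat.card_congr (subgroupOfEquivOfLe S.P_le_C).toEquiv, S.D.card]
    norm_num
  have hcard := card_mul_index ((P : Subgroup G).subgroupOf S.C)
  rw [hcardP] at hcard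
  have key : ∀ g : ↥S.C, ∃ x ∈ orbit, ((g : G) * S.el 2 * (g : G)⁻¹ = S.el x ∨
      (g : G) * S.el 2 * (g : G)⁻¹ = S.el x * S.z) := by
    intro g
    obtain ⟨y, hy, hqy, hye⟩ := S.C_normalises g.2 (S.el 2) ((S.el_mem_Q_iff (by norm_num)).2 (by decide))
    have hz2 : IsConj S.z (S.el 2) := (S.isConj_z_iff (by norm_num)).2
      (((eList_ok S.r).2.1 2 (by decide)).2.2.resolve_left (by norm_num))
    have hzy : IsConj S.z (S.el y) := hye ▸ hz2.trans (isConj_iff.2 ⟨_, rfl⟩)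
    have hyE := List.contains_iff_mem.1 ((eList_ok S.r).1 y hy hqy ((S.isConj_z_iff hy).1 hzy))
    rcases orbit_ok.1 y hyE with rfl | rfl | h
    · exfalso
      rw [S.el_zero, isConj_one_left] at hzy
      exact Invol.ne_one S.orderOf_z hzy
    · exfalso
      rw [S.el_z] at hye
      have h2 : (g : G) * S.el 2 * (g : G)⁻¹ = (g : G) * S.el 10 * (g : G)⁻¹ := by
        rw [← hye, S.el_z, S.mem_C.1 g.2, mul_inv_cancel_right]
      exact absurd (S.el_inj (by norm_num) (by norm_num) (mul_left_cancel (mul_right_cancel h2))) (by norm_num)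
    · have hc := cnList_mem (cn_mem hy hqy)
      refine ⟨cn y, List.contains_iff_mem.1 h, ?_⟩
      rw [← hye]
      exact (S.cn_eq_iff hc.1 hc.2.1 hy hqy).1 hc.2.2
  choose f hf hfe using key
  have hinj : Function.Injective (fun q : ↥S.C ⧸ ((P : Subgroup G).subgroupOf S.C) =>
      (⟨f q.out, List.mem_toFinset.2 (hf q.out)⟩ : orbit.toFinset)) := by
    intro a b e
    have e' : f a.out = f b.out := congrArg Subtype.val e
    have hmem : (a.out)⁻¹ * b.out ∈ stabC := by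
      show _ ∨ _
      have hz : ((a.out : ↥S.C) : G)⁻¹ * S.z * ((a.out : ↥S.C) : G) = S.z := by
        rw [mul_assoc, ← S.mem_C.1 a.out.2, inv_mul_cancel_left]
      have hz2 := Invol.mul_self_eq_one S.orderOf_z
      have heq : ((a.out⁻¹ * b.out : ↥S.C) : G) * S.el 2 * ((a.out⁻¹ * b.out : ↥S.C) : G)⁻¹ =
          ((a.out : ↥S.C) : G)⁻¹ * (((b.out : ↥S.C) : G) * S.el 2 * ((b.out : ↥S.C) : G)⁻¹) *
            ((a.out : ↥S.C) : G) := by
        rw [Subgroup.coe_mul, Subgroup.coe_inv]; group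
      have h1 := hfe a.out
      have h2 := hfe b.out
      rw [← e'] at h2
      have hrel : ((b.out : ↥S.C) : G) * S.el 2 * ((b.out : ↥S.C) : G)⁻¹ =
            ((a.out : ↥S.C) : G) * S.el 2 * ((a.out : ↥S.C) : G)⁻¹ ∨
          ((b.out : ↥S.C) : G) * S.el 2 * ((b.out : ↥S.C) : G)⁻¹ =
            ((a.out : ↥S.C) : G) * S.el 2 * ((a.out : ↥S.C) : G)⁻¹ * S.z := by
        rcases h1 with h1 | h1 <;> rcases h2 with h2 | h2 <;> rw [h1, h2]
        · exact Or.inl rfl
        · exact Or.inr rfl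
        · exact Or.inr (by rw [mul_assoc, hz2, mul_one])
        · exact Or.inl rfl
      rw [heq]
      rcases hrel with h | h <;> rw [h]
      · exact Or.inl (by group)
      · refine Or.inr ?_
        conv_rhs => rw [← hz]
        group
    rw [heq] at hmem
    rw [← QuotientGroup.out_eq' a, ← QuotientGroup.out_eq' b]
    exact QuotientGroup.eq.2 hmem
  have h3 := Nat.card_le_card_of_injective _ hinj
  rw [← index_eq_card, Nat.card_eq_finsetCard, show orbit.toFinset.card = 3 by decide] at h3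
  have hodd := S.odd_index
  have hpos : 0 < ((P : Subgroup G).subgroupOf S.C).index := Nat.pos_of_ne_zero index_ne_zero_of_finite
  obtain ⟨j, hj⟩ := hodd
  rcases (show j = 0 ∨ j = 1 by omega) with rfl | rfl <;> omega

theorem extremal_s {x : G} (hx : IsConj S.D.s x) :
    ∃ g : G, g * x * g⁻¹ = S.D.s ∧
      ∀ c ∈ (P : Subgroup G), c * x = x * c → g * c * g⁻¹ ∈ (P : Subgroup G) := by
  haveI : Fact (Nat.Prime 2) := ⟨Nat.prime_two⟩
  obtain ⟨g, hg⟩ := isConj_iff.1 hx.symm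
  set H := centralizer ({S.D.s} : Set G)
  set K := ((P : Subgroup G) ⊓ centralizer ({x} : Set G)).map (MulAut.conj g).toMonoidHom
  have hKp : IsPGroup 2 K := (P.isPGroup'.to_le inf_le_left).map _
  have hKH : K ≤ H := by
    rintro _ ⟨c, hc, rfl⟩
    refine mem_centralizer_singleton_iff.2 ?_
    show g * c * g⁻¹ * S.D.s = S.D.s * (g * c * g⁻¹)
    rw [← hg, conj_mul, conj_mul, mem_centralizer_singleton_iff.1 (mem_inf.1 hc).2]
  have hKp' : IsPGroup 2 (K.subgroupOf H) := hKp.comap_of_injective _ (subtype_injective _)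
  obtain ⟨R, hR⟩ := hKp'.exists_le_sylow
  obtain ⟨k, hk⟩ := MulAction.exists_smul_eq ↥H R S.RS
  refine ⟨(k : G) * g, ?_, fun c hc hcx => ?_⟩
  · calc (k : G) * g * x * ((k : G) * g)⁻¹ = (k : G) * (g * x * g⁻¹) * (k : G)⁻¹ := by group
      _ = S.D.s := by rw [hg, mem_centralizer_singleton_iff.1 k.2, mul_inv_cancel_right]
  · have hmem : g * c * g⁻¹ ∈ K := ⟨c, mem_inf.2 ⟨hc, mem_centralizer_singleton_iff.2 hcx⟩, rfl⟩
    have h1 : k * ⟨_, hKH hmem⟩ * k⁻¹ ∈ (S.RS : Subgroup ↥H) := by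
      rw [← hk]
      exact ⟨⟨_, hKH hmem⟩, hR (mem_subgroupOf.2 hmem), rfl⟩
    have h2 : (k : G) * (g * c * g⁻¹) * (k : G)⁻¹ ∈ (P : Subgroup G) := S.mem_RS.1 h1
    rwa [show (k : G) * g * c * ((k : G) * g)⁻¹ = (k : G) * (g * c * g⁻¹) * (k : G)⁻¹ by group]

/-- The centraliser of the four group in the Sylow subgroup. -/
def R32 : Subgroup G := (P : Subgroup G) ⊓ centralizer ({S.el 2} : Set G)

theorem el_mem_R32 {x : Nat} (hx : x < 64) : S.el x ∈ S.R32 ↔ m x 2 = m 2 x := by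
  rw [R32, mem_inf, mem_centralizer_singleton_iff, S.el_commute_iff hx (by norm_num)]
  exact and_iff_right (S.el_mem x)

theorem P_normal_R32 {g c : G} (hg : g ∈ (P : Subgroup G)) (hc : c ∈ S.R32) :
    g * c * g⁻¹ ∈ S.R32 := by
  obtain ⟨x, hx, rfl⟩ := S.exists_el hg
  obtain ⟨y, hy, rfl⟩ := S.exists_el hc.1
  rw [S.el_conj hx, S.el_mem_R32 (conj_ok x hx y hy)]
  exact centV_ok.2.1 x hx y hy ((S.el_mem_R32 hy).1 hc)

/-- An element normalising the centraliser of the four group and moving a non-central involution of it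
to the central one. -/
theorem exists_normalising {e : Nat} (he : e = 2 ∨ e = 8) :
    ∃ h : G, h * S.el e * h⁻¹ = S.z ∧ ∀ c ∈ S.R32, h * c * h⁻¹ ∈ S.R32 := by
  have hz2 : IsConj S.z (S.el 2) := (S.isConj_z_iff (by norm_num)).2
    (((eList_ok S.r).2.1 2 (by decide)).2.2.resolve_left (by norm_num))
  obtain ⟨g, hg2, hg⟩ := S.D.exists_move (y := S.el 2) hz2
  have hgR : ∀ c ∈ S.R32, g * c * g⁻¹ ∈ S.R32 := by
    intro c hc
    have hc2 : c * S.el 2 = S.el 2 * c := mem_centralizer_singleton_iff.1 hc.2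
    have h44 : S.el 4 * S.el 2 = S.el 2 * S.el 4 :=
      (S.el_commute_iff (by norm_num) (by norm_num)).2 centV_ok.2.2.2.1
    obtain ⟨x, hx, hxe⟩ := S.exists_el (hg _ (S.el_mem 4) h44)
    have h8 : g * S.el 8 * g⁻¹ = S.el (m x x) := by
      rw [← S.el_mul, hxe, conj_mul, S.el_mul, centV_ok.2.2.2.2.1]
    obtain ⟨y, hy, hye⟩ := S.exists_el (hg c hc.1 hc2)
    have hc8 : c * S.el 8 = S.el 8 * c := by
      obtain ⟨v, hv, rfl⟩ := S.exists_el hc.1
      exact (S.el_commute_iff hv (by norm_num)).2 (centV_ok.1 v hv ((S.el_mem_R32 hv).1 hc))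
    have hcom : S.el y * S.el (m x x) = S.el (m x x) * S.el y := by
      rw [← h8, hye, conj_mul, conj_mul, hc8]
    have hyz : S.el y * S.z = S.z * S.el y := (S.z_comm (S.el_mem y)).symm
    have hgz : g * S.z * g⁻¹ = S.z * S.el (m x x) := by
      rw [show S.z = S.el 2 * S.el 8 by rw [S.el_mul, ← S.el_z]; rfl, ← conj_mul, h8,
        show g * S.el 2 * g⁻¹ = S.z from hg2, S.el_mul, ← S.el_z]
      rfl
    rw [← hye, S.el_mem_R32 hy]
    refine (S.el_commute_iff hy (by norm_num)).1 ?_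
    have hsq : m (m x x) (m x x) = 0 := (S.el_eq_one_iff (m_ok _ (m_ok x hx x hx) _ (m_ok x hx x hx))).1 (by
      rw [← S.el_mul (m x x) (m x x), ← h8, conj_mul, S.el_mul, show m 8 8 = 0 by decide, S.el_zero,
        mul_one, mul_inv_cancel])
    rcases centV_ok.2.2.1 x hx hsq with e0 | e0 | e0 | e0
    · exfalso
      rw [e0, S.el_zero, conj_eq_one_iff, S.el_eq_one_iff (by norm_num)] at h8
      norm_num at h8
    · rwa [e0] at hcom
    · rw [e0] at hcom
      rw [show S.el 2 = S.z * S.el 8 by rw [← S.el_z, S.el_mul]; rfl, ← mul_assoc, hyz, mul_assoc,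
        hcom, ← mul_assoc]
    · exfalso
      rw [e0, S.el_z] at h8
      exact absurd (S.el_inj (by norm_num) (by norm_num) (mul_left_cancel (mul_right_cancel (h8.trans hg2.symm)))) (by norm_num)
  rcases he with rfl | rfl
  · exact ⟨g, hg2, hgR⟩
  · refine ⟨g * S.el 16, ?_, fun c hc => ?_⟩
    · calc g * S.el 16 * S.el 8 * (g * S.el 16)⁻¹ = g * (S.el 16 * S.el 8 * (S.el 16)⁻¹) * g⁻¹ := by group
        _ = S.z := by rw [S.el_conj (by norm_num), centV_ok.2.2.2.2.2.2.1]; exact hg2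
    · have h := hgR _ (S.P_normal_R32 (S.el_mem 16) hc)
      rwa [show g * (S.el 16 * c * (S.el 16)⁻¹) * g⁻¹ = g * S.el 16 * c * (g * S.el 16)⁻¹ by group] at h

theorem card_C_eq : Nat.card S.C = 192 := by
  refine S.card_C.resolve_left fun h64 => ?_
  haveI : Fact (Nat.Prime 2) := ⟨Nat.prime_two⟩
  have hCP : S.C ≤ (P : Subgroup G) := by
    intro g hg
    have := eq_of_le_of_card_ge S.P_le_C (by rw [h64, S.D.card]; norm_num)
    rwa [this]
  have hR : S.R32.relIndex (P : Subgroup G) = 2 := by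
    classical
    have hcard : Nat.card S.R32 = 32 := by
      set L := (List.range 64).filter fun x => m x 2 == m 2 x with hL
      have hmem : ∀ {x}, x ∈ L.toFinset ↔ x < 64 ∧ m x 2 = m 2 x := by simp [hL]
      let f : L.toFinset → S.R32 := fun x => ⟨S.el x, (S.el_mem_R32 (hmem.1 x.2).1).2 (hmem.1 x.2).2⟩
      have hf : Function.Bijective f := by
        refine ⟨fun a b e => Subtype.ext (S.el_inj (hmem.1 a.2).1 (hmem.1 b.2).1 (congrArg Subtype.val e)), ?_⟩
        rintro ⟨g, hg⟩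
        obtain ⟨x, hx, rfl⟩ := S.exists_el hg.1
        exact ⟨⟨x, hmem.2 ⟨hx, (S.el_mem_R32 hx).1 hg⟩⟩, rfl⟩
      rw [← Nat.card_eq_of_bijective f hf, Nat.card_eq_finsetCard,
        List.toFinset_card_of_nodup (List.nodup_range.filter _)]
      exact centV_ok.2.2.2.2.2.2.2
    have h := card_mul_index (S.R32.subgroupOf (P : Subgroup G))
    rw [Nat.card_congr (subgroupOfEquivOfLe (show S.R32 ≤ (P : Subgroup G) from inf_le_left)).toEquiv, hcard, S.D.card] at h
    show (S.R32.subgroupOf (P : Subgroup G)).index = 2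
    omega
  have hodd : Odd (P : Subgroup G).index :=
    Nat.not_even_iff_odd.1 fun h => P.not_dvd_index (even_iff_two_dvd.1 h)
  have hsR : S.D.s ∉ S.R32 := by
    rw [← S.el_s, S.el_mem_R32 (by norm_num)]
    exact centV_ok.2.2.2.2.2.1
  rcases ThompsonTransfer.thompson_transfer (P : Subgroup G) S.R32 hodd hR S.s_sq' with
    ⟨M, hMn, hMi, -⟩ | ⟨q, hq⟩
  · exact S.D.no_index_two M hMn hMi
  set r := q * S.D.s * q⁻¹ with hr
  obtain ⟨g, hgr, hg⟩ := S.extremal_s (x := r) (isConj_iff.2 ⟨q, rfl⟩)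
  have hr2 : r * S.el 2 = S.el 2 * r := mem_centralizer_singleton_iff.1 hq.2
  have hr8 : r * S.el 8 = S.el 8 * r := by
    obtain ⟨v, hv, hve⟩ := S.exists_el hq.1
    rw [← hve] at hr2 ⊢
    exact (S.el_commute_iff hv (by norm_num)).2
      (centV_ok.1 v hv ((S.el_commute_iff hv (by norm_num)).1 hr2))
  have img : ∀ e, e = 2 ∨ e = 8 → ∃ f, (f = 10 ∨ f = 32 ∨ f = 42) ∧ g * S.el e * g⁻¹ = S.el f := by
    intro e he
    have hre : r * S.el e = S.el e * r := by rcases he with rfl | rfl <;> assumption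
    obtain ⟨f, hf, hfe⟩ := S.exists_el (hg _ (S.el_mem e) hre.symm)
    have hlt : e < 64 := by omega
    have hze : IsConj S.z (S.el e) := (S.isConj_z_iff hlt).2
      (((eList_ok S.r).2.1 e (by rcases he with rfl | rfl <;> decide)).2.2.resolve_left (by omega))
    have hzf : IsConj S.z (S.el f) := hze.trans (isConj_iff.2 ⟨g, hfe.symm⟩)
    refine ⟨f, (fours_ok S.r).2.2 f hf ?_ ((S.isConj_z_iff hf).1 hzf), hfe.symm⟩
    refine (S.el_commute_iff hf (by norm_num)).1 ?_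
    rw [S.el_s, hfe, ← hgr, conj_mul, conj_mul, hre]
  obtain ⟨f2, hf2, e2⟩ := img 2 (Or.inl rfl)
  obtain ⟨f8, hf8, e8⟩ := img 8 (Or.inr rfl)
  have hne : f2 ≠ f8 := by
    rintro rfl
    exact absurd (S.el_inj (by norm_num) (by norm_num)
      (mul_left_cancel (mul_right_cancel (e2.trans e8.symm)))) (by norm_num)
  have hy : ∃ e, (e = 2 ∨ e = 8 ∨ e = 10) ∧ g * S.el e * g⁻¹ = S.z := by
    by_cases h2 : f2 = 10
    · exact ⟨2, Or.inl rfl, by rw [e2, h2, S.el_z]⟩
    by_cases h8 : f8 = 10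
    · exact ⟨8, Or.inr (Or.inl rfl), by rw [e8, h8, S.el_z]⟩
    refine ⟨10, Or.inr (Or.inr rfl), ?_⟩
    have e10 : S.el 10 = S.el 2 * S.el 8 := by rw [S.el_mul]; rfl
    have hm : m f2 f8 = 10 := by
      rcases hf2 with rfl | rfl | rfl <;> rcases hf8 with rfl | rfl | rfl <;> first | omega | rfl
    rw [e10, ← conj_mul, e2, e8, S.el_mul, hm, S.el_z]
  obtain ⟨e, he, hge⟩ := hy
  by_cases h10 : e = 10
  · subst h10
    rw [S.el_z] at hge
    have hgP : g ∈ (P : Subgroup G) := hCP (S.mem_C.2 (mul_inv_eq_iff_eq_mul.1 hge))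
    exact hsR (hgr ▸ S.P_normal_R32 hgP hq)
  obtain ⟨h, hhe, hh⟩ := S.exists_normalising (e := e) (by omega)
  have hkP : h * g⁻¹ ∈ (P : Subgroup G) := hCP (S.mem_C.2 (mul_inv_eq_iff_eq_mul.1 (by
    calc h * g⁻¹ * S.z * (h * g⁻¹)⁻¹ = h * (g⁻¹ * S.z * g) * h⁻¹ := by group
      _ = S.z := by rw [← hge, show g⁻¹ * (g * S.el e * g⁻¹) * g = S.el e by group, hhe, hge])))
  have h1 : (h * g⁻¹) * S.D.s * (h * g⁻¹)⁻¹ ∈ S.R32 := by
    have := hh r hq
    rwa [← hgr, show h * g⁻¹ * (g * r * g⁻¹) * (h * g⁻¹)⁻¹ = h * r * h⁻¹ by group]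
  have h2 := S.P_normal_R32 (inv_mem hkP) h1
  exact hsR (by rwa [show (h * g⁻¹)⁻¹ * (h * g⁻¹ * S.D.s * (h * g⁻¹)⁻¹) * ((h * g⁻¹)⁻¹)⁻¹ = S.D.s by group] at h2)

end Setup

end CfsgLib.M12Type
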