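import Cfsg.Agent.M12Type.LocalData

/-!
Finite checks for the order of the centraliser of the central involution.
-/

set_option autoImplicit false
set_option linter.unusedSectionVars false
set_option maxRecDepth 100000

namespace CfsgLib.M12Type

/-- The cosets of central involutions. -/
def orbit : List Nat := [2, 32, 34]

theorem orbit_ok : (∀ x ∈ eList, x = 0 ∨ x = 10 ∨ orbit.contains (cn x) = true) ∧
    ∀ x < 64, qCode x = true → (∀ y < 64, qCode y = true → m x y = m y x) → x = 0 ∨ x = 10 := by
  decide +kernel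

/-- The centraliser of the four group is normal, and the squares lie in the four group. -/
theorem centV_ok : (∀ x < 64, m x 2 = m 2 x → m x 8 = m 8 x) ∧
    (∀ g < 64, ∀ x < 64, m x 2 = m 2 x → m (conj g x) 2 = m 2 (conj g x)) ∧
    (∀ x < 64, m (m x x) (m x x) = 0 → m x x = 0 ∨ m x x = 2 ∨ m x x = 8 ∨ m x x = 10) ∧
    m 4 2 = m 2 4 ∧ m 4 4 = 8 ∧ m 16 2 ≠ m 2 16 ∧ conj 16 8 = 2 ∧
    ((List.range 64).filter fun x => m x 2 == m 2 x).length = 32 := by decide +kernel

end CfsgLib.M12Type
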