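import Cfsg.Agent.M12Type.Order
import Cfsg.Agent.M12Type.Model
import Cfsg.Agent.M12U.Iso

/-!
A simple group with a Sylow subgroup of the shape of order 64 and two classes of involutions is the
Mathieu group of degree twelve, given the local data.
-/

set_option autoImplicit false
set_option linter.unusedSectionVars false

namespace CfsgLib.M12Type

open Subgroup CfsgLib.M12U

universe u

theorem not_comm_of_shape {G : Type u} [Group G] [Finite G] [IsSimpleGroup G] {P : Sylow 2 G}
    (S : Setup P) : ¬ IsMulCommutative G := fun h => by
  have h1 : S.el 16 * S.el 2 = S.el 2 * S.el 16 := h.1.comm _ _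
  rw [S.el_commute_iff (by norm_num) (by norm_num)] at h1
  exact absurd h1 (by decide)

/-- The local data determine the group. -/
theorem iso_of_loc {G : Type u} [Group G] [Finite G] [IsSimpleGroup G] (hG : ¬ IsMulCommutative G)
    {t r s : G} (L : Loc t r s) : Cfsg.Spor.IsoM12 G := by
  have hF : Fused t := fused_of_simple hG
  rcases L.exists_case hF with ⟨g, c, hc, h3, hact⟩ | ⟨r', s', g, L', h3, hact⟩
  · exfalso
    obtain ⟨N, hN, -, -, h8, ⟨-⟩⟩ := L.caseA_affine hF hc h3 hact
    rcases hN.eq_bot_or_eq_top with rfl | rfl
    · rw [Subgroup.card_bot] at h8; omega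
    · have h192 : 192 ≤ Nat.card G := L.card ▸ Subgroup.card_le_card_group _
      rw [Subgroup.card_top] at h8
      omega
  · obtain ⟨g', S'⟩ := L'.exists_std h3 hact
    exact iso_of_std S' hF

end CfsgLib.M12Type
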