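import Cfsg.Agent.M12Type.Fusion

/-!
A normalised shape: the inversion is a conjugate of the central involution.
-/

set_option autoImplicit false
set_option linter.unusedSectionVars false
set_option maxRecDepth 100000

namespace CfsgLib.M12Type

open Subgroup CfsgLib.GTwoFusion

universe u

variable {G : Type u} [Group G] [Finite G] [IsSimpleGroup G] {P : Sylow 2 G}

/-- A Sylow subgroup of the shape, with the classes of `w` and `t 1 1 * w` decided. -/
structure Setup (P : Sylow 2 G) where
  /-- The shape. -/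
  D : Shape (P : Subgroup G) 1
  s_nz : ¬ IsConj D.s D.z
  w_z : IsConj D.w D.z
  w'_s : IsConj D.s (D.t 1 1 * D.w)

/-- The shape with another inversion. -/
def twist (D : Shape (P : Subgroup G) 1) : Shape (P : Subgroup G) 1 where
  t := D.t
  s := D.s
  w := D.t 1 1 * D.w
  d_pos := D.d_pos
  t_mul := D.t_mul
  t_mem := D.t_mem
  s_mem := D.s_mem
  w_mem := mul_mem (D.t_mem _ _) D.w_mem
  s_sq := D.s_sq
  w_sq := D.sq_tw 1 1
  sw := by rw [mul_assoc, D.sw, D.s_t_assoc]
  s_t := D.s_t
  w_t i j := by
    rw [mul_assoc, D.w_t, D.t_t_assoc, D.t_t_assoc, add_comm (-i), add_comm (-j)]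
  cover g hg := by
    obtain ⟨i, j, a, b, h⟩ := D.cover g hg
    fin_cases b
    · exact ⟨i, j, a, 0, by simpa using h⟩
    · refine ⟨i - 1, j - 1, a, 1, ?_⟩
      fin_cases a
      · simp only [Fin.zero_eta, Fin.mk_one, Fin.val_zero, Fin.val_one, pow_zero, pow_one, one_mul] at h ⊢
        rw [D.t_t_assoc, sub_add_cancel, sub_add_cancel]
        exact h
      · simp only [Fin.mk_one, Fin.val_one, pow_one] at h ⊢
        rw [D.s_t_assoc, D.t_t_assoc, sub_add_cancel, sub_add_cancel]
        exact h
  card := D.card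

theorem twist_t (D : Shape (P : Subgroup G) 1) : (twist D).t 1 1 * (twist D).w = D.t 2 2 * D.w := by
  show D.t 1 1 * (D.t 1 1 * D.w) = D.t 2 2 * D.w
  rw [D.t_t_assoc]
  norm_num

/-- With two classes of involutions there is a normalised shape. -/
theorem exists_setup (D : Shape (P : Subgroup G) 1)
    (h2 : ∃ x y : G, orderOf x = 2 ∧ orderOf y = 2 ∧ ¬ IsConj x y) : Nonempty (Setup P) := by
  have hns : ¬ IsConj D.s D.z := fun h => by
    obtain ⟨x, y, hx, hy, hxy⟩ := h2
    have hz : ∀ x : G, orderOf x = 2 → IsConj x D.z := fun x hx =>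
      (D.conj_z_or_s (fun e => by rw [e, orderOf_one] at hx; omega)
        (by rw [← pow_two, ← hx, pow_orderOf_eq_one])).elim id fun e => e.trans h
    exact hxy ((hz x hx).trans (hz y hy).symm)
  have inv : ∀ i j, orderOf (D.t i j * D.w) = 2 := fun i j =>
    orderOf_eq_prime (by rw [pow_two, D.sq_tw]) fun e => by
      have h := D.el_tw_ne (i := i) (j := j) (k := 0) (l := 0)
      rw [D.t_zero] at h
      exact h e
  have zor : ∀ i j, IsConj (D.t i j * D.w) D.z ∨ IsConj (D.t i j * D.w) D.s := fun i j =>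
    D.conj_z_or_s (fun e => by have := inv i j; rw [e, orderOf_one] at this; omega) (D.sq_tw i j)
  have hw : IsConj D.w D.z ∨ IsConj D.w D.s := by simpa [D.t_zero] using zor 0 0
  obtain ⟨hc, -⟩ := count D hns
  by_cases hs : IsConj D.s D.w
  · have h' : ¬ IsConj D.s (D.t 1 1 * D.w) := fun h => hc (iff_of_true hs h)
    refine ⟨⟨twist D, hns, (zor 1 1).resolve_right fun h => h' h.symm, ?_⟩⟩
    rw [twist_t]
    have e : D.t 2 2 * D.w = D.t (1 + 1) (1 + 1) * D.w := by norm_num
    refine hs.trans ?_
    have := D.conj_tw 0 0 1 1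
    rw [D.t_zero, one_mul] at this
    simpa [e] using this
  · refine ⟨⟨D, hns, hw.resolve_right fun h => hs h.symm, ?_⟩⟩
    by_contra h
    exact hc (iff_of_false hs h)

namespace Setup

variable (S : Setup P)

/-- The central involution. -/
def z : G := S.D.z

/-- The element of a code. -/
def el (x : Nat) : G := elN S.D x

theorem el_mem (x : Nat) : S.el x ∈ (P : Subgroup G) := elN_mem S.D x

theorem el_mul (x y : Nat) : S.el x * S.el y = S.el (m x y) := elN_m S.D x y

theorem el_zero : S.el 0 = 1 := elN_zero S.D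

theorem el_inv {x : Nat} (hx : x < 64) : (S.el x)⁻¹ = S.el (inv x) := elN_inv S.D hx

theorem el_conj {g x : Nat} (hg : g < 64) : S.el g * S.el x * (S.el g)⁻¹ = S.el (conj g x) :=
  elN_conj S.D hg

theorem el_inj {x y : Nat} (hx : x < 64) (hy : y < 64) (h : S.el x = S.el y) : x = y :=
  elN_inj S.D hx hy h

theorem exists_el {g : G} (hg : g ∈ (P : Subgroup G)) : ∃ x < 64, S.el x = g := exists_elN S.D hg

theorem el_eq_one_iff {x : Nat} (hx : x < 64) : S.el x = 1 ↔ x = 0 := elN_eq_one_iff S.D hx

theorem el_commute_iff {x y : Nat} (hx : x < 64) (hy : y < 64) :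
    S.el x * S.el y = S.el y * S.el x ↔ m x y = m y x := elN_commute_iff S.D hx hy

theorem el_z : S.el 10 = S.z := (elN_reps S.D).1

theorem el_s : S.el 16 = S.D.s := (elN_reps S.D).2.2.1

/-- The conjugates of the swap among the codes, the class of `t 1 0 * w` being given. -/
def sCode (r : Bool) (x : Nat) : Bool := clsS false true r x

open Classical in
/-- Is `t 1 0 * w` conjugate to the swap? -/
noncomputable def r : Bool := decide (IsConj S.D.s (S.D.t 1 0 * S.D.w))

open Classical in
theorem isConj_s_iff {x : Nat} (hx : x < 64) : IsConj S.D.s (S.el x) ↔ sCode S.r x = true :=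
  M12Type.isConj_s_iff S.D S.s_nz
    (iff_of_false (fun h => S.s_nz (h.trans S.w_z)) (by simp)) (iff_of_true S.w'_s rfl)
    decide_eq_true_iff.symm hx

theorem isInv_iff {x : Nat} (hx : x < 64) : isInv x = true ↔ orderOf (S.el x) = 2 := by
  rw [M12Type.isInv_iff S.D hx, orderOf_eq_prime_iff, pow_two, and_comm]
  rfl

/-- The conjugates of the central involution among the codes. -/
def zCode (r : Bool) (x : Nat) : Bool := isInv x && !(sCode r x)

theorem isConj_z_iff {x : Nat} (hx : x < 64) : IsConj S.z (S.el x) ↔ zCode S.r x = true := by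
  constructor
  · intro h
    have hi : isInv x = true := isInv_of_isConj S.D hx S.D.orderOf_z h
    rw [zCode, hi, Bool.true_and, Bool.not_eq_true']
    by_contra hs
    rw [Bool.not_eq_false] at hs
    exact S.s_nz (((S.isConj_s_iff hx).2 hs).trans h.symm)
  · intro h
    rw [zCode, Bool.and_eq_true, Bool.not_eq_true'] at h
    have hi := (S.isInv_iff hx).1 h.1
    refine (((S.D.conj_z_or_s (x := S.el x) (fun e => by rw [e, orderOf_one] at hi; omega)
      (by rw [← pow_two, ← hi, pow_orderOf_eq_one])).resolve_right fun e => ?_)).symm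
    have := (S.isConj_s_iff hx).1 e.symm
    rw [h.2] at this
    exact Bool.false_ne_true this

theorem orderOf_z : orderOf S.z = 2 := S.D.orderOf_z

theorem z_comm {g : G} (hg : g ∈ (P : Subgroup G)) : S.z * g = g * S.z := S.D.z_comm hg

theorem conj_z_or_s {x : G} (hx : orderOf x = 2) : IsConj S.z x ∨ IsConj S.D.s x :=
  (S.D.conj_z_or_s (fun e => by rw [e, orderOf_one] at hx; omega)
    (by rw [← pow_two, ← hx, pow_orderOf_eq_one])).imp (fun h => h.symm) fun h => h.symm

theorem not_both {x : G} (h : IsConj S.z x) : ¬ IsConj S.D.s x := fun h' =>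
  S.s_nz (h'.trans h.symm)

end Setup

end CfsgLib.M12Type
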