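import Cfsg.Agent.M12Type.EightFrame
import Cfsg.Agent.GTwoFusion.Mk
import Cfsg.Agent.M12U.Iso

/-!
In a simple group a Sylow 2-subgroup of order 64 with a self-centralising element of order eight
conjugate to its odd powers has the shape of that of the Mathieu group of degree twelve.
-/

set_option autoImplicit false
set_option linter.unusedSectionVars false

namespace CfsgLib.M12Type.Eight

open Subgroup

variable {G : Type*} [Group G]

/-- A conjugate of an involution of a Sylow subgroup, central in it, can be moved back keeping the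
centraliser inside. -/
theorem exists_extremal [Finite G] {P : Sylow 2 G} {z v : G} (hcen : ∀ g ∈ (P : Subgroup G), g * z = z * g)
    (hv : IsConj z v) :
    ∃ g : G, g * v * g⁻¹ = z ∧ ∀ w ∈ (P : Subgroup G), w * v = v * w → g * w * g⁻¹ ∈ (P : Subgroup G) := by
  haveI : Fact (Nat.Prime 2) := ⟨Nat.prime_two⟩
  obtain ⟨g, hg⟩ := isConj_iff.1 hv.symm
  set H := centralizer ({z} : Set G)
  have hPH : (P : Subgroup G) ≤ H := fun c hc => mem_centralizer_singleton_iff.2 (hcen c hc)
  set K := ((P : Subgroup G) ⊓ centralizer ({v} : Set G)).map (MulAut.conj g).toMonoidHom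
  have hKp : IsPGroup 2 K := (P.isPGroup'.to_le inf_le_left).map _
  have hKH : K ≤ H := by
    rintro _ ⟨c, hc, rfl⟩
    refine mem_centralizer_singleton_iff.2 ?_
    show g * c * g⁻¹ * z = z * (g * c * g⁻¹)
    rw [← hg, conj_mul, conj_mul, mem_centralizer_singleton_iff.1 (mem_inf.1 hc).2]
  have hKp' : IsPGroup 2 (K.subgroupOf H) := hKp.comap_of_injective _ (subtype_injective _)
  obtain ⟨R, hR⟩ := hKp'.exists_le_sylow
  obtain ⟨k, hk⟩ := MulAction.exists_smul_eq ↥H R (P.subtype hPH)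
  refine ⟨(k : G) * g, ?_, fun c hc hcv => ?_⟩
  · calc (k : G) * g * v * ((k : G) * g)⁻¹ = (k : G) * (g * v * g⁻¹) * (k : G)⁻¹ := by group
      _ = z := by rw [hg, mem_centralizer_singleton_iff.1 k.2, mul_inv_cancel_right]
  · have hmem : g * c * g⁻¹ ∈ K := ⟨c, mem_inf.2 ⟨hc, mem_centralizer_singleton_iff.2 hcv⟩, rfl⟩
    have h1 : k * ⟨_, hKH hmem⟩ * k⁻¹ ∈ (P.subtype hPH : Subgroup ↥H) := by
      rw [← hk]
      exact ⟨⟨_, hKH hmem⟩, hR (mem_subgroupOf.2 hmem), rfl⟩
    have h2 : (k : G) * (g * c * g⁻¹) * (k : G)⁻¹ ∈ (P : Subgroup G) := h1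
    rwa [show (k : G) * g * c * ((k : G) * g)⁻¹ = (k : G) * (g * c * g⁻¹) * (k : G)⁻¹ by group]

namespace Frame

variable {P : Subgroup G} (F : Frame P) {q : Nat × Nat × List Nat × List Nat}

theorem invC_iff (hq : F.Fits q) {u : ℕ} (hu : u < 64) :
    invC q u = true ↔ F.e u ≠ 1 ∧ F.e u * F.e u = 1 := by
  obtain ⟨hlt, he⟩ := F.M_spec hq hu hu
  rw [invC, Bool.and_eq_true, bne_iff_ne, beq_iff_eq, he, ← F.e_zero]
  constructor
  · rintro ⟨h1, h2⟩
    exact ⟨fun h => h1 (F.e_inj hu (by norm_num) h), by rw [h2]⟩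
  · rintro ⟨h1, h2⟩
    exact ⟨fun h => h1 (by rw [h]), F.e_inj hlt (by norm_num) h2⟩

theorem mem_centC (hq : F.Fits q) {v w : ℕ} (hv : v < 64) :
    w ∈ centC q v ↔ w < 64 ∧ F.e w * F.e v = F.e v * F.e w := by
  simp only [centC, List.mem_filter, List.mem_range, beq_iff_eq]
  exact ⟨fun ⟨h1, h2⟩ => ⟨h1, (F.commute_iff hq h1 hv).2 h2⟩,
    fun ⟨h1, h2⟩ => ⟨h1, (F.commute_iff hq h1 hv).1 h2⟩⟩

theorem sq_iff (hq : F.Fits q) {w s : ℕ} (hw : w < 64) (hs : s < 64) :
    M q w w = s ↔ F.e w * F.e w = F.e s := by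
  obtain ⟨hlt, he⟩ := F.M_spec hq hw hw
  rw [he]
  exact ⟨fun h => by rw [h], fun h => F.e_inj hlt hs h⟩

theorem z_central (hq : F.Fits q) (hz : (List.range 64).all (fun u => M q u 4 == M q 4 u) = true)
    {g : G} (hg : g ∈ P) : g * F.e 4 = F.e 4 * g := by
  obtain ⟨u, hu, rfl⟩ := F.surj hg
  exact (F.commute_iff hq hu (by norm_num)).2 (beq_iff_eq.1 (List.all_eq_true.1 hz u (List.mem_range.2 hu)))

end Frame

theorem params_centre : (params.all fun q => (List.range 64).all fun u => M q u 4 == M q 4 u) = true := by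
  decide +kernel

variable [Finite G]

/-- In the exceptional cases the central involution is isolated. -/
theorem isolated_of_crit {P : Sylow 2 G} (F : Frame (P : Subgroup G)) {q : Nat × Nat × List Nat × List Nat}
    (hq : F.Fits q) (hcr : crit q = true)
    (hz : (List.range 64).all (fun u => M q u 4 == M q 4 u) = true) :
    Cfsg.IsIsolatedInvolution (F.e 4) := by
  classical
  haveI : Fact (Nat.Prime 2) := ⟨Nat.prime_two⟩
  have h4 : (4 : ℕ) < 64 := by norm_num
  have h0 : (0 : ℕ) < 64 := by norm_num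
  simp only [crit, Bool.and_eq_true, List.all_eq_true, List.mem_filter, List.mem_range, Nat.blt_eq] at hcr
  obtain ⟨hI, hII⟩ := hcr
  have hcen : ∀ g ∈ (P : Subgroup G), g * F.e 4 = F.e 4 * g := fun g hg => F.z_central hq hz hg
  have hzne : F.e 4 ≠ 1 := fun h => by
    rw [← F.e_zero] at h
    exact absurd (F.e_inj h4 h0 h) (by norm_num)
  have he4 : F.e 4 = F.f ^ 4 := by
    show el0 F.f F.y F.x 4 * F.p ^ 0 = F.f ^ 4
    simp [el0]
  have hz2 : F.e 4 * F.e 4 = 1 := by rw [he4, ← pow_add]; exact F.base.f8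
  -- an involution conjugate to the central one and commuting with a root of it
  have hroot : ∀ v < 64, ∀ w < 64, F.e w * F.e v = F.e v * F.e w → F.e w * F.e w = F.e 4 →
      v ≠ 4 → ∀ g : G, g * F.e v * g⁻¹ = F.e 4 →
      (∀ u ∈ (P : Subgroup G), u * F.e v = F.e v * u → g * u * g⁻¹ ∈ (P : Subgroup G)) →
      ∃ s < 64, g * F.e 4 * g⁻¹ = F.e s ∧ invC q s = true ∧ s ≠ 4 ∧
        ∃ u < 64, M q u u = s := by
    intro v hv w hw hwv hww hv4 g hg hmap
    obtain ⟨r, hr, hre⟩ := F.surj (hmap _ (F.mem w) hwv)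
    obtain ⟨hlt, hsq⟩ := F.M_spec hq hr hr
    have hs : g * F.e 4 * g⁻¹ = F.e (M q r r) := by
      rw [← hsq, hre, conj_mul, hww]
    refine ⟨M q r r, hlt, hs, (F.invC_iff hq hlt).2 ⟨?_, ?_⟩, fun e => hv4 ?_, r, hr, rfl⟩
    · rw [← hs]
      exact fun h => hzne (conj_eq_one_iff.1 h)
    · rw [← hs, conj_mul, hz2, mul_one, mul_inv_cancel]
    · rw [e] at hs
      exact F.e_inj hv h4 (mul_left_cancel (mul_right_cancel (hg.trans hs.symm)))
  -- the square involutions are not conjugate to the central one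
  have notI : ∀ a < 64, invC q a = true → a ≠ 4 → (∃ u < 64, M q u u = a) → ¬ IsConj (F.e 4) (F.e a) := by
    intro a ha hai ha4 hau hcj
    have hain : (invC q a = true ∧ (a != 4) = true) ∧ ((List.range 64).any fun w => M q w w == a) = true := by
      obtain ⟨u, hu, hua⟩ := hau
      simp only [bne_iff_ne, List.any_eq_true, List.mem_range, beq_iff_eq]
      exact ⟨⟨hai, ha4⟩, u, hu, hua⟩
    have hlen := hI a ⟨ha, hain⟩ a ⟨ha, hain⟩
    set L := (centC q a).filter fun w => M q w w == 4 with hL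
    have hLpos : 0 < L.length := lt_of_le_of_lt (Nat.zero_le _) hlen
    obtain ⟨w0, hw0⟩ := List.exists_mem_of_length_pos hLpos
    simp only [hL, List.mem_filter, beq_iff_eq] at hw0
    obtain ⟨hw0c, hw0s⟩ := hw0
    obtain ⟨hw0lt, hw0v⟩ := (F.mem_centC hq ha).1 hw0c
    obtain ⟨g, hg, hmap⟩ := exists_extremal hcen hcj
    obtain ⟨s, hs, hgs, hsi, hs4, hsu⟩ :=
      hroot a ha w0 hw0lt hw0v ((F.sq_iff hq hw0lt h4).1 hw0s) ha4 g hg hmap
    have hsin : (invC q s = true ∧ (s != 4) = true) ∧ ((List.range 64).any fun w => M q w w == s) = true := by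
      obtain ⟨u, hu, hua⟩ := hsu
      simp only [bne_iff_ne, List.any_eq_true, List.mem_range, beq_iff_eq]
      exact ⟨⟨hsi, hs4⟩, u, hu, hua⟩
    have hlen' := hI a ⟨ha, hain⟩ s ⟨hs, hsin⟩
    rw [← hL] at hlen'
    have key : ∀ w : L.toFinset, ∃ r : (rootsC q s).toFinset, g * F.e (w : ℕ) * g⁻¹ = F.e (r : ℕ) := by
      intro w
      have hw := List.mem_toFinset.1 w.2
      simp only [hL, List.mem_filter, beq_iff_eq] at hw
      obtain ⟨hwlt, hwv⟩ := (F.mem_centC hq ha).1 hw.1
      obtain ⟨r, hr, hre⟩ := F.surj (hmap _ (F.mem _) hwv)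
      refine ⟨⟨r, List.mem_toFinset.2 ?_⟩, hre.symm⟩
      simp only [rootsC, List.mem_filter, List.mem_range, beq_iff_eq]
      refine ⟨hr, (F.sq_iff hq hr hs).2 ?_⟩
      rw [hre, conj_mul, (F.sq_iff hq hwlt h4).1 hw.2, hgs]
    choose φ hφ using key
    have hφi : Function.Injective φ := fun w w' e => by
      have h1 : g * F.e (w : ℕ) * g⁻¹ = g * F.e (w' : ℕ) * g⁻¹ := by rw [hφ w, hφ w', e]
      have hw := List.mem_toFinset.1 w.2
      have hw' := List.mem_toFinset.1 w'.2
      simp only [hL, List.mem_filter] at hw hw'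
      exact Subtype.ext (F.e_inj ((F.mem_centC hq ha).1 hw.1).1 ((F.mem_centC hq ha).1 hw'.1).1
        (mul_left_cancel (mul_right_cancel h1)))
    have hnd : L.Nodup := (List.nodup_range.filter _).filter _
    have hle := Nat.card_le_card_of_injective φ hφi
    rw [Nat.card_eq_finsetCard, Nat.card_eq_finsetCard, List.toFinset_card_of_nodup hnd,
      List.toFinset_card_of_nodup (show (rootsC q s).Nodup from List.nodup_range.filter _)] at hle
    exact absurd hlen' (not_lt.2 hle)
  -- no involution commuting with a root of the central one is conjugate to it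
  have notOne : ∀ v < 64, typeOne q v = true → v ≠ 4 → ¬ IsConj (F.e 4) (F.e v) := by
    intro v hv ht hv4 hcj
    simp only [typeOne, List.any_eq_true, beq_iff_eq] at ht
    obtain ⟨w, hw, hws⟩ := ht
    obtain ⟨hwlt, hwv⟩ := (F.mem_centC hq hv).1 hw
    obtain ⟨g, hg, hmap⟩ := exists_extremal hcen hcj
    obtain ⟨s, hs, hgs, hsi, hs4, hsu⟩ := hroot v hv w hwlt hwv ((F.sq_iff hq hwlt h4).1 hws) hv4 g hg hmap
    exact notI s hs hsi hs4 hsu (isConj_iff.2 ⟨g, hgs⟩)
  -- the structure of the centralisers of the others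
  have struct : ∀ v < 64, invC q v = true → v ≠ 4 → IsConj (F.e 4) (F.e v) →
      (centC q v).length = 8 ∧ ∃ a b, a ≠ b ∧ a ∈ centC q v ∧ b ∈ centC q v ∧
        typeOne q a = true ∧ typeOne q b = true ∧ a ≠ 4 ∧ b ≠ 4 ∧ invC q a = true ∧ invC q b = true ∧
        F.e a * F.e b = F.e 4 ∧
        ∀ w ∈ centC q v, w = 0 ∨ w = 4 ∨ w = a ∨ w = b ∨ IsConj (F.e v) (F.e w) := by
    intro v hv hvi hv4 hcj
    have h := hII v hv
    simp only [Bool.or_eq_true, Bool.not_eq_true', beq_iff_eq] at h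
    rcases h with ((h | h) | h) | h
    · rw [hvi] at h; exact Bool.noConfusion h
    · exact absurd h hv4
    · exact absurd hcj (notOne v hv h hv4)
    set A := (centC q v).filter fun w => invC q w && (w != 4) && typeOne q w with hA
    simp only [Bool.and_eq_true, Nat.beq_eq, List.all_eq_true, Bool.or_eq_true, beq_iff_eq,
      List.contains_iff_mem, List.any_eq_true, List.mem_range] at h
    obtain ⟨⟨⟨h8, hA2⟩, hprod⟩, hrest⟩ := h
    obtain ⟨a, b, hAe⟩ := List.length_eq_two.1 hA2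
    have hnd : A.Nodup := (List.nodup_range.filter _).filter _
    have hab : a ≠ b := by
      rw [hAe] at hnd
      simpa using hnd
    have ma : a ∈ A := by rw [hAe]; simp
    have mb : b ∈ A := by rw [hAe]; simp
    simp only [hA, List.mem_filter, Bool.and_eq_true, bne_iff_ne] at ma mb
    obtain ⟨hac, ⟨hai, ha4⟩, hat⟩ := ma
    obtain ⟨hbc, ⟨hbi, hb4⟩, hbt⟩ := mb
    have halt := ((F.mem_centC hq hv).1 hac).1
    have hblt := ((F.mem_centC hq hv).1 hbc).1
    refine ⟨h8, a, b, hab, hac, hbc, hat, hbt, ha4, hb4, hai, hbi, ?_, fun w hw => ?_⟩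
    · rw [(F.M_spec hq halt hblt).2]
      rcases hprod a (by rw [hAe]; simp) b (by rw [hAe]; simp) with e | e
      · exact absurd e hab
      · rw [e]
    · rcases hrest w hw with ((e | e) | e) | ⟨u, hu, e⟩
      · exact Or.inl e
      · exact Or.inr (Or.inl e)
      · rw [hAe] at e
        simp only [List.mem_cons, List.not_mem_nil, or_false] at e
        exact e.elim (fun e => Or.inr (Or.inr (Or.inl e))) fun e => Or.inr (Or.inr (Or.inr (Or.inl e)))
      · have hwlt := ((F.mem_centC hq hv).1 hw).1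
        refine Or.inr (Or.inr (Or.inr (Or.inr (isConj_iff.2 ⟨F.e u, ?_⟩))))
        rw [(F.M_spec hq hu hv).2, e, ← (F.M_spec hq hwlt hu).2, mul_inv_cancel_right]
  -- the conclusion
  have notAny : ∀ v < 64, v ≠ 4 → ¬ IsConj (F.e 4) (F.e v) := by
    intro v hv hv4 hcj
    have hinv : ∀ {x}, x < 64 → IsConj (F.e 4) (F.e x) → invC q x = true := fun {x} hx h => by
      obtain ⟨g, hg⟩ := isConj_iff.1 h
      refine (F.invC_iff hq hx).2 ⟨?_, ?_⟩
      · rw [← hg]; exact fun e => hzne (conj_eq_one_iff.1 e)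
      · rw [← hg, conj_mul, hz2, mul_one, mul_inv_cancel]
    obtain ⟨g, hg, hmap⟩ := exists_extremal hcen hcj
    obtain ⟨h8, a, b, hab, hac, hbc, hat, hbt, ha4, hb4, hai, hbi, habz, -⟩ := struct v hv (hinv hv hcj) hv4 hcj
    obtain ⟨halt, hav⟩ := (F.mem_centC hq hv).1 hac
    obtain ⟨hblt, hbv⟩ := (F.mem_centC hq hv).1 hbc
    have hzv : F.e 4 * F.e v = F.e v * F.e 4 := (hcen _ (F.mem v)).symm
    obtain ⟨s, hs, hse⟩ := F.surj (hmap _ (F.mem 4) hzv)
    have hcjs : IsConj (F.e 4) (F.e s) := isConj_iff.2 ⟨g, hse.symm⟩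
    have hs4 : s ≠ 4 := by
      rintro rfl
      exact hv4 (F.e_inj hv h4 (mul_left_cancel (mul_right_cancel (hg.trans hse))))
    obtain ⟨-, a', b', -, -, -, -, -, -, -, -, -, hab', hrest⟩ := struct s hs (hinv hs hcjs) hs4 hcjs
    have img : ∀ c, c < 64 → invC q c = true → typeOne q c = true → c ≠ 4 → F.e c * F.e v = F.e v * F.e c →
        g * F.e c * g⁻¹ = F.e a' ∨ g * F.e c * g⁻¹ = F.e b' := by
      intro c hc hci hct hc4 hcv
      obtain ⟨r, hr, hre⟩ := F.surj (hmap _ (F.mem c) hcv)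
      have hrs : r ∈ centC q s := (F.mem_centC hq hs).2 ⟨hr, by
        rw [hre, hse, conj_mul, conj_mul, hcen _ (F.mem c)]⟩
      have nz : ¬ IsConj (F.e 4) (F.e r) := fun e =>
        notOne c hc hct hc4 (e.trans (IsConj.symm (isConj_iff.2 ⟨g, hre.symm⟩)))
      rcases hrest r hrs with rfl | rfl | rfl | rfl | hj
      · exfalso
        rw [F.e_zero] at hre
        exact ((F.invC_iff hq hc).1 hci).1 (conj_eq_one_iff.1 hre.symm)
      · exact absurd (IsConj.refl _) nz
      · exact Or.inl hre.symm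
      · exact Or.inr hre.symm
      · exact absurd (hcjs.trans hj) nz
    have hne : g * F.e a * g⁻¹ ≠ g * F.e b * g⁻¹ := fun e =>
      hab (F.e_inj halt hblt (mul_left_cancel (mul_right_cancel e)))
    have hz' : g * F.e 4 * g⁻¹ = F.e 4 := by
      rw [← habz, ← conj_mul]
      rcases img a halt hai hat ha4 hav with e | e <;> rcases img b hblt hbi hbt hb4 hbv with e' | e'
      · exact absurd (e.trans e'.symm) hne
      · rw [e, e', hab', habz]
      · have hzb : F.e a' * F.e b' = F.e b' * F.e a' := by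
          have hab2 := congrArg (fun x : G => g * x * g⁻¹) habz
          simp only [← conj_mul, e, e'] at hab2
          rw [hab']
          have hbb : F.e b' * F.e b' = 1 := by
            rw [← e, conj_mul, ((F.invC_iff hq halt).1 hai).2, mul_one, mul_inv_cancel]
          have haa : F.e a' * F.e a' = 1 := by
            rw [← e', conj_mul, ((F.invC_iff hq hblt).1 hbi).2, mul_one, mul_inv_cancel]
          have := congrArg (fun x : G => x⁻¹) hab'
          simp only [_root_.mul_inv_rev, inv_eq_of_mul_eq_one_right hbb, inv_eq_of_mul_eq_one_right haa,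
            inv_eq_of_mul_eq_one_right hz2] at this
          exact this.symm
        rw [e, e', ← hzb, hab', habz]
      · exact absurd (e.trans e'.symm) hne
    exact hv4 (F.e_inj hv h4 (mul_left_cancel (mul_right_cancel (hg.trans hz'.symm))))
  refine ⟨CfsgLib.Invol.orderOf_eq_two hz2 hzne, fun g hg => ?_⟩
  by_contra hne
  set H := centralizer ({F.e 4} : Set G)
  have hmem : g * F.e 4 * g⁻¹ ∈ H := mem_centralizer_singleton_iff.2 hg.eq.symm
  have hp : IsPGroup 2 (zpowers (⟨_, hmem⟩ : H)) :=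
    IsPGroup.of_card (n := 1) (by
      rw [Nat.card_zpowers, ← orderOf_coe, pow_one, CfsgLib.Invol.orderOf_conj_eq]
      exact CfsgLib.Invol.orderOf_eq_two hz2 hzne)
  obtain ⟨R, hR⟩ := hp.exists_le_sylow
  have hPH : (P : Subgroup G) ≤ H := fun c hc => mem_centralizer_singleton_iff.2 (hcen c hc)
  obtain ⟨k, hk⟩ := MulAction.exists_smul_eq ↥H R (P.subtype hPH)
  have h1 : k * ⟨_, hmem⟩ * k⁻¹ ∈ (P.subtype hPH : Subgroup ↥H) := by
    rw [← hk]
    exact ⟨_, hR (mem_zpowers _), rfl⟩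
  have h2 : (k : G) * (g * F.e 4 * g⁻¹) * (k : G)⁻¹ ∈ (P : Subgroup G) := h1
  obtain ⟨v, hv, hve⟩ := F.surj h2
  refine notAny v hv (fun e => hne ?_) (isConj_iff.2 ⟨(k : G) * g, by rw [hve]; group⟩)
  rw [e] at hve
  have hkz : (k : G) * F.e 4 * (k : G)⁻¹ = F.e 4 := by
    rw [mem_centralizer_singleton_iff.1 k.2, mul_inv_cancel_right]
  exact mul_left_cancel (mul_right_cancel (hve.symm.trans hkz.symm))

/-- The witness gives the shape. -/
theorem shape_of_witness {P : Subgroup G} (F : Frame P) {q : Nat × Nat × List Nat × List Nat}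
    (hq : F.Fits q) (hok : shapeOK q = true) : Nonempty (GTwoFusion.Shape P 1) := by
  classical
  obtain ⟨qb, qc, qT, qw⟩ := q
  match qw, hok with
  | [u, s, v, w], hok =>
    generalize hq' : ((qb, qc, qT, [u, s, v, w]) : Nat × Nat × List Nat × List Nat) = q at hq hok
    have hok' := hok
    rw [← hq'] at hok'
    simp only [shapeOK] at hok'
    rw [hq'] at hok'
    simp only [Bool.and_eq_true, Nat.blt_eq, beq_iff_eq] at hok'
    obtain ⟨⟨⟨⟨⟨⟨⟨⟨⟨⟨⟨⟨⟨hu, hs⟩, hv⟩, hw⟩, huv⟩, hu4⟩, hv4⟩, hind⟩, hs2⟩, hw2⟩, hws⟩, hsu⟩, hwu⟩, hwv⟩ := hok'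
    set u2 := M q u u with hu2
    set u3 := M q u2 u with hu3
    set v2 := M q v v with hv2
    set v3 := M q v2 v with hv3
    have hu2l : u2 < 64 := (F.M_spec hq hu hu).1
    have hu3l : u3 < 64 := (F.M_spec hq hu2l hu).1
    have hv2l : v2 < 64 := (F.M_spec hq hv hv).1
    have hv3l : v3 < 64 := (F.M_spec hq hv2l hv).1
    have h0 : (0 : ℕ) < 64 := by norm_num
    have mu : ∀ {a b : ℕ}, a < 64 → b < 64 → F.e a * F.e b = F.e (M q a b) := fun ha hb => (F.M_spec hq ha hb).2
    have pu : ∀ i < 4, F.e u ^ i = F.e ([0, u, u2, u3].getD i 0) := by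
      intro i hi
      interval_cases i
      · simp [F.e_zero]
      · simp
      · rw [pow_two, mu hu hu]; rfl
      · rw [pow_succ, pow_two, mu hu hu, mu hu2l hu]; rfl
    have pv : ∀ i < 4, F.e v ^ i = F.e ([0, v, v2, v3].getD i 0) := by
      intro i hi
      interval_cases i
      · simp [F.e_zero]
      · simp
      · rw [pow_two, mu hv hv]; rfl
      · rw [pow_succ, pow_two, mu hv hv, mu hv2l hv]; rfl
    have hu41 : F.e u ^ (4 * 1) = 1 := by
      rw [show 4 * 1 = 2 + 2 from rfl, pow_add, pow_two, mu hu hu, mu hu2l hu2l, hu4, F.e_zero]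
    have hv41 : F.e v ^ (4 * 1) = 1 := by
      rw [show 4 * 1 = 2 + 2 from rfl, pow_add, pow_two, mu hv hv, mu hv2l hv2l, hv4, F.e_zero]
    have invp : ∀ {a : ℕ}, F.e a ^ (4 * 1) = 1 → (F.e a)⁻¹ = F.e a ^ 3 := fun h =>
      inv_eq_of_mul_eq_one_right (by rw [← pow_succ']; exact h)
    obtain ⟨K, ⟨D⟩, hK⟩ := GTwoFusion.exists_shape (d := 1) (u := F.e u) (v := F.e v) (s := F.e s) (w := F.e w)
      one_pos (by rw [mu hu hv, mu hv hu, huv]) hu41 hv41
      (fun i j h => by
        rw [pow_eq_pow_mod i hu41, pow_eq_pow_mod j hv41, pu _ (Nat.mod_lt i (by norm_num)),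
          pv _ (Nat.mod_lt j (by norm_num))] at h
        have hi : i % (4 * 1) < 4 := Nat.mod_lt i (by norm_num)
        have hj : j % (4 * 1) < 4 := Nat.mod_lt j (by norm_num)
        generalize hI : i % (4 * 1) = I at h hi
        generalize hJ : j % (4 * 1) = J at h hj
        have ha : [0, u, u2, u3].getD I 0 < 64 := by interval_cases I <;> simpa
        have hb : [0, v, v2, v3].getD J 0 < 64 := by interval_cases J <;> simpa
        rw [mu ha hb, ← F.e_zero] at h
        have hM := F.e_inj (F.M_spec hq ha hb).1 h0 h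
        simp only [List.flatMap_cons, List.flatMap_nil, List.map_cons, List.map_nil, List.cons_append,
          List.nil_append, List.tail_cons, List.all_cons, List.all_nil, Bool.and_eq_true, bne_iff_ne,
          Bool.and_true] at hind
        suffices hIJ : I = 0 ∧ J = 0 by
          exact ⟨Nat.dvd_of_mod_eq_zero (hI.trans hIJ.1), Nat.dvd_of_mod_eq_zero (hJ.trans hIJ.2)⟩
        interval_cases I <;> interval_cases J <;> simp at hM ⊢ <;> simp_all)
      (by rw [mu hs hs, hs2, F.e_zero]) (by rw [mu hw hw, hw2, F.e_zero])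
      (by rw [mu hw hs, mu hs hw, hws]) (by rw [mu hs hu, mu hv hs, hsu])
      (by rw [invp hu41, pu 3 (by norm_num)]; show _ = F.e u3 * _; rw [mu hw hu, mu hu3l hw, hwu])
      (by rw [invp hv41, pv 3 (by norm_num)]; show _ = F.e v3 * _; rw [mu hw hv, mu hv3l hw, hwv])
    have hle : K ≤ P := hK P (F.mem u) (F.mem v) (F.mem s) (F.mem w)
    haveI : Finite P := inferInstance
    have heq : K = P := Solvable.eq_of_le_of_card_le hle (by rw [D.card, F.card]; norm_num)
    exact ⟨heq ▸ D⟩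
  | [], hok => exact Bool.noConfusion hok
  | [_], hok => exact Bool.noConfusion hok
  | [_, _], hok => exact Bool.noConfusion hok
  | [_, _, _], hok => exact Bool.noConfusion hok
  | _ :: _ :: _ :: _ :: _ :: _, hok => exact Bool.noConfusion hok

/-- The shape of the Sylow subgroup. -/
theorem exists_shape_of_eight [IsSimpleGroup G] (hna : ¬ IsMulCommutative G) (P : Sylow 2 G)
    (hP : Nat.card (P : Subgroup G) = 64) (f : G) (hfP : f ∈ (P : Subgroup G)) (hf : orderOf f = 8)
    (hself : ∀ x ∈ (P : Subgroup G), x * f = f * x → x ∈ Subgroup.zpowers f)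
    (hodd : ∀ k ∈ ({3, 5, 7} : Set ℕ), ∃ x ∈ (P : Subgroup G), x * f * x⁻¹ = f ^ k) :
    Nonempty (GTwoFusion.Shape (P : Subgroup G) 1) := by
  obtain ⟨F, -⟩ := exists_frame P.isPGroup' hP hfP hf hself hodd
  obtain ⟨q, hq, hfit⟩ := F.exists_param
  have hfit' : F.Fits q := hfit
  have h := List.all_eq_true.1 params_ok q hq
  rw [Bool.and_eq_true, Bool.or_eq_true] at h
  rcases h.2 with hc | hs
  · exact absurd (isolated_of_crit F hfit' hc (List.all_eq_true.1 params_centre q hq))
      (M12U.fused_of_simple hna)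
  · exact shape_of_witness F hfit' hs

end CfsgLib.M12Type.Eight
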