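import Cfsg.Agent.M12Type.SylowEightData
import Mathlib.Tactic

/-!
Finite checks used to normalise a Sylow subgroup with a self-centralising element of order eight.
-/

set_option autoImplicit false
set_option maxRecDepth 100000
set_option synthInstance.maxSize 2000
set_option synthInstance.maxHeartbeats 100000

namespace CfsgLib.M12Type.Eight

/-- The relations at `f` and `b`. -/
def condB (k gb n : Nat) : Bool :=
  mN k (mN k 17 gb) n == mN k n 1 && mN k gb gb == 0

/-- The relations at `a` and `g`. -/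
def condA (k ga gb n : Nat) : Bool :=
  img k ga gb n == n && mN k (img k ga gb ga) n == mN k n 8 &&
    mN k ga ga == img k ga gb (4 * k) && mN k (mN k 17 ga) 17 == ga && mN k ga gb == mN k gb ga

/-- The search for a normalising power of `f`. -/
def searchA (k : Nat) : Bool :=
  (List.range 32).all fun n => (List.range 32).all fun gb => !(condB k gb n) ||
    (List.range 32).all fun ga => !(condA k ga gb n) ||
      (List.range 8).any fun j => mN k (p17 (2 * j % 8)) ga == 24

theorem searchA_ok : ∀ k < 2, searchA k = true := by decide +kernel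

theorem searchB_ok : ∀ k < 2, ∀ gb < 32, ∀ n < 32, condB k gb n = true → condA k 24 gb n = true →
    (gb, n) ∈ [(16, 0), (16, 4), (20, 18), (20, 22)] := by decide +kernel

theorem mN_lt (k x y : Nat) : mN k x y < 32 := by unfold mN; omega

theorem img_lt (k ga gb y : Nat) : img k ga gb y < 32 := mN_lt _ _ _

theorem pwN_lt (k x : Nat) : ∀ i, pwN k x i < 32
  | 0 => by simp [pwN]
  | _ + 1 => mN_lt _ _ _

theorem exists_invN : ∀ k < 2, ∀ x < 32, ∃ y < 32, mN k x y = 0 := by decide +kernel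

theorem pwN_17 : ∀ k < 2, ∀ i < 8, pwN k 17 i = p17 i := by decide +kernel

theorem act_cover : ∀ j < 8, j % 2 = 1 → ∃ A < 2, ∃ B < 2,
    act (8 * A + 16 * B) % 8 = j := by decide +kernel

theorem act_inj : ∀ A < 2, ∀ B < 2, ∀ A' < 2, ∀ B' < 2,
    act (8 * A + 16 * B) % 8 = act (8 * A' + 16 * B') % 8 → A = A' ∧ B = B' := by decide +kernel

theorem adjust : ∀ k < 2, ∀ c < 32, pwN k c 4 ≠ 0 → 8 ≤ c →
    ∃ j < 8, pwN k c j = 17 ∧ j % 2 = 1 := by decide +kernel

theorem shape_ok :
    let m := m64 (0, 16, 0)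
    let p := fun x (i : Nat) => (List.replicate i x).foldl m 0
    p 40 4 = 0 ∧ p 42 4 = 0 ∧ m 9 9 = 0 ∧ m 32 32 = 0 ∧ m 40 42 = m 42 40 ∧ m 32 9 = m 9 32 ∧
      m 9 40 = m 42 9 ∧ m 32 40 = m (p 40 3) 32 ∧ m 32 42 = m (p 42 3) 32 ∧
      ∀ i < 4, ∀ j < 4, m (p 40 i) (p 42 j) = 0 → i = 0 ∧ j = 0 := by decide +kernel

theorem m64_lt (T : Par) (x y : Nat) : m64 T x y < 64 := by
  have h1 := mN_lt T.1 (x % 32) (if x / 32 % 2 = 1 then img T.1 24 T.2.1 (y % 32) else y % 32)
  have h2 : ∀ w, mN T.1 w T.2.2 < 32 := fun w => mN_lt _ _ _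
  unfold m64
  dsimp only
  split_ifs
  all_goals first
    | (have := h2 (mN T.1 (x % 32) (img T.1 24 T.2.1 (y % 32))); omega)
    | (have := h2 (mN T.1 (x % 32) (y % 32)); omega)
    | (have := mN_lt T.1 (x % 32) (y % 32); have := mN_lt T.1 (x % 32) (img T.1 24 T.2.1 (y % 32)); omega)

end CfsgLib.M12Type.Eight
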