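import Mathlib.Data.List.Range
import Mathlib.Data.Nat.Bitwise

/-!
Codes for the 2-groups of order 64 with a self-centralising element of order eight conjugate to all
its odd powers, and certificates that only one of them admits two classes of involutions.
The number `i + 8 a + 16 b + 32 e` stands for `f ^ i * a ^ a * b ^ b * g ^ e`.
-/

set_option autoImplicit false
set_option maxRecDepth 100000

namespace CfsgLib.M12Type.Eight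

/-- The exponent of the action of `a ^ A * b ^ B` on `f`. -/
def act (x : Nat) : Nat := (if x / 8 % 2 = 1 then 7 else 1) * (if x / 16 % 2 = 1 then 5 else 1)

/-- Multiplication in the normaliser of order 32. -/
def mN (k x y : Nat) : Nat :=
  (x % 8 + act x * (y % 8) + (if x / 8 % 2 = 1 ∧ y / 8 % 2 = 1 then 4 * k else 0)) % 8 +
    8 * ((x / 8 % 2 + y / 8 % 2) % 2) + 16 * ((x / 16 % 2 + y / 16 % 2) % 2)

/-- Powers in the normaliser. -/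
def pwN (k x : Nat) : Nat → Nat
  | 0 => 0
  | i + 1 => mN k (pwN k x i) x

/-- Powers of `f * b`. -/
def p17 (i : Nat) : Nat :=
  if i % 2 = 1 then (6 * (i / 2) + 1) % 8 + 16 else 6 * (i / 2) % 8

/-- The conjugation by `g`, given the images of `a` and `b`. -/
def img (k ga gb y : Nat) : Nat :=
  mN k (mN k (p17 (y % 8)) (if y / 8 % 2 = 1 then ga else 0)) (if y / 16 % 2 = 1 then gb else 0)

/-- A structure: the parameter `k`, the image of `b` and the square of `g`. -/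
abbrev Par := Nat × Nat × Nat

/-- Multiplication of codes. -/
def m64 (T : Par) (x y : Nat) : Nat :=
  let w := mN T.1 (x % 32) (if x / 32 % 2 = 1 then img T.1 24 T.2.1 (y % 32) else y % 32)
  (if x / 32 % 2 = 1 ∧ y / 32 % 2 = 1 then mN T.1 w T.2.2 else w) +
    32 * ((x / 32 % 2 + y / 32 % 2) % 2)

/-- The inverse of a code. -/
def inv64 (T : Par) (x : Nat) : Nat :=
  let x2 := m64 T x x
  let x4 := m64 T x2 x2
  m64 T x4 (m64 T x2 x)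

/-- Class representatives, classes, conjugating codes, involutions, certificates. -/
structure Cert where
  /-- Representatives. -/
  reps : List Nat
  /-- The index of the class. -/
  idx : List Nat
  /-- Conjugating codes. -/
  wit : List Nat
  /-- The involutions. -/
  invs : List Nat
  /-- The refutations of the labellings. -/
  bad : List (Nat × Nat)

/-- The label of an involution: conjugate to the central one. -/
def lab (C : Cert) (mask y : Nat) : Bool :=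
  let i := C.idx.getD y 0
  i == 0 || mask / 2 ^ (i - 1) % 2 == 1

/-- The class of a code: an involution conjugate to the central one, another involution, or neither. -/
def lv (C : Cert) (mask y : Nat) : Nat :=
  if C.invs.contains y then (if lab C mask y then 1 else 0) else 2

/-- The invariant of `x` relative to the involution `t`. -/
def key (T : Par) (C : Cert) (mask t x : Nat) : Nat :=
  ((lv C mask (m64 T x x) * 3 + lv C mask x) * 3 + lv C mask (m64 T x t)) * 2 +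
    (if m64 T x x = t then 1 else 0)

/-- The elements of the centraliser of `t` with given invariant. -/
def cnt (T : Par) (C : Cert) (mask t κ : Nat) : Nat :=
  ((List.range 64).filter fun x =>
    m64 T x t == m64 T t x && key T C mask t x == κ).length

/-- The certificate refutes a labelling. -/
def badOK (T : Par) (C : Cert) (mask : Nat) : Bool :=
  (C.invs.all fun y => lab C mask y) || (C.invs.all fun y => y == 4 || !(lab C mask y)) ||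
    let p := C.bad.getD mask (0, 0)
    C.invs.contains p.1 && lab C mask p.1 && Nat.blt (cnt T C mask 4 p.2) (cnt T C mask p.1 p.2)

/-- The certificate is valid. -/
def Cert.ok (T : Par) (C : Cert) : Bool :=
  ((List.range 64).filter fun x => x != 0 && m64 T x x == 0) == C.invs &&
    (C.invs.all fun y => Nat.blt (C.idx.getD y 0) C.reps.length && Nat.blt (C.wit.getD y 0) 64 &&
      m64 T (C.wit.getD y 0) (C.reps.getD (C.idx.getD y 0) 0) == m64 T y (C.wit.getD y 0)) &&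
    C.reps.getD 0 0 == 4 && Nat.blt C.reps.length 7 &&
    ((List.range 64).all fun x => m64 T 4 x == m64 T x 4) &&
    (List.range 32).all fun mask => badOK T C mask

/-- The certificate for `(0, 16, 4)`. -/
def cert0 : Cert :=
  ⟨[4, 8, 9, 16, 43], [0, 0, 0, 0, 0, 0, 0, 0, 1, 2, 1, 2, 1, 2, 1, 2, 3, 0, 0, 0, 3, 0, 0, 0, 1, 0, 1, 0, 1, 0, 1, 0, 0, 0, 0, 0, 0, 0, 0, 0, 0, 0, 0, 4, 0, 0, 0, 4, 0, 0, 0, 0, 0, 0, 0, 0, 0, 4, 0, 0, 0, 4, 0, 0], [0, 0, 0, 0, 0, 0, 0, 0, 0, 0, 1, 1, 2, 2, 3, 3, 0, 0, 0, 0, 1, 0, 0, 0, 32, 0, 35, 0, 34, 0, 33, 0, 0, 0, 0, 0, 0, 0, 0, 0, 0, 0, 0, 0, 0, 0, 0, 9, 0, 0, 0, 0, 0, 0, 0, 0, 0, 1, 0, 0, 0, 8, 0, 0], [4, 8, 9, 10, 11, 12, 13, 14, 15, 16, 20, 24, 26, 28, 30, 43, 47, 57, 61], [(0, 0), (8, 38), (9, 34), (8, 38), (16, 34), (16, 34), (9, 34), (9, 34), (43, 34), (8, 38), (9, 34), (8, 38), (16, 34), (16, 34), (9, 34),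 (0, 0), (0, 0), (8, 38), (9, 34), (8, 38), (16, 34), (16, 34), (9, 34), (9, 34), (43, 34), (8, 38), (9, 34), (8, 38), (16, 34), (16, 34), (9, 34), (0, 0)]⟩

theorem cert0_ok : cert0.ok (0, 16, 4) = true := by decide +kernel

/-- The certificate for `(0, 20, 18)`. -/
def cert1 : Cert :=
  ⟨[4, 8, 9, 16], [0, 0, 0, 0, 0, 0, 0, 0, 1, 2, 1, 2, 1, 2, 1, 2, 3, 0, 0, 0, 3, 0, 0, 0, 1, 0, 1, 0, 1, 0, 1, 0, 0, 0, 0, 0, 0, 0, 0, 0, 0, 0, 0, 0, 0, 0, 0, 0, 0, 0, 0, 0, 0, 0, 0, 0, 0, 0, 0, 0, 0, 0, 0, 0], [0, 0, 0, 0, 0, 0, 0, 0, 0, 0, 1, 1, 2, 2, 3, 3, 0, 0, 0, 0, 1, 0, 0, 0, 32, 0, 35, 0, 34, 0, 33, 0, 0, 0, 0, 0, 0, 0, 0, 0, 0, 0, 0, 0, 0, 0, 0, 0, 0, 0, 0, 0, 0, 0, 0, 0, 0, 0, 0, 0, 0, 0, 0, 0], [4, 8, 9, 10, 11, 12, 13, 14, 15, 16, 20, 24, 26, 28, 30], [(0, 0), (8, 38), (9, 34), (8, 38), (16, 34), (16, 34), (9, 34), (0, 0), (0, 0), (8, 38), (9, 34), (8,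 38), (16, 34), (16, 34), (9, 34), (0, 0), (0, 0), (8, 38), (9, 34), (8, 38), (16, 34), (16, 34), (9, 34), (0, 0), (0, 0), (8, 38), (9, 34), (8, 38), (16, 34), (16, 34), (9, 34), (0, 0)]⟩

theorem cert1_ok : cert1.ok (0, 20, 18) = true := by decide +kernel

/-- The certificate for `(0, 20, 22)`. -/
def cert2 : Cert :=
  ⟨[4, 8, 9, 16, 33], [0, 0, 0, 0, 0, 0, 0, 0, 1, 2, 1, 2, 1, 2, 1, 2, 3, 0, 0, 0, 3, 0, 0, 0, 1, 0, 1, 0, 1, 0, 1, 0, 0, 4, 0, 4, 0, 4, 0, 4, 0, 0, 0, 0, 0, 0, 0, 0, 0, 4, 0, 4, 0, 4, 0, 4, 0, 0, 0, 0, 0, 0, 0, 0], [0, 0, 0, 0, 0, 0, 0, 0, 0, 0, 1, 1, 2, 2, 3, 3, 0, 0, 0, 0, 1, 0, 0, 0, 32, 0, 35, 0, 34, 0, 33, 0, 0, 0, 0, 11, 0, 2, 0, 9, 0, 0, 0, 0, 0, 0, 0, 0, 0, 3, 0, 10, 0, 1, 0, 8, 0, 0, 0, 0, 0, 0, 0, 0], [4, 8, 9, 10, 11, 12, 13, 14, 15, 16, 20, 24, 26, 28, 30, 33, 35, 37, 39, 49, 51, 53, 55], [(0, 0), (8, 38), (9, 34), (8, 38),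 (16, 34), (16, 34), (9, 34), (9, 34), (33, 38), (8, 38), (9, 34), (8, 38), (16, 34), (16, 34), (9, 34), (0, 0), (0, 0), (8, 38), (9, 34), (8, 38), (16, 34), (16, 34), (9, 34), (9, 34), (33, 38), (8, 38), (9, 34), (8, 38), (16, 34), (16, 34), (9, 34), (0, 0)]⟩

theorem cert2_ok : cert2.ok (0, 20, 22) = true := by decide +kernel

/-- The certificate for `(1, 16, 0)`. -/
def cert3 : Cert :=
  ⟨[4, 16, 25, 32, 34, 43], [0, 0, 0, 0, 0, 0, 0, 0, 0, 0, 0, 0, 0, 0, 0, 0, 1, 0, 0, 0, 1, 0, 0, 0, 0, 2, 0, 2, 0, 2, 0, 2, 3, 0, 4, 0, 3, 0, 4, 0, 0, 0, 0, 5, 0, 0, 0, 5, 3, 0, 4, 0, 3, 0, 4, 0, 0, 5, 0, 0, 0, 5, 0, 0], [0, 0, 0, 0, 0, 0, 0, 0, 0, 0, 0, 0, 0, 0, 0, 0, 0, 0, 0, 0, 1, 0, 0, 0, 0, 0, 0, 3, 0, 2, 0, 1, 0, 0, 0, 0, 2, 0, 2, 0, 0, 0, 0, 0, 0, 0, 0, 9, 3, 0, 3, 0, 1, 0, 1, 0, 0, 1, 0, 0, 0, 8, 0, 0], [4, 16, 20, 25, 27, 29, 31, 32, 34, 36, 38, 43, 47,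 48, 50, 52, 54, 57, 61], [(0, 0), (16, 34), (25, 34), (16, 34), (32, 34), (16, 34), (25, 34), (16, 34), (34, 34), (16, 34), (25, 34), (16, 34), (32, 34), (16, 34), (25, 34), (16, 34), (43, 34), (16, 34), (25, 34), (16, 34), (32, 34), (16, 34), (25, 34), (16, 34), (34, 34), (16, 34), (25, 34), (16, 34), (32, 34), (16, 34), (25, 34), (0, 0)]⟩

theorem cert3_ok : cert3.ok (1, 16, 0) = true := by decide +kernel

/-- The certificate for `(1, 16, 4)`. -/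
def cert4 : Cert :=
  ⟨[4, 16, 25, 41], [0, 0, 0, 0, 0, 0, 0, 0, 0, 0, 0, 0, 0, 0, 0, 0, 1, 0, 0, 0, 1, 0, 0, 0, 0, 2, 0, 2, 0, 2, 0, 2, 0, 0, 0, 0, 0, 0, 0, 0, 0, 3, 0, 0, 0, 3, 0, 0, 0, 0, 0, 0, 0, 0, 0, 0, 0, 0, 0, 3, 0, 0, 0, 3], [0, 0, 0, 0, 0, 0, 0, 0, 0, 0, 0, 0, 0, 0, 0, 0, 0, 0, 0, 0, 1, 0, 0, 0, 0, 0, 0, 3, 0, 2, 0, 1, 0, 0, 0, 0, 0, 0, 0, 0, 0, 0, 0, 0, 0, 16, 0, 0, 0, 0, 0, 0, 0, 0, 0, 0, 0, 0, 0, 17, 0, 0, 0, 1], [4, 16, 20, 25, 27, 29, 31, 41, 45, 59, 63], [(0, 0), (16, 34), (25, 34), (16, 34), (41, 34), (16, 34), (25, 34), (0, 0), (0, 0), (16, 34), (25, 34), (16, 34), (41, 34), (16, 34), (25, 34), (0, 0), (0, 0), (16, 34), (25, 34), (16, 34), (41, 34), (16, 34), (25, 34), (0, 0), (0, 0), (16, 34), (25, 34), (16, 34), (41, 34), (16, 34), (25, 34), (0, 0)]⟩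

theorem cert4_ok : cert4.ok (1, 16, 4) = true := by decide +kernel

/-- The certificate for `(1, 20, 18)`. -/
def cert5 : Cert :=
  ⟨[4, 16, 25], [0, 0, 0, 0, 0, 0, 0, 0, 0, 0, 0, 0, 0, 0, 0, 0, 1, 0, 0, 0, 1, 0, 0, 0, 0, 2, 0, 2, 0, 2, 0, 2, 0, 0, 0, 0, 0, 0, 0, 0, 0, 0, 0, 0, 0, 0, 0, 0, 0, 0, 0, 0, 0, 0, 0, 0, 0, 0, 0, 0, 0, 0, 0, 0], [0, 0, 0, 0, 0, 0, 0, 0, 0, 0, 0, 0, 0, 0, 0, 0, 0, 0, 0, 0, 1, 0, 0, 0, 0, 0, 0, 3, 0, 2, 0, 1, 0, 0, 0, 0, 0, 0, 0, 0, 0, 0, 0, 0, 0, 0, 0, 0, 0, 0, 0, 0, 0, 0, 0, 0, 0, 0, 0, 0, 0, 0, 0, 0], [4, 16, 20, 25, 27, 29, 31], [(0, 0), (16, 34), (25, 34), (0, 0), (0, 0), (16, 34), (25, 34), (0, 0), (0, 0), (16, 34), (25, 34), (0, 0), (0, 0), (16, 34), (25, 34), (0, 0), (0, 0), (16, 34), (25, 34), (0, 0), (0, 0), (16, 34), (25, 34), (0, 0), (0, 0), (16, 34), (25, 34), (0, 0), (0, 0), (16, 34), (25, 34), (0, 0)]⟩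

theorem cert5_ok : cert5.ok (1, 20, 18) = true := by decide +kernel

/-- The certificate for `(1, 20, 22)`. -/
def cert6 : Cert :=
  ⟨[4, 16, 25, 33], [0, 0, 0, 0, 0, 0, 0, 0, 0, 0, 0, 0, 0, 0, 0, 0, 1, 0, 0, 0, 1, 0, 0, 0, 0, 2, 0, 2, 0, 2, 0, 2, 0, 3, 0, 3, 0, 3, 0, 3, 0, 0, 0, 0, 0, 0, 0, 0, 0, 3, 0, 3, 0, 3, 0, 3, 0, 0, 0, 0, 0, 0, 0, 0], [0, 0, 0, 0, 0, 0, 0, 0, 0, 0, 0, 0, 0, 0, 0, 0, 0, 0, 0, 0, 1, 0, 0, 0, 0, 0, 0, 3, 0, 2, 0, 1, 0, 0, 0, 11, 0, 2, 0, 9, 0, 0, 0, 0, 0, 0, 0, 0, 0, 3, 0, 10, 0, 1, 0, 8, 0, 0, 0, 0, 0, 0, 0, 0], [4, 16, 20, 25, 27, 29, 31, 33, 35, 37, 39, 49, 51, 53, 55], [(0, 0), (16, 34), (25, 34), (16, 34), (33, 38), (16, 34), (25, 34), (0, 0), (0, 0), (16, 34), (25, 34), (16, 34), (33, 38), (16, 34), (25, 34), (0, 0), (0, 0), (16, 34), (25, 34), (16, 34), (33, 38), (16, 34), (25, 34), (0, 0), (0, 0), (16, 34), (25, 34),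 (16, 34), (33, 38), (16, 34), (25, 34), (0, 0)]⟩

theorem cert6_ok : cert6.ok (1, 20, 22) = true := by decide +kernel

end CfsgLib.M12Type.Eight
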